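import Cfsg.Agent.Lib.MaxSub.SpEightSymp.Conj
import Cfsg.Agent.Lib.ClassK.Symplectic
import Cfsg.Agent.Lib.Aschbacher.SympType

/-!
The normaliser of a group of symplectic type of order `128` of minus type is maximal in `Sp_8(p)`.
-/

set_option autoImplicit false
set_option linter.unusedSectionVars false
set_option linter.style.haveILetI false
set_option maxRecDepth 100000

namespace CfsgLib.MaxSub.SpEightSymp

open Matrix Module Cfsg.Geo
open scoped MatrixGroups commutatorElement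

variable {F : Type*} [Field F] [Fintype F]

/-- maximality transported along an isomorphism -/
theorem isMaximalIn_map {G G' : Type*} [Group G] [Group G'] (f : G ≃* G') {K H : Subgroup G}
    (hlt : H < K) (h : ∀ M : Subgroup G, H ≤ M → M ≤ K → M = H ∨ M = K) :
    IsMaximalIn (K.map f.toMonoidHom) (H.map f.toMonoidHom) := by
  refine ⟨⟨Subgroup.map_mono hlt.le, fun hle => hlt.2 fun x hx => ?_⟩, fun M h1 h2 => ?_⟩
  · exact (Subgroup.mem_map_iff_mem (f := f.toMonoidHom) f.injective).1 (hle ⟨x, hx, rfl⟩)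
  · have e : (M.comap f.toMonoidHom).map f.toMonoidHom = M := Subgroup.map_comap_eq_self_of_surjective f.surjective M
    rcases h (M.comap f.toMonoidHom) (Subgroup.map_le_iff_le_comap.1 h1) (fun x hx => by
      obtain ⟨y, hy, hyx⟩ := h2 hx
      exact f.injective hyx ▸ hy) with e' | e'
    · exact Or.inl (by rw [← e, e'])
    · exact Or.inr (by rw [← e, e'])

/-- a unit quaternion on one plane -/
def tw : Mn 4 := ⟨id, ![1, 0, 0, 0]⟩

/-- its inverse -/
def tw' : Mn 4 := ⟨id, ![5, 0, 0, 0]⟩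

theorem tw_inv : tw.Inv tw' := by decide +kernel

theorem tw_no : ∀ v : W4, (tw.mul (wm (0, 1, 0))).mul tw' ≠ wm v := by decide +kernel

theorem Quat.N8_lt (Q : Quat F) : Q.N8 < Iso 4 F := by
  refine ⟨inf_le_right, fun h => ?_⟩
  have hg := (h (Q.mu_iso tw tw' tw_inv)).1
  obtain ⟨v, hv⟩ := (Subgroup.mem_normalizer_iff.1 hg (Q.w (0, 1, 0))).1 (Q.w_mem _)
  have e := congrArg Units.val hv.symm
  rw [Units.val_mul, Units.val_mul] at e
  change Q.mo tw * Q.mo (wm (0, 1, 0)) * Q.mo tw' = Q.mo (wm v) at e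
  rw [← Q.mo_mul, ← Q.mo_mul] at e
  exact tw_no v (Q.mo_inj e)

theorem bigU_neg_one : bigU 4 F (-1 : (Hm 4 F)ˣ) = -1 := by
  refine Units.ext ?_
  rw [bigU_val, Units.val_neg, Units.val_one, map_neg, map_one, Units.val_neg, Units.val_one]

/-- squares and commutators are signs -/
theorem sym_of_sympType {R : Subgroup (GL (Fin 4 ⊕ Fin 4) F)} (h2 : (2 : F) ≠ 0)
    (hs : IsSymplecticTypeGroup 2 R) (hirr : ActsAbsolutelyIrreducibly (matrixSet R))
    (hle : R ≤ Cfsg.spGL 4 F) (hcard : Nat.card R = 128) (hm : IsOfMinusType 3 R) :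
    Sym (R.comap (bigU 4 F).toMonoidHom) := by
  haveI : Finite R := Nat.finite_of_card_ne_zero (by omega)
  have hexp : ∀ y : R, y ^ 4 = 1 := fun y => by
    have := Monoid.pow_exponent_eq_one y
    rw [hs.exponent_eq] at this
    simpa using this
  have hc := CfsgLib.ClassK.symplectic_commutator_le_center (P := R) ⟨hs.pGroup, hs.cyclic_of_characteristic⟩ hexp
  have hcen : ∀ z ∈ R, (∀ y ∈ R, Commute z y) → z = 1 ∨ z = -1 := by
    intro z hz hzc
    obtain ⟨a, ha⟩ := hirr.2 (z : Matrix _ _ F) (by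
      rintro _ ⟨y, hy, rfl⟩; exact congrArg Units.val (hzc y hy).eq)
    obtain ⟨z', rfl⟩ := (bigU 4 F).surjective z
    have hI : hst (z' : Hm 4 F) * (z' : Hm 4 F) = 1 := mem_Iso.1 (bigU_mem.1 (hle hz))
    have e : (z' : Hm 4 F) = a • (1 : Hm 4 F) := by
      refine (big 4 F).injective ?_
      rw [← bigU_val, big_smul, map_one, ha]
    rw [e, hst_smul, hst_one, smul_mul_smul_comm, one_mul] at hI
    have h0 := congrFun (congrFun (congrFun (congrFun hI 0) 0) 0) 0
    simp at h0
    rcases mul_self_eq_one_iff.1 h0 with rfl | rfl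
    · exact Or.inl (Units.ext (by rw [ha, one_smul, Units.val_one]))
    · exact Or.inr (Units.ext (by rw [ha, neg_one_smul, Units.val_neg, Units.val_one]))
  have hz : ∀ z : R, z ∈ Subgroup.center R → (z : GL (Fin 4 ⊕ Fin 4) F) = 1 ∨ (z : GL (Fin 4 ⊕ Fin 4) F) = -1 :=
    fun z h => hcen z z.2 fun y hy => (congrArg Subtype.val (Subgroup.mem_center_iff.1 h ⟨y, hy⟩)).symm
  have hcom : ∀ x ∈ R, ∀ y ∈ R, x * y = y * x ∨ x * y = -(y * x) := by
    intro x hx y hy
    have hmem := hc (Subgroup.commutator_mem_commutator (Subgroup.mem_top (⟨x, hx⟩ : R))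
      (Subgroup.mem_top (⟨y, hy⟩ : R)))
    have hval : ((⁅(⟨x, hx⟩ : R), ⟨y, hy⟩⁆ : R) : GL (Fin 4 ⊕ Fin 4) F) = x * y * x⁻¹ * y⁻¹ := by
      rw [commutatorElement_def]; rfl
    have e : x * y = x * y * x⁻¹ * y⁻¹ * (y * x) := by group
    rcases hz _ hmem with h | h <;> rw [hval] at h
    · left; rw [e, h, one_mul]
    · right; rw [e, h, neg_one_mul]
  have hneg : (-1 : GL (Fin 4 ⊕ Fin 4) F) ∈ R := by
    by_contra hn
    have hall : ∀ x ∈ R, ∀ y ∈ R, Commute x y := fun x hx y hy => (hcom x hx y hy).resolve_right fun h => hn (by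
      have e : (-1 : GL (Fin 4 ⊕ Fin 4) F) = x * y * (y * x)⁻¹ := by rw [h, neg_mul, mul_inv_cancel]
      rw [e]
      exact mul_mem (mul_mem hx hy) (inv_mem (mul_mem hy hx)))
    have hone : ∀ x : R, x = 1 := fun x => Subtype.ext <|
      (hcen x x.2 (hall x x.2)).resolve_right fun h => hn (h ▸ x.2)
    haveI : Subsingleton R := ⟨fun a b => by rw [hone a, hone b]⟩
    have h := Finite.card_le_one_iff_subsingleton.2 ‹Subsingleton R›
    omega
  have sq' : ∀ x ∈ R, x * x = 1 ∨ x * x = -1 := by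
    intro x hx
    refine hcen _ (mul_mem hx hx) fun w hw => ?_
    rcases hcom x hx w hw with h | h
    · exact (show Commute x w from h).mul_left h
    · show x * x * w = w * (x * x)
      rw [mul_assoc, h, mul_neg, ← mul_assoc, h, neg_mul, neg_neg, mul_assoc]
  let f : R.comap (bigU 4 F).toMonoidHom ≃* R :=
    ((bigU 4 F).subgroupMap (R.comap (bigU 4 F).toMonoidHom)).trans
      (MulEquiv.subgroupCongr (Subgroup.map_comap_eq_self_of_surjective (bigU 4 F).surjective R))
  refine ⟨h2, fun g hg => bigU_mem.1 (hle hg), ?_, ?_, fun x hx => ?_, fun x hx y hy => ?_, fun x hx hxc => ?_, ?_⟩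
  · rw [Nat.card_congr f.toEquiv, hcard]
  · show bigU 4 F (-1) ∈ R
    rw [bigU_neg_one]; exact hneg
  · rcases sq' _ hx with h | h
    · exact Or.inl ((bigU 4 F).injective (by rw [map_mul, map_one]; exact h))
    · exact Or.inr ((bigU 4 F).injective (by rw [map_mul, bigU_neg_one]; exact h))
  · rcases hcom _ hx _ hy with h | h
    · exact Or.inl ((bigU 4 F).injective (by rw [map_mul, map_mul]; exact h))
    · refine Or.inr ((bigU 4 F).injective ?_)
      rw [map_mul, ← neg_one_mul (y * x), map_mul, map_mul, bigU_neg_one, neg_one_mul]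
      exact h
  · rcases hcen _ hx (fun y hy => by
      obtain ⟨y', rfl⟩ := (bigU 4 F).surjective y
      exact (hxc y' hy).map (bigU 4 F).toMonoidHom) with h | h
    · exact Or.inl ((bigU 4 F).injective (by rw [map_one]; exact h))
    · exact Or.inr ((bigU 4 F).injective (by rw [bigU_neg_one]; exact h))
  · intro A hA hsq
    haveI := hA
    have hA' : IsMulCommutative (A.map f.toMonoidHom) := ⟨⟨fun a b => Subtype.ext (by
      obtain ⟨a', ha', ea⟩ := a.2
      obtain ⟨b', hb', eb⟩ := b.2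
      show (a : R) * b = b * a
      rw [← ea, ← eb, ← map_mul, ← map_mul]
      exact congrArg f.toMonoidHom (congrArg Subtype.val (mul_comm' (⟨a', ha'⟩ : A) ⟨b', hb'⟩)))⟩⟩
    have h := hm (A.map f.toMonoidHom) hA' (by
      rintro _ ⟨a, ha, rfl⟩
      rw [← map_mul, hsq a ha, map_one])
    rwa [Subgroup.card_map_of_injective f.injective] at h

/-- maximality of the normaliser in class 6 of `Sp_8` -/
theorem sympType_maximal_eight {p : ℕ} (R : Subgroup (GL (Fin 4 ⊕ Fin 4) F)) (hp : p.Prime) (hodd : Odd p)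
    (hF : Fintype.card F = p) (hs : IsSymplecticTypeGroup 2 R) (hirr : ActsAbsolutelyIrreducibly (matrixSet R))
    (hle : R ≤ Cfsg.spGL 4 F) (hcard : Nat.card R = 128) (hm : IsOfMinusType 3 R) :
    IsMaximalIn (Cfsg.spGL 4 F) (subgroupNormalizer R ⊓ Cfsg.spGL 4 F) := by
  have h2 : (2 : F) ≠ 0 := Ring.two_ne_zero fun h => by
    have := FiniteField.even_card_of_char_two h
    rw [hF] at this
    obtain ⟨k, hk⟩ := hodd
    omega
  have hR := sym_of_sympType h2 hs hirr hle hcard hm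
  obtain ⟨z₁, w₁, z₂, w₂, i, j, hf⟩ := hR.exists_frame
  obtain ⟨Q, g, hg, hconj⟩ := hf.conj hR
  let φ : (Hm 4 F)ˣ ≃* GL (Fin 4 ⊕ Fin 4) F := (MulAut.conj g).trans (bigU 4 F)
  have hφR : Q.R8.map φ.toMonoidHom = R := by
    show Q.R8.map ((bigU 4 F).toMonoidHom.comp (MulAut.conj g).toMonoidHom) = R
    rw [← Subgroup.map_map, hconj]
    exact Subgroup.map_comap_eq_self_of_surjective (bigU 4 F).surjective R
  have hφI : (Iso 4 F).map φ.toMonoidHom = Cfsg.spGL 4 F := by
    ext x
    constructor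
    · rintro ⟨y, hy, rfl⟩
      exact bigU_mem.2 (mul_mem (mul_mem hg hy) (inv_mem hg))
    · intro hx
      obtain ⟨y, rfl⟩ := φ.surjective x
      have h := bigU_mem.1 (show bigU 4 F (g * y * g⁻¹) ∈ Cfsg.spGL 4 F from hx)
      refine ⟨y, ?_, rfl⟩
      rw [show y = g⁻¹ * (g * y * g⁻¹) * g by group]
      exact mul_mem (mul_mem (inv_mem hg) h) hg
  have hφN : Q.N8.map φ.toMonoidHom = subgroupNormalizer R ⊓ Cfsg.spGL 4 F := by
    show (Subgroup.normalizer (Q.R8 : Set (Hm 4 F)ˣ) ⊓ Iso 4 F).map φ.toMonoidHom = _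
    rw [Subgroup.map_inf _ _ _ φ.injective, hφI,
      Subgroup.map_normalizer_eq_of_bijective Q.R8 (f := φ.toMonoidHom) φ.bijective, hφR]
    rfl
  rw [← hφN, ← hφI]
  refine isMaximalIn_map φ Q.N8_lt fun M h1 h2' => Q.N8_maximal ?_ h1 h2'
  rw [hF]; exact hp

end CfsgLib.MaxSub.SpEightSymp
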