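import Cfsg.Agent.Lib.MaxSub.OmegaElem
import Cfsg.Agent.Lib.MaxSub.Symp

/-!
`Sp_{2n}` as the group of `n × n` matrices over the split quaternion algebra of `2 × 2` matrices
preserving the standard hermitian form, for the symplectic-type subgroups of `Sp_8`.
-/

set_option autoImplicit false
set_option linter.unusedSectionVars false

namespace CfsgLib.MaxSub.SpEightSymp

open Matrix Module
open scoped MatrixGroups

/-- `2 × 2` matrices -/
abbrev M2 (F : Type*) := Matrix (Fin 2) (Fin 2) F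
/-- matrices over `M2` -/
abbrev Hm (n : ℕ) (F : Type*) := Matrix (Fin n) (Fin n) (M2 F)
/-- the ambient space -/
abbrev Vec (n : ℕ) (F : Type*) := Fin n ⊕ Fin n → F

variable {F : Type*} [Field F] {n : ℕ}

/-- pair a plane index and a coordinate -/
def pairIx (n : ℕ) : Fin n × Fin 2 ≃ Fin n ⊕ Fin n where
  toFun p := if p.2 = 0 then Sum.inl p.1 else Sum.inr p.1
  invFun s := Sum.elim (fun k => (k, 0)) (fun k => (k, 1)) s
  left_inv := fun ⟨k, c⟩ => by fin_cases c <;> simp
  right_inv := fun s => by rcases s with s | s <;> simp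

/-- the block identification -/
def big (n : ℕ) (F : Type*) [Field F] : Hm n F ≃+* Matrix (Fin n ⊕ Fin n) (Fin n ⊕ Fin n) F :=
  (compRingEquiv (Fin n) (Fin 2) F).trans (Matrix.reindexRingEquiv F (pairIx n))

theorem big_apply (m : Hm n F) (k l : Fin n) (c d : Fin 2) :
    big n F m (pairIx n (k, c)) (pairIx n (l, d)) = m k l c d := by
  simp [big, Matrix.reindexRingEquiv, Matrix.reindexAlgEquiv]

theorem big_smul (a : F) (m : Hm n F) : big n F (a • m) = a • big n F m := by
  ext i j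
  obtain ⟨⟨k, c⟩, rfl⟩ := (pairIx n).surjective i
  obtain ⟨⟨l, d⟩, rfl⟩ := (pairIx n).surjective j
  simp [big_apply, Matrix.smul_apply]

/-- the adjoint for the symplectic form -/
def hst (m : Hm n F) : Hm n F := m.transpose.map Matrix.adjugate

theorem hst_apply (m : Hm n F) (k l : Fin n) : hst m k l = (m l k).adjugate := rfl

theorem adj_add (X Y : M2 F) : (X + Y).adjugate = X.adjugate + Y.adjugate := by
  simp only [adjugate_fin_two]
  ext i j; fin_cases i <;> fin_cases j <;> simp [add_comm]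

theorem adj_smul (a : F) (X : M2 F) : (a • X).adjugate = a • X.adjugate := by
  simp only [adjugate_fin_two]
  ext i j; fin_cases i <;> fin_cases j <;> simp

theorem adj_neg (X : M2 F) : (-X).adjugate = -X.adjugate := by
  rw [← neg_one_smul F X, adj_smul, neg_one_smul]

theorem adj_adj (X : M2 F) : X.adjugate.adjugate = X := by
  simp only [adjugate_fin_two]
  ext i j; fin_cases i <;> fin_cases j <;> simp

theorem hst_hst (m : Hm n F) : hst (hst m) = m := by
  refine Matrix.ext fun i j => ?_; simp [hst_apply, adj_adj]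

theorem hst_add (a b : Hm n F) : hst (a + b) = hst a + hst b := by
  refine Matrix.ext fun i j => ?_; simp [hst_apply, adj_add]

theorem hst_neg (a : Hm n F) : hst (-a) = -hst a := by
  refine Matrix.ext fun i j => ?_; simp [hst_apply, adj_neg]

theorem hst_sub (a b : Hm n F) : hst (a - b) = hst a - hst b := by
  rw [sub_eq_add_neg, hst_add, hst_neg, ← sub_eq_add_neg]

theorem hst_smul (c : F) (a : Hm n F) : hst (c • a) = c • hst a := by
  refine Matrix.ext fun i j => ?_; simp [hst_apply, adj_smul]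

theorem hst_one : hst (1 : Hm n F) = 1 := by
  refine Matrix.ext fun i j => ?_
  rw [hst_apply, Matrix.one_apply, Matrix.one_apply]
  by_cases h : i = j
  · subst h; simp
  · simp [h, Ne.symm h]

theorem hst_mul (a b : Hm n F) : hst (a * b) = hst b * hst a := by
  refine Matrix.ext fun i j => ?_
  rw [hst_apply, Matrix.mul_apply, Matrix.mul_apply]
  let φ : M2 F →+ M2 F := AddMonoidHom.mk' Matrix.adjugate adj_add
  show φ (∑ k, a j k * b k i) = _
  rw [map_sum]
  exact Finset.sum_congr rfl fun k _ => adjugate_mul_distrib _ _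

/-- the standard form -/
abbrev frm (n : ℕ) (F : Type*) [Field F] : Vec n F → Vec n F → F := Cfsg.sympForm n F

theorem frm_eq (u v : Vec n F) :
    frm n F u v = ∑ k, (u (Sum.inr k) * v (Sum.inl k) - u (Sum.inl k) * v (Sum.inr k)) := by
  show u ⬝ᵥ (Matrix.J (Fin n) F *ᵥ v) = _
  simp [dotProduct, Matrix.J, Fintype.sum_sum_type, Matrix.fromBlocks_mulVec, Finset.sum_add_distrib,
    Finset.sum_sub_distrib, Matrix.neg_mulVec]
  ring

theorem big_hst_J (m : Hm n F) :
    (big n F m)ᵀ * Matrix.J (Fin n) F = Matrix.J (Fin n) F * big n F (hst m) := by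
  ext i j
  obtain ⟨⟨k, c⟩, rfl⟩ := (pairIx n).surjective i
  obtain ⟨⟨l, d⟩, rfl⟩ := (pairIx n).surjective j
  simp only [Matrix.mul_apply, transpose_apply]
  rw [← Equiv.sum_comp (pairIx n), ← Equiv.sum_comp (pairIx n), Fintype.sum_prod_type, Fintype.sum_prod_type]
  simp only [big_apply, hst_apply, adjugate_fin_two]
  fin_cases c <;> fin_cases d <;>
    simp [pairIx, Matrix.J, Matrix.fromBlocks, Matrix.one_apply, Fin.sum_univ_two, eq_comm]

theorem frm_adj (m : Hm n F) (u v : Vec n F) :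
    frm n F (big n F m *ᵥ u) v = frm n F u (big n F (hst m) *ᵥ v) := by
  show (big n F m *ᵥ u) ⬝ᵥ (Matrix.J (Fin n) F *ᵥ v) = u ⬝ᵥ (Matrix.J (Fin n) F *ᵥ (big n F (hst m) *ᵥ v))
  rw [mulVec_mulVec, ← big_hst_J, ← mulVec_mulVec, dotProduct_mulVec u, vecMul_transpose]

theorem frm_sep (x : Vec n F) (h : ∀ y, frm n F x y = 0) : x = 0 :=
  CfsgLib.Geom.sympBilin_sep x fun y => by rw [CfsgLib.Geom.sympBilin_apply]; exact h y

/-- the isometries -/
def Iso (n : ℕ) (F : Type*) [Field F] : Subgroup (Hm n F)ˣ where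
  carrier := {g | hst (g : Hm n F) * (g : Hm n F) = 1}
  one_mem' := by simp [hst_one]
  mul_mem' := by
    intro a b (ha : hst (a : Hm n F) * (a : Hm n F) = 1) (hb : hst (b : Hm n F) * (b : Hm n F) = 1)
    show hst ((a : Hm n F) * (b : Hm n F)) * ((a : Hm n F) * (b : Hm n F)) = 1
    rw [hst_mul, mul_assoc, ← mul_assoc (hst (a : Hm n F)), ha, one_mul, hb]
  inv_mem' := by
    intro a (ha : hst (a : Hm n F) * (a : Hm n F) = 1)
    have he : hst (a : Hm n F) = ((a⁻¹ : (Hm n F)ˣ) : Hm n F) := Units.mul_eq_one_iff_eq_inv.1 ha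
    show hst ((a⁻¹ : (Hm n F)ˣ) : Hm n F) * _ = 1
    rw [← he, hst_hst, he, Units.mul_inv]

theorem mem_Iso {g : (Hm n F)ˣ} : g ∈ Iso n F ↔ hst (g : Hm n F) * (g : Hm n F) = 1 := Iff.rfl

theorem Iso.hst_eq {g : (Hm n F)ˣ} (h : g ∈ Iso n F) : hst (g : Hm n F) = ((g⁻¹ : (Hm n F)ˣ) : Hm n F) :=
  Units.mul_eq_one_iff_eq_inv.1 h

theorem Iso.self_adj {g : (Hm n F)ˣ} (h : g ∈ Iso n F) (h2 : g * g = 1) : hst (g : Hm n F) = g := by
  rw [Iso.hst_eq h, inv_eq_of_mul_eq_one_right h2]

/-- the identification of groups -/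
def bigU (n : ℕ) (F : Type*) [Field F] : (Hm n F)ˣ ≃* GL (Fin n ⊕ Fin n) F :=
  Units.mapEquiv (big n F).toMulEquiv

theorem bigU_val (g : (Hm n F)ˣ) : (bigU n F g : Matrix (Fin n ⊕ Fin n) (Fin n ⊕ Fin n) F) = big n F g := rfl

theorem bigU_mem {g : (Hm n F)ˣ} : bigU n F g ∈ Cfsg.spGL n F ↔ g ∈ Iso n F := by
  constructor
  · intro h
    refine (big n F).injective (Matrix.ext_of_mulVec_single fun i => ?_)
    rw [map_one, one_mulVec, map_mul, ← mulVec_mulVec]
    refine sub_eq_zero.1 (frm_sep _ fun y => ?_)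
    have e : ∀ x y, frm n F (big n F (g : Hm n F) *ᵥ x) (big n F (g : Hm n F) *ᵥ y) = frm n F x y := h
    have e2 := frm_adj (hst (g : Hm n F)) (big n F (g : Hm n F) *ᵥ Pi.single i 1) y
    rw [hst_hst, e] at e2
    rw [sub_eq_add_neg, ← neg_one_smul F (Pi.single i 1)]
    show Cfsg.sympForm n F _ y = 0
    rw [CfsgLib.MaxSub.sympForm_add_left, CfsgLib.MaxSub.sympForm_smul_left]
    show frm n F _ y + -1 * frm n F _ y = 0
    rw [e2]
    ring
  · intro h x y
    show frm n F (big n F (g : Hm n F) *ᵥ x) (big n F (g : Hm n F) *ᵥ y) = frm n F x y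
    rw [frm_adj, mulVec_mulVec, ← map_mul, mem_Iso.1 h, map_one, one_mulVec]

/-- the range of a block matrix -/
abbrev rg (m : Hm n F) : Submodule F (Vec n F) := LinearMap.range (Matrix.toLin' (big n F m))

/-- the fixed space -/
abbrev fixd (m : Hm n F) : Submodule F (Vec n F) := LinearMap.ker (Matrix.toLin' (big n F (m - 1)))

theorem mem_fixd {m : Hm n F} {v : Vec n F} : v ∈ fixd m ↔ big n F m *ᵥ v = v := by
  rw [LinearMap.mem_ker, toLin'_apply, map_sub, map_one, sub_mulVec, one_mulVec, sub_eq_zero]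

theorem rg_mul_le (a b : Hm n F) : rg (a * b) ≤ rg a := by
  rintro _ ⟨v, rfl⟩
  exact ⟨big n F b *ᵥ v, by simp only [toLin'_apply, map_mul, mulVec_mulVec]⟩

theorem mem_rg_idem {P : Hm n F} (h : P * P = P) {v : Vec n F} : v ∈ rg P ↔ big n F P *ᵥ v = v := by
  constructor
  · rintro ⟨w, rfl⟩
    rw [toLin'_apply, mulVec_mulVec, ← map_mul, h]
  · exact fun h' => ⟨v, h'⟩

theorem eq_of_rg_idem {P Q : Hm n F} (hP : P * P = P) (hle : rg Q ≤ rg P) : P * Q = Q :=
  (big n F).injective (Matrix.ext_of_mulVec_single fun i => by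
    rw [map_mul, ← mulVec_mulVec]
    exact (mem_rg_idem hP).1 (hle ⟨_, rfl⟩))

/-- a self-adjoint idempotent has image of even dimension -/
theorem even_rank [Fintype F] {P : Hm n F} (h : P * P = P) (hs : hst P = P) : Even (finrank F (rg P)) := by
  let B : rg P →ₗ[F] rg P →ₗ[F] F := LinearMap.mk₂ F (fun x y => frm n F (x : Vec n F) y)
    (fun a b c => CfsgLib.MaxSub.sympForm_add_left _ _ _) (fun c a b => CfsgLib.MaxSub.sympForm_smul_left c _ _)
    (fun a b c => CfsgLib.MaxSub.sympForm_add_right _ _ _) (fun c a b => CfsgLib.MaxSub.sympForm_smul_right c _ _)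
  refine CfsgLib.MaxSub.OmegaElem.even_finrank_of_alt B (fun x => CfsgLib.MaxSub.sympForm_self _) fun x hx => ?_
  refine Subtype.ext (frm_sep _ fun y => ?_)
  have := hx ⟨big n F P *ᵥ y, ⟨y, rfl⟩⟩
  rw [LinearMap.mk₂_apply] at this
  obtain ⟨xv, hxm⟩ := x
  have e : frm n F xv (big n F P *ᵥ y) = frm n F xv y := by
    have e1 := frm_adj P xv y
    rw [hs, (mem_rg_idem h).1 hxm] at e1
    exact e1.symm
  exact e.symm.trans this

theorem finrank_vec : finrank F (Vec n F) = 2 * n := by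
  rw [finrank_fintype_fun_eq_card, Fintype.card_sum, Fintype.card_fin]; omega

end CfsgLib.MaxSub.SpEightSymp
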