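import Cfsg.Agent.Lib.MaxSub.SpEightSymp.TwoMax

/-!
Involutions of the normaliser in degree two, and elements acting trivially on one of their eigenspaces.
-/

set_option autoImplicit false
set_option linter.unusedSectionVars false

namespace CfsgLib.MaxSub.SpEightSymp

open Matrix Module
open scoped MatrixGroups

variable {F : Type*} [Field F] (Q : Quat F)

theorem proj_idem (h2 : (2 : F) ≠ 0) {n : ℕ} {g : Hm n F} (hg : g * g = 1) :
    ((2 : F)⁻¹ • (1 + g)) * ((2 : F)⁻¹ • (1 + g)) = (2 : F)⁻¹ • (1 + g) := by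
  rw [smul_mul_smul_comm, add_mul, one_mul, mul_add, mul_one, hg]
  match_scalars <;> field_simp <;> ring

theorem proj_adj {n : ℕ} {g : Hm n F} (hg : hst g = g) : hst ((2 : F)⁻¹ • (1 + g)) = (2 : F)⁻¹ • (1 + g) := by
  rw [hst_smul, hst_add, hst_one, hg]

/-- an involution other than a sign has two eigenspaces of dimension two -/
theorem rank_two [Fintype F] (h2 : (2 : F) ≠ 0) {r : (Hm 2 F)ˣ} (hr : r ∈ Iso 2 F) (h : r * r = 1)
    (h1 : r ≠ 1) (hn : r ≠ -1) : finrank F (rg ((2 : F)⁻¹ • (1 + (r : Hm 2 F)))) = 2 := by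
  have hm : (r : Hm 2 F) * r = 1 := by rw [← Units.val_mul, h, Units.val_one]
  obtain ⟨P, hP⟩ : ∃ P, P = (2 : F)⁻¹ • (1 + (r : Hm 2 F)) := ⟨_, rfl⟩
  rw [← hP]
  have hi : P * P = P := hP ▸ proj_idem h2 hm
  have he := even_rank hi (hP ▸ proj_adj (Iso.self_adj hr h))
  have hle := Submodule.finrank_le (rg P)
  rw [finrank_vec] at hle
  have hne0 : finrank F (rg P) ≠ 0 := by
    intro h0
    rw [Submodule.finrank_eq_zero] at h0
    have hP0 : big 2 F P = 0 := Matrix.toLin'.injective (by rw [LinearMap.range_eq_bot.1 h0, map_zero])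
    have hP0' : P = 0 := (big 2 F).injective (hP0.trans (map_zero _).symm)
    rw [hP, smul_eq_zero, inv_eq_zero] at hP0'
    exact hn (Units.ext (by rw [Units.val_neg, Units.val_one]; exact eq_neg_of_add_eq_zero_right (hP0'.resolve_left h2)))
  have hne4 : finrank F (rg P) ≠ 4 := by
    intro h4
    have htop : rg P = ⊤ := Submodule.eq_top_of_finrank_eq (by rw [h4, finrank_vec])
    have h1' : P * 1 = 1 := eq_of_rg_idem hi (by rw [htop]; exact le_top)
    rw [mul_one, hP] at h1'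
    refine h1 (Units.ext ?_)
    rw [Units.val_one]
    have := congrArg (fun X => (2 : F) • X) h1'
    simp only [smul_smul, mul_inv_cancel₀ h2, one_smul, two_smul] at this
    exact add_left_cancel this
  obtain ⟨c, hc⟩ := he
  omega

/-- an isometric involution commuting with a splitting involution is a sign on each side -/
theorem side_sign [Fintype F] (h2 : (2 : F) ≠ 0) {r E : (Hm 2 F)ˣ} (hr : r ∈ Iso 2 F) (h : r * r = 1)
    (h1 : r ≠ 1) (hn : r ≠ -1) (hE : E ∈ Iso 2 F) (hEE : E * E = 1) (hc : Commute E r) :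
    (E : Hm 2 F) * (1 + r) = (1 : Hm 2 F) + r ∨ (E : Hm 2 F) * (1 + r) = -((1 : Hm 2 F) + r) := by
  obtain ⟨p, hp⟩ : ∃ p, p = (2 : F)⁻¹ • (1 + (r : Hm 2 F)) := ⟨_, rfl⟩
  obtain ⟨q, hq⟩ : ∃ q, q = (2 : F)⁻¹ • (1 + (E : Hm 2 F)) := ⟨_, rfl⟩
  have hm : (r : Hm 2 F) * r = 1 := by rw [← Units.val_mul, h, Units.val_one]
  have hmE : (E : Hm 2 F) * E = 1 := by rw [← Units.val_mul, hEE, Units.val_one]
  have hcm : (E : Hm 2 F) * r = r * E := by rw [← Units.val_mul, hc.eq, Units.val_mul]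
  have hpp : p * p = p := hp ▸ proj_idem h2 hm
  have hqq : q * q = q := hq ▸ proj_idem h2 hmE
  have hcom : q * p = p * q := by
    have e : (1 + (E : Hm 2 F)) * (1 + (r : Hm 2 F)) = (1 + (r : Hm 2 F)) * (1 + (E : Hm 2 F)) := by
      simp only [add_mul, mul_add, one_mul, mul_one, hcm]
      abel
    rw [hp, hq, smul_mul_smul_comm, smul_mul_smul_comm, e]
  have hP : (p * q) * (p * q) = p * q := by
    rw [mul_assoc, ← mul_assoc q, hcom, mul_assoc p q, hqq, ← mul_assoc, hpp]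
  have hadj : hst (p * q) = p * q := by
    rw [hst_mul, hp, hq, proj_adj (Iso.self_adj hr h), proj_adj (Iso.self_adj hE hEE), ← hp, ← hq, hcom]
  have hev := even_rank hP hadj
  have hle := rg_mul_le p q
  have h22 : finrank F (rg p) = 2 := hp ▸ rank_two h2 hr h h1 hn
  have hle2 : finrank F (rg (p * q)) ≤ 2 := (Submodule.finrank_mono hle).trans_eq h22
  have hEq : (E : Hm 2 F) = (2 : F) • q - 1 := by
    rw [hq, smul_smul, mul_inv_cancel₀ h2, one_smul, add_sub_cancel_left]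
  have hrp : (1 : Hm 2 F) + r = (2 : F) • p := by rw [hp, smul_smul, mul_inv_cancel₀ h2, one_smul]
  have hEp : (E : Hm 2 F) * (1 + r) = (4 : F) • (p * q) - (2 : F) • p := by
    rw [hEq, hrp, sub_mul, one_mul, smul_mul_smul_comm, hcom]
    norm_num
  rcases Nat.lt_or_ge (finrank F (rg (p * q))) 2 with hlt | hge
  · right
    obtain ⟨c, hc'⟩ := hev
    have h0 : finrank F (rg (p * q)) = 0 := by omega
    rw [Submodule.finrank_eq_zero] at h0
    have hP0 : p * q = 0 := (big 2 F).injective (by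
      rw [map_zero]; exact Matrix.toLin'.injective (by rw [LinearMap.range_eq_bot.1 h0, map_zero]))
    rw [hEp, hP0, smul_zero, zero_sub, hrp]
  · left
    have heq : rg (p * q) = rg p := Submodule.eq_of_le_of_finrank_le hle (by omega)
    have := eq_of_rg_idem hP (le_of_eq heq.symm)
    rw [mul_assoc, hcom, ← mul_assoc, hpp] at this
    rw [hEp, this, hrp]
    module

/-- an isometric involution commuting with a splitting involution is one of four -/
theorem four_cases [Fintype F] (h2 : (2 : F) ≠ 0) {r E : (Hm 2 F)ˣ} (hr : r ∈ Iso 2 F) (h : r * r = 1)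
    (h1 : r ≠ 1) (hn : r ≠ -1) (hE : E ∈ Iso 2 F) (hEE : E * E = 1) (hc : Commute E r) :
    E = 1 ∨ E = -1 ∨ E = r ∨ E = -r := by
  have hnr : -r ∈ Iso 2 F := by
    show hst ((-r : (Hm 2 F)ˣ) : Hm 2 F) * ((-r : (Hm 2 F)ˣ) : Hm 2 F) = 1
    rw [Units.val_neg, hst_neg, neg_mul_neg]; exact hr
  have hs2 := side_sign h2 (r := -r) (E := E) hnr (by simpa using h) (fun e => hn (by rw [← e, neg_neg]))
    (fun e => h1 (neg_inj.1 e)) hE hEE hc.neg_right
  have hs1 := side_sign h2 hr h h1 hn hE hEE hc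
  have key : (2 : F) • (E : Hm 2 F) =
      (E : Hm 2 F) * (1 + r) + (E : Hm 2 F) * (1 + ((-r : (Hm 2 F)ˣ) : Hm 2 F)) := by
    rw [Units.val_neg, mul_add, mul_add, mul_neg, mul_one]; module
  have hcancel : ∀ X : Hm 2 F, (2 : F) • (E : Hm 2 F) = (2 : F) • X → (E : Hm 2 F) = X := fun X hX =>
    smul_right_injective _ h2 hX
  rcases hs1 with e1 | e1 <;> rcases hs2 with e2 | e2 <;> rw [e1, e2, Units.val_neg] at key
  · exact Or.inl (Units.ext (hcancel 1 (key.trans (by module))))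
  · exact Or.inr (Or.inr (Or.inl (Units.ext (hcancel (r : Hm 2 F) (key.trans (by module))))))
  · exact Or.inr (Or.inr (Or.inr (Units.ext (hcancel (-(r : Hm 2 F)) (key.trans (by module))))))
  · exact Or.inr (Or.inl (Units.ext (hcancel (-1) (key.trans (by module)))))

theorem Quat.rel_unique {c : (Hm 2 F)ˣ} {p q : Equiv.Perm (Fin 5)} (hp : Q.Rel c p) (hq : Q.Rel c q) : p = q :=
  Equiv.ext fun i => by
    obtain ⟨b, hb⟩ := hp i
    obtain ⟨d, hd⟩ := hq i
    exact sf_eq (b, p i) (d, q i) (Q.w2_inj (hb.symm.trans hd))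

theorem Quat.rel_word (v : W2) : Q.Rel (Q.w2 v) 1 := by
  intro i
  have : ∀ (v : W2) (i : Fin 5), ∃ b : Bool, wmul2 (wmul2 v (five i)) (winv2 v) = sf (b, i) := by decide +kernel
  obtain ⟨b, hb⟩ := this v i
  exact ⟨b, by rw [Q.w2_inv, ← Q.w2_mul, ← Q.w2_mul, hb]; rfl⟩

theorem perm_invol : ∀ p : Equiv.Perm (Fin 5), p * p = 1 →
    (∃ k m n, p k = k ∧ p m = m ∧ p n = n ∧ k ≠ m ∧ k ≠ n ∧ m ≠ n) ∨
    (∃ i m k, p k = k ∧ k ≠ i ∧ k ≠ p i ∧ k ≠ m ∧ k ≠ p m ∧ i ≠ p i ∧ m ≠ p m ∧ m ≠ i ∧ m ≠ p i) := by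
  decide +kernel

theorem perm_four : ∀ p : Equiv.Perm (Fin 5), p * p * (p * p) = 1 → ∃ k, p k = k := by decide +kernel

theorem five_prod : ∀ i j m n k : Fin 5, i ≠ j → i ≠ m → i ≠ n → j ≠ m → j ≠ n → m ≠ n → k ≠ i → k ≠ j → k ≠ m →
    k ≠ n → ∃ s : Bool,
      five k = sf (s, k) ∧ wmul2 (if s then (4, 0, 0) else (0, 0, 0)) (five k) = five k ∧
      (wmul2 (wmul2 (five j) (five i)) (wmul2 (five n) (five m)) =
        wmul2 (wmul2 (five i) (five j)) (wmul2 (five m) (five n))) ∧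
      ∃ t : Bool, sf (t, k) = wmul2 (wmul2 (five i) (five j)) (wmul2 (five m) (five n)) := by decide +kernel

theorem five_root : ∀ k : Fin 5, ∃ a b : Fin 5, wmul2 (wmul2 (five a) (five b)) (wmul2 (five a) (five b)) = (4, 0, 0) ∧
    wmul2 (wmul2 (five a) (five b)) (five k) = wmul2 (five k) (wmul2 (five a) (five b)) := by decide +kernel

theorem five_pair_sq : ∀ a b : Fin 5, a ≠ b → wmul2 (wmul2 (five a) (five b)) (wmul2 (five a) (five b)) = (4, 0, 0) := by
  decide +kernel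

/-- an involution of the normaliser commutes with a square root of `-1` in the group -/
theorem Quat.exists_root [Fintype F] {r : (Hm 2 F)ˣ} (hr : r ∈ Q.N4) (h : r * r = 1) (h1 : r ≠ 1) (hn : r ≠ -1) :
    ∃ v : W2, wmul2 v v = (4, 0, 0) ∧ Commute (Q.w2 v) r := by
  obtain ⟨p, hp⟩ := Q.exists_rel hr
  have hp2 : p * p = 1 := Q.rel_unique (Quat.Rel.mul Q hp hp) (h ▸ Quat.Rel.one Q)
  have hri : r⁻¹ = r := inv_eq_of_mul_eq_one_right h
  rcases perm_invol p hp2 with ⟨k, m, n, hk, hm, hn', hkm, hkn, hmn⟩ | ⟨i, m, k, hk, hki, hkj, hkm, hkn, hij, hmn, hmi, hmj⟩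
  · have pick : ∀ a b : Fin 5, a ≠ b → p a = a → p b = b →
        (∃ s : Bool, r * Q.w2 (five a) * r⁻¹ = Q.w2 (sf (s, a)) ∧ r * Q.w2 (five b) * r⁻¹ = Q.w2 (sf (s, b))) →
        ∃ v : W2, wmul2 v v = (4, 0, 0) ∧ Commute (Q.w2 v) r := by
      rintro a b hab - - ⟨s, ea, eb⟩
      refine ⟨wmul2 (five a) (five b), five_pair_sq a b hab, ?_⟩
      show Q.w2 _ * r = r * Q.w2 _
      refine (mul_inv_eq_iff_eq_mul.1 ?_).symm
      rw [Q.w2_mul,
        show r * (Q.w2 (five a) * Q.w2 (five b)) * r⁻¹ = (r * Q.w2 (five a) * r⁻¹) * (r * Q.w2 (five b) * r⁻¹) by group,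
        ea, eb, Q.sf_sign, Q.sf_sign]
      cases s <;> simp
    obtain ⟨bk, ek⟩ := hp k
    obtain ⟨bm, em⟩ := hp m
    obtain ⟨bn, en⟩ := hp n
    rw [hk] at ek; rw [hm] at em; rw [hn'] at en
    by_cases e : bk = bm
    · exact pick k m hkm hk hm ⟨bk, ek, e ▸ em⟩
    by_cases e' : bk = bn
    · exact pick k n hkn hk hn' ⟨bk, ek, e' ▸ en⟩
    have e'' : bm = bn := by revert e e'; cases bk <;> cases bm <;> cases bn <;> simp
    exact pick m n hmn hm hn' ⟨bm, em, e'' ▸ en⟩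
  · have hij' : ∀ a, ∃ s : Bool, r * Q.w2 (five a) * r⁻¹ = (if s then -1 else 1) * Q.w2 (five (p a)) ∧
        r * Q.w2 (five (p a)) * r⁻¹ = (if s then -1 else 1) * Q.w2 (five a) := by
      intro a
      obtain ⟨s, hs⟩ := hp a
      rw [Q.sf_sign] at hs
      refine ⟨s, hs, ?_⟩
      cases s <;> simp at hs ⊢
      · rw [← hs, hri, show r * (r * Q.w2 (five a) * r) * r = (r * r) * Q.w2 (five a) * (r * r) by group, h]
        simp
      · rw [show Q.w2 (five (p a)) = -(r * Q.w2 (five a) * r⁻¹) by rw [hs, neg_neg], mul_neg, neg_mul, hri,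
          show r * (r * Q.w2 (five a) * r) * r = (r * r) * Q.w2 (five a) * (r * r) by group, h]
        simp
    obtain ⟨s, hs1, hs2⟩ := hij' i
    obtain ⟨s', hs1', hs2'⟩ := hij' m
    have hinj := p.injective
    obtain ⟨-, -, -, hswap, t, ht⟩ := five_prod i (p i) m (p m) k hij (Ne.symm hmi)
      (fun e => hmj (by rw [e, ← Equiv.Perm.mul_apply, hp2, Equiv.Perm.one_apply]))
      (Ne.symm hmj) (fun e => hmi (hinj e).symm) hmn hki hkj hkm hkn
    have hfix : r * Q.w2 (five k) * r⁻¹ = Q.w2 (five k) := by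
      have hw : r * Q.w2 (sf (t, k)) * r⁻¹ = Q.w2 (sf (t, k)) := by
        rw [ht]
        conv_rhs => rw [← hswap]
        simp only [Q.w2_mul]
        rw [show r * (Q.w2 (five i) * Q.w2 (five (p i)) * (Q.w2 (five m) * Q.w2 (five (p m)))) * r⁻¹ =
          (r * Q.w2 (five i) * r⁻¹) * (r * Q.w2 (five (p i)) * r⁻¹) * ((r * Q.w2 (five m) * r⁻¹) *
            (r * Q.w2 (five (p m)) * r⁻¹)) by group, hs1, hs2, hs1', hs2']
        cases s <;> cases s' <;> simp
      rw [Q.sf_sign] at hw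
      cases t
      · simpa using hw
      · simpa using hw
    have hcomm : Commute (Q.w2 (five k)) r := by
      show Q.w2 _ * r = r * Q.w2 _
      conv_lhs => rw [← hfix]
      group
    rcases four_cases Q.two hr.2 h h1 hn (Q.w2_iso _) (by rw [← Q.w2_mul, five_sq, Q.w2_one]) hcomm with e | e | e | e
    · exact absurd (Q.w2_inj (e.trans Q.w2_one.symm)) (five_ne k).1
    · exact absurd (Q.w2_inj (e.trans Q.w2_neg.symm)) (five_ne k).2
    · obtain ⟨a, b, hab, hc⟩ := five_root k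
      exact ⟨_, hab, by rw [← e]; show _ = _; rw [← Q.w2_mul, ← Q.w2_mul, hc]⟩
    · obtain ⟨a, b, hab, hc⟩ := five_root k
      have hck : Commute (Q.w2 (wmul2 (five a) (five b))) (Q.w2 (five k)) := by
        show _ = _; rw [← Q.w2_mul, ← Q.w2_mul, hc]
      exact ⟨_, hab, by rw [show r = -Q.w2 (five k) by rw [e, neg_neg]]; exact hck.neg_right⟩

/-- a square root of a splitting involution that fixes one of its sides -/
theorem Quat.half_fixed [Fintype F] {a r : (Hm 2 F)ˣ} (ha : a ∈ Q.N4) (hr : r * r = 1) (h1 : r ≠ 1) (hn : r ≠ -1)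
    (hsq : a * a = -r) (hfix : (a : Hm 2 F) * (1 - r) = 1 - r) :
    ∃ k : Fin 5, (r = Q.w2 (five k) ∨ r = -Q.w2 (five k)) ∧
      ∃ p, Q.Rel a p ∧ p k = k ∧ ∀ m, p m = m → m = k := by
  obtain ⟨p, hp⟩ := Q.exists_rel ha
  have h4 : a * a * (a * a) = 1 := by rw [hsq, neg_mul_neg, hr]
  have hp4 : p * p * (p * p) = 1 :=
    Q.rel_unique (Quat.Rel.mul Q (Quat.Rel.mul Q hp hp) (Quat.Rel.mul Q hp hp)) (h4 ▸ Quat.Rel.one Q)
  obtain ⟨k, hk⟩ := perm_four p hp4
  have hrI : r ∈ Iso 2 F := by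
    rw [show r = -(a * a) by rw [hsq, neg_neg]]
    show hst ((-(a * a) : (Hm 2 F)ˣ) : Hm 2 F) * ((-(a * a) : (Hm 2 F)ˣ) : Hm 2 F) = 1
    rw [Units.val_neg, hst_neg, neg_mul_neg]
    exact mul_mem ha.2 ha.2
  have hcomm : Commute (Q.w2 (five k)) r := by
    obtain ⟨s, hs⟩ := hp k
    rw [hk, Q.sf_sign] at hs
    have e2 : (a * a) * Q.w2 (five k) * (a * a)⁻¹ = Q.w2 (five k) := by
      rw [show (a * a) * Q.w2 (five k) * (a * a)⁻¹ = a * (a * Q.w2 (five k) * a⁻¹) * a⁻¹ by group, hs]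
      cases s <;> simp at hs ⊢ <;> simp [hs]
    rw [hsq, mul_inv_eq_iff_eq_mul, neg_mul, mul_neg, neg_inj] at e2
    exact e2.symm
  have hk' : r = Q.w2 (five k) ∨ r = -Q.w2 (five k) := by
    rcases four_cases Q.two hrI hr h1 hn (Q.w2_iso _) (by rw [← Q.w2_mul, five_sq, Q.w2_one]) hcomm with e | e | e | e
    · exact absurd (Q.w2_inj (e.trans Q.w2_one.symm)) (five_ne k).1
    · exact absurd (Q.w2_inj (e.trans Q.w2_neg.symm)) (five_ne k).2
    · exact Or.inl e.symm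
    · exact Or.inr (by rw [e, neg_neg])
  refine ⟨k, hk', p, hp, hk, fun m hm => ?_⟩
  by_contra hne
  obtain ⟨s, hs⟩ := hp m
  rw [hm, Q.sf_sign] at hs
  set X : Hm 2 F := (Q.w2 (five m) : Hm 2 F) with hX
  have hanti : (r : Hm 2 F) * X = -(X * r) := by
    have e := congrArg Q.w2 (five_anti k m (Ne.symm hne))
    rw [Q.w2_mul, Q.w2_mul, Q.w2_mul, Q.w2_neg, neg_one_mul] at e
    have e' := congrArg Units.val e
    rw [Units.val_neg, Units.val_mul, Units.val_mul] at e'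
    rcases hk' with rfl | rfl
    · exact e'
    · rw [Units.val_neg, neg_mul, mul_neg, e']
  obtain ⟨ε, hε, hεX⟩ : ∃ ε : F, ε * ε = 1 ∧ (a : Hm 2 F) * X = ε • (X * (a : Hm 2 F)) := by
    have e := congrArg Units.val (mul_inv_eq_iff_eq_mul.1 hs)
    rw [Units.val_mul, Units.val_mul, Units.val_mul] at e
    cases s
    · exact ⟨1, one_mul 1, by rw [one_smul, e]; simp [hX]⟩
    · exact ⟨-1, by ring, by rw [e]; simp [hX]⟩
  have e1 : (a : Hm 2 F) * (X * (1 - (r : Hm 2 F))) = ε • (X * (1 - (r : Hm 2 F))) := by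
    rw [← mul_assoc, hεX, smul_mul_assoc, mul_assoc, hfix]
  have hsq' : (a : Hm 2 F) * a = -(r : Hm 2 F) := by rw [← Units.val_mul, hsq, Units.val_neg]
  have e2 : (a : Hm 2 F) * ((a : Hm 2 F) * (X * (1 - (r : Hm 2 F)))) = X * (1 - (r : Hm 2 F)) := by
    rw [e1, mul_smul_comm, e1, smul_smul, hε, one_smul]
  rw [← mul_assoc, hsq', ← mul_assoc, neg_mul, hanti, neg_neg, mul_assoc] at e2
  have hr' : (r : Hm 2 F) * r = 1 := by rw [← Units.val_mul, hr, Units.val_one]
  rw [mul_sub, mul_one, hr', ← neg_sub (1 : Hm 2 F), mul_neg] at e2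
  have e4 : X * (1 - (r : Hm 2 F)) = 0 := by
    have : (2 : F) • (X * (1 - (r : Hm 2 F))) = 0 := by
      linear_combination (norm := module) -e2
    exact (smul_eq_zero.1 this).resolve_left Q.two
  have e3 := congrArg (fun Y => ((Q.w2 (five m))⁻¹ : (Hm 2 F)ˣ).val * Y) e4
  simp only [mul_zero, ← mul_assoc, hX, Units.inv_mul, one_mul] at e3
  exact h1 (Units.ext (by rw [Units.val_one]; exact (sub_eq_zero.1 e3).symm))

end CfsgLib.MaxSub.SpEightSymp
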