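import Cfsg.Agent.Lib.MaxSub.SpEightSymp.Words
import Cfsg.Agent.Lib.MaxSub.SpEightSymp.TwoFix

/-!
The two halves of the degree-four space cut out by the first axis involution.
-/

set_option autoImplicit false
set_option linter.unusedSectionVars false
set_option maxRecDepth 20000

namespace CfsgLib.MaxSub.SpEightSymp

open Matrix Module
open scoped MatrixGroups

variable {F : Type*} [Field F] (Q : Quat F)

/-- indices of the two halves -/
def e4 : Fin 2 ⊕ Fin 2 ≃ Fin 4 := finSumFinEquiv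

theorem e4_inl : ∀ i : Fin 2, e4 (Sum.inl i) = ![0, 1] i := by decide

theorem e4_inr : ∀ i : Fin 2, e4 (Sum.inr i) = ![2, 3] i := by decide

/-- block diagonal matrix -/
def bd (a b : Hm 2 F) : Hm 4 F :=
  Matrix.reindex e4 e4 (Matrix.fromBlocks a 0 0 b)

theorem bd_ix (a b : Hm 2 F) (i j : Fin 2 ⊕ Fin 2) :
    bd a b (e4 i) (e4 j) = Matrix.fromBlocks a 0 0 b i j := by
  simp [bd]

theorem bd_mul (a b c d : Hm 2 F) : bd a b * bd c d = bd (a * c) (b * d) := by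
  rw [bd, bd, bd, Matrix.reindex_apply, Matrix.reindex_apply, Matrix.reindex_apply, ← Matrix.submatrix_mul _ _ _ _ _
    e4.symm.bijective, Matrix.fromBlocks_multiply]
  simp

theorem bd_one : bd (1 : Hm 2 F) 1 = 1 := by
  rw [bd, Matrix.fromBlocks_one, Matrix.reindex_apply, Matrix.submatrix_one_equiv]

theorem bd_add (a b c d : Hm 2 F) : bd a b + bd c d = bd (a + c) (b + d) := by
  refine Matrix.ext fun i j => ?_
  obtain ⟨i, rfl⟩ := e4.surjective i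
  obtain ⟨j, rfl⟩ := e4.surjective j
  rcases i with i | i <;> rcases j with j | j <;> simp [bd_ix, Matrix.fromBlocks, Matrix.add_apply]

theorem bd_neg (a b : Hm 2 F) : -bd a b = bd (-a) (-b) := by
  refine Matrix.ext fun i j => ?_
  obtain ⟨i, rfl⟩ := e4.surjective i
  obtain ⟨j, rfl⟩ := e4.surjective j
  rcases i with i | i <;> rcases j with j | j <;> simp [bd_ix, Matrix.fromBlocks, Matrix.neg_apply]

theorem bd_inj {a b c d : Hm 2 F} (h : bd a b = bd c d) : a = c ∧ b = d := by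
  refine ⟨Matrix.ext fun i j => ?_, Matrix.ext fun i j => ?_⟩
  · simpa [bd_ix] using congrFun (congrFun h (e4 (Sum.inl i))) (e4 (Sum.inl j))
  · simpa [bd_ix] using congrFun (congrFun h (e4 (Sum.inr i))) (e4 (Sum.inr j))

theorem hst_bd (a b : Hm 2 F) : hst (bd a b) = bd (hst a) (hst b) := by
  refine Matrix.ext fun i j => ?_
  obtain ⟨i, rfl⟩ := e4.surjective i
  obtain ⟨j, rfl⟩ := e4.surjective j
  rw [hst_apply, bd_ix, bd_ix]
  rcases i with i | i <;> rcases j with j | j <;>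
    simp [hst_apply, Matrix.fromBlocks, adjugate_fin_two, ← Matrix.ext_iff, Fin.forall_fin_two]

/-- block diagonal units -/
def bdU (a b : (Hm 2 F)ˣ) : (Hm 4 F)ˣ where
  val := bd a b
  inv := bd ((a⁻¹ : (Hm 2 F)ˣ) : Hm 2 F) ((b⁻¹ : (Hm 2 F)ˣ) : Hm 2 F)
  val_inv := by rw [bd_mul, Units.mul_inv, Units.mul_inv, bd_one]
  inv_val := by rw [bd_mul, Units.inv_mul, Units.inv_mul, bd_one]

theorem bdU_val (a b : (Hm 2 F)ˣ) : (bdU a b : Hm 4 F) = bd a b := rfl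

theorem bdU_mul (a b c d : (Hm 2 F)ˣ) : bdU a b * bdU c d = bdU (a * c) (b * d) :=
  Units.ext (bd_mul _ _ _ _)

theorem bdU_one : bdU (1 : (Hm 2 F)ˣ) 1 = 1 := Units.ext bd_one

theorem bdU_inv (a b : (Hm 2 F)ˣ) : (bdU a b)⁻¹ = bdU a⁻¹ b⁻¹ := Units.ext rfl

theorem bdU_neg (a b : (Hm 2 F)ˣ) : -bdU a b = bdU (-a) (-b) := Units.ext (bd_neg _ _)

theorem bdU_inj {a b c d : (Hm 2 F)ˣ} (h : bdU a b = bdU c d) : a = c ∧ b = d :=
  ⟨Units.ext (bd_inj (congrArg Units.val h)).1, Units.ext (bd_inj (congrArg Units.val h)).2⟩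

theorem bdU_iso {a b : (Hm 2 F)ˣ} : bdU a b ∈ Iso 4 F ↔ a ∈ Iso 2 F ∧ b ∈ Iso 2 F := by
  rw [mem_Iso, bdU_val, hst_bd, bd_mul, ← bd_one, mem_Iso, mem_Iso]
  exact ⟨bd_inj, fun h => by rw [h.1, h.2]⟩

/-- joining monomials -/
def blk (m m' : Mn 2) : Mn 4 :=
  ⟨![⟨(m.p 0).1, by omega⟩, ⟨(m.p 1).1, by omega⟩, ⟨2 + (m'.p 0).1, by omega⟩, ⟨2 + (m'.p 1).1, by omega⟩],
    ![m.c 0, m.c 1, m'.c 0, m'.c 1]⟩

theorem blk_p (m m' : Mn 2) (i : Fin 2 ⊕ Fin 2) :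
    (blk m m').p (e4 i) = e4 (Sum.map m.p m'.p i) ∧ (blk m m').c (e4 i) = Sum.elim m.c m'.c i := by
  rcases i with i | i <;> fin_cases i <;> refine ⟨Fin.ext ?_, ?_⟩ <;> simp [blk, e4, finSumFinEquiv] <;> omega

theorem Quat.mo_blk (m m' : Mn 2) : Q.mo (blk m m') = bd (Q.mo m) (Q.mo m') := by
  refine Matrix.ext fun i j => ?_
  obtain ⟨i, rfl⟩ := e4.surjective i
  obtain ⟨j, rfl⟩ := e4.surjective j
  rw [bd_ix]
  show (if (blk m m').p (e4 i) = e4 j then Q.u ((blk m m').c (e4 i)) else 0) = _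
  rw [(blk_p m m' i).1, (blk_p m m' i).2]
  simp only [e4.injective.eq_iff]
  rcases i with i | i <;> rcases j with j | j <;> simp [Quat.mo, Matrix.fromBlocks]

/-- a word of degree two placed on both halves -/
def lift2 (v : W2) : W4 := (v.1, ⟨v.2.1.1, by omega⟩, ⟨v.2.2.1, by omega⟩)

theorem lift2_spec : ∀ v : W2, wm (lift2 v) = blk (wm2 v) (wm2 v) ∧
    wm (wmul (lift2 v) (0, 0, 2)) = blk (wm2 v) (wm2 (wmul2 (4, 0, 0) v)) := by decide +kernel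

theorem word_split : ∀ w : W4, ∃ v : W2, w = lift2 v ∨ w = wmul (lift2 v) (0, 0, 2) ∨
    w = wmul (lift2 v) (0, 2, 0) ∨ w = wmul (wmul (lift2 v) (0, 0, 2)) (0, 2, 0) := by decide +kernel

theorem Quat.w_lift (v : W2) : Q.w (lift2 v) = bdU (Q.w2 v) (Q.w2 v) :=
  Units.ext (by rw [Q.w_val, (lift2_spec v).1, Q.mo_blk, bdU_val, Q.w2_val])

theorem Quat.w_liftz (v : W2) : Q.w (wmul (lift2 v) (0, 0, 2)) = bdU (Q.w2 v) (-Q.w2 v) := by
  refine Units.ext ?_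
  rw [Q.w_val, (lift2_spec v).2, Q.mo_blk, bdU_val, ← Q.w2_val, ← Q.w2_val, Q.w2_mul, Q.w2_neg, neg_one_mul]

theorem Quat.axis : Q.w (0, 0, 2) = bdU (1 : (Hm 2 F)ˣ) (-1) := by
  have h := Q.w_liftz (0, 0, 0)
  rwa [Q.w2_one, show wmul (lift2 ((0, 0, 0) : W2)) (0, 0, 2) = ((0, 0, 2) : W4) by decide] at h

theorem Quat.z01 : Q.w (0, 0, 1) = bdU (Q.w2 (five 0)) (Q.w2 (five 0)) := by
  rw [← Q.w_lift]; rfl

theorem swap_spec : ∀ i j : Fin 4, (wm (0, 2, 0)).p i = j ↔ (j = ⟨(i.1 + 2) % 4, by omega⟩) := by decide +kernel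

/-- the exchange of the halves -/
theorem Quat.swap_val : (Q.w (0, 2, 0) : Hm 4 F) =
    Matrix.reindex e4 e4 (Matrix.fromBlocks 0 1 1 0) := by
  refine Matrix.ext fun i j => ?_
  obtain ⟨i, rfl⟩ := e4.surjective i
  obtain ⟨j, rfl⟩ := e4.surjective j
  rw [Matrix.reindex_apply, Matrix.submatrix_apply, Equiv.symm_apply_apply, Equiv.symm_apply_apply]
  rcases i with i | i <;> rcases j with j | j <;> fin_cases i <;> fin_cases j <;>
    simp [Q.w_val, wm, x4, par, Quat.mo, Q.u_zero, Matrix.fromBlocks, Fin.ext_iff, e4_inl, e4_inr]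

theorem Quat.swap_conj (a b : (Hm 2 F)ˣ) : Q.w (0, 2, 0) * bdU a b = bdU b a * Q.w (0, 2, 0) := by
  refine Units.ext ?_
  rw [Units.val_mul, Units.val_mul, Q.swap_val, bdU_val, bdU_val, bd, bd, Matrix.reindex_apply, Matrix.reindex_apply,
    Matrix.reindex_apply, ← Matrix.submatrix_mul _ _ _ _ _ e4.symm.bijective,
    ← Matrix.submatrix_mul _ _ _ _ _ e4.symm.bijective, Matrix.fromBlocks_multiply,
    Matrix.fromBlocks_multiply]
  simp

/-- an element commuting with the axis involution is block diagonal -/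
theorem Quat.exists_bd {g : (Hm 4 F)ˣ} (hg : g ∈ Iso 4 F) (hc : Commute g (Q.w (0, 0, 2))) :
    ∃ a b, g = bdU a b ∧ a ∈ Iso 2 F ∧ b ∈ Iso 2 F := by
  have key : ∀ h : (Hm 4 F)ˣ, Commute h (Q.w (0, 0, 2)) →
      ∃ a b : Hm 2 F, (h : Hm 4 F) = bd a b := by
    intro h hh
    obtain ⟨m, hm⟩ : ∃ m, m = Matrix.reindex e4.symm e4.symm (h : Hm 4 F) := ⟨_, rfl⟩
    have hh' : (h : Hm 4 F) = Matrix.reindex e4 e4 m := by rw [hm]; simp
    rw [← Matrix.fromBlocks_toBlocks m] at hh'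
    have e := congrArg Units.val hh.eq
    rw [Units.val_mul, Units.val_mul, Q.axis, bdU_val, Units.val_neg, Units.val_one, bd, hh', Matrix.reindex_apply,
      Matrix.reindex_apply, ← Matrix.submatrix_mul _ _ _ _ _ e4.symm.bijective,
      ← Matrix.submatrix_mul _ _ _ _ _ e4.symm.bijective, Matrix.fromBlocks_multiply,
      Matrix.fromBlocks_multiply] at e
    have e' := (Matrix.reindex e4 e4).injective e
    simp only [Matrix.mul_zero, Matrix.zero_mul, add_zero, zero_add, Matrix.mul_one, Matrix.one_mul, mul_neg, neg_mul] at e'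
    obtain ⟨-, e12, e21, -⟩ := Matrix.fromBlocks_inj.1 e'
    have z : ∀ X : Hm 2 F, -X = X → X = 0 := fun X hX => by
      have : (2 : F) • X = 0 := by rw [two_smul]; exact add_eq_zero_iff_eq_neg.2 hX.symm
      exact (smul_eq_zero.1 this).resolve_left Q.two
    refine ⟨m.toBlocks₁₁, m.toBlocks₂₂, ?_⟩
    rw [hh', bd, z _ e12, z _ e21.symm]
  obtain ⟨a, b, hab⟩ := key g hc
  obtain ⟨c, d, hcd⟩ := key g⁻¹ hc.inv_left
  have h1 : bd a b * bd c d = bd 1 1 := by rw [← hab, ← hcd, Units.mul_inv, bd_one]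
  have h2 : bd c d * bd a b = bd 1 1 := by rw [← hab, ← hcd, Units.inv_mul, bd_one]
  rw [bd_mul] at h1 h2
  let au : (Hm 2 F)ˣ := ⟨a, c, (bd_inj h1).1, (bd_inj h2).1⟩
  let bu : (Hm 2 F)ˣ := ⟨b, d, (bd_inj h1).2, (bd_inj h2).2⟩
  have he : g = bdU au bu := Units.ext hab
  exact ⟨au, bu, he, bdU_iso.1 (he ▸ hg)⟩

theorem Quat.mem_N8 {g : (Hm 4 F)ˣ} (hg : g ∈ Iso 4 F) (h : ∀ v, g * Q.w v * g⁻¹ ∈ Q.R8) : g ∈ Q.N8 := by
  haveI : Finite Q.R8 := Nat.finite_of_card_ne_zero (by rw [Q.card_R8]; norm_num)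
  refine ⟨Subgroup.mem_normalizer_iff.2 fun x => ⟨?_, fun hx => ?_⟩, hg⟩
  · rintro ⟨v, rfl⟩; exact h v
  · let f : Q.R8 → Q.R8 := fun y => ⟨g * (y : (Hm 4 F)ˣ) * g⁻¹, by obtain ⟨_, v, rfl⟩ := y; exact h v⟩
    have hinj : Function.Injective f := fun a b e =>
      Subtype.ext (mul_left_cancel (mul_right_cancel (congrArg Subtype.val e : g * (a : (Hm 4 F)ˣ) * g⁻¹ = g * b * g⁻¹)))
    obtain ⟨⟨y, hy⟩, hyx⟩ := Finite.surjective_of_injective hinj ⟨g * x * g⁻¹, hx⟩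
    have := mul_left_cancel (mul_right_cancel (congrArg Subtype.val hyx))
    exact this ▸ hy

/-- the diagonal copy of the normaliser -/
theorem Quat.diag_N8 {a : (Hm 2 F)ˣ} (ha : a ∈ Q.N4) : bdU a a ∈ Q.N8 := by
  refine Q.mem_N8 (bdU_iso.2 ⟨ha.2, ha.2⟩) fun w => ?_
  have hl : ∀ v, bdU a a * Q.w (lift2 v) * (bdU a a)⁻¹ ∈ Q.R8 := fun v => by
    obtain ⟨u, hu⟩ := Q.N4_conj ha v
    rw [Q.w_lift, bdU_inv, bdU_mul, bdU_mul, hu, ← Q.w_lift]; exact Q.w_mem _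
  have hz : bdU a a * Q.w (0, 0, 2) * (bdU a a)⁻¹ = Q.w (0, 0, 2) := by
    rw [Q.axis, bdU_inv, bdU_mul, bdU_mul]; simp
  have hs : bdU a a * Q.w (0, 2, 0) * (bdU a a)⁻¹ = Q.w (0, 2, 0) := by
    rw [← Q.swap_conj, mul_inv_cancel_right]
  obtain ⟨v, rfl | rfl | rfl | rfl⟩ := word_split w
  · exact hl v
  · rw [Q.w_mul, show ∀ x y : (Hm 4 F)ˣ, bdU a a * (x * y) * (bdU a a)⁻¹ =
      (bdU a a * x * (bdU a a)⁻¹) * (bdU a a * y * (bdU a a)⁻¹) from fun x y => by group, hz]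
    exact mul_mem (hl v) (Q.w_mem _)
  · rw [Q.w_mul, show ∀ x y : (Hm 4 F)ˣ, bdU a a * (x * y) * (bdU a a)⁻¹ =
      (bdU a a * x * (bdU a a)⁻¹) * (bdU a a * y * (bdU a a)⁻¹) from fun x y => by group, hs]
    exact mul_mem (hl v) (Q.w_mem _)
  · rw [Q.w_mul, Q.w_mul, show ∀ x y z : (Hm 4 F)ˣ, bdU a a * (x * y * z) * (bdU a a)⁻¹ =
      (bdU a a * x * (bdU a a)⁻¹) * (bdU a a * y * (bdU a a)⁻¹) * (bdU a a * z * (bdU a a)⁻¹) from
      fun x y z => by group, hz, hs]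
    exact mul_mem (mul_mem (hl v) (Q.w_mem _)) (Q.w_mem _)

theorem w2_conj_cases : ∀ s v : W2, wmul2 (wmul2 s v) (winv2 s) = v ∨ wmul2 (wmul2 s v) (winv2 s) = wmul2 (4, 0, 0) v := by
  decide +kernel

theorem w2_inv_cases : ∀ s : W2, winv2 s = s ∨ winv2 s = wmul2 (4, 0, 0) s := by decide +kernel

/-- a word on one half -/
theorem Quat.half_N8 (s : W2) : bdU (Q.w2 s) 1 ∈ Q.N8 := by
  refine Q.mem_N8 (bdU_iso.2 ⟨Q.w2_iso s, one_mem _⟩) fun w => ?_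
  set g := bdU (Q.w2 s) (1 : (Hm 2 F)ˣ) with hg
  have hl : ∀ v, g * Q.w (lift2 v) * g⁻¹ ∈ Q.R8 := fun v => by
    rw [Q.w_lift, hg, bdU_inv, bdU_mul, bdU_mul, one_mul, inv_one, mul_one, Q.w2_inv, ← Q.w2_mul, ← Q.w2_mul]
    rcases w2_conj_cases s v with e | e <;> rw [e]
    · exact ⟨_, Q.w_lift v⟩
    · have h1 : bdU (Q.w2 (wmul2 (4, 0, 0) v)) (Q.w2 v) = -bdU (Q.w2 v) (-Q.w2 v) := by
        rw [bdU_neg, neg_neg, Q.w2_mul, Q.w2_neg, neg_one_mul]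
      rw [h1, ← Q.w_liftz, ← neg_one_mul, ← Q.w_neg, ← Q.w_mul]
      exact Q.w_mem _
  have hz : g * Q.w (0, 0, 2) * g⁻¹ = Q.w (0, 0, 2) := by
    rw [Q.axis, hg, bdU_inv, bdU_mul, bdU_mul]; simp
  have hs : g * Q.w (0, 2, 0) * g⁻¹ ∈ Q.R8 := by
    rw [hg, bdU_inv, mul_assoc, Q.swap_conj, ← mul_assoc, bdU_mul, inv_one, mul_one, one_mul, Q.w2_inv]
    refine mul_mem ?_ (Q.w_mem _)
    rcases w2_inv_cases s with e | e <;> rw [e]
    · exact ⟨_, Q.w_lift s⟩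
    · rw [Q.w2_mul, Q.w2_neg, neg_one_mul, ← Q.w_liftz]; exact Q.w_mem _
  have hprod : ∀ x y : (Hm 4 F)ˣ, g * (x * y) * g⁻¹ = (g * x * g⁻¹) * (g * y * g⁻¹) := fun x y => by group
  obtain ⟨v, rfl | rfl | rfl | rfl⟩ := word_split w
  · exact hl v
  · rw [Q.w_mul, hprod, hz]; exact mul_mem (hl v) (Q.w_mem _)
  · rw [Q.w_mul, hprod]; exact mul_mem (hl v) hs
  · rw [Q.w_mul, Q.w_mul, hprod, hprod, hz]; exact mul_mem (mul_mem (hl v) (Q.w_mem _)) hs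

end CfsgLib.MaxSub.SpEightSymp
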