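import Cfsg.Agent.Lib.MaxSub.SpEightSymp.Blocks
import Cfsg.Agent.Lib.MaxSub.SpAll

/-!
Centralisers of the noncentral involutions in a proper overgroup, and their fusion.
-/

set_option autoImplicit false
set_option linter.unusedSectionVars false
set_option maxRecDepth 20000

namespace CfsgLib.MaxSub.SpEightSymp

open Matrix Module Cfsg.Geo
open scoped MatrixGroups

variable {F : Type*} [Field F] [Fintype F] {Q : Quat F}

/-- a proper overgroup of the normaliser -/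
structure Over (Q : Quat F) (M : Subgroup (Hm 4 F)ˣ) : Prop where
  prime : (Fintype.card F).Prime
  le : M ≤ Iso 4 F
  hN : Q.N8 ≤ M
  proper : ¬ Iso 4 F ≤ M

/-- the exchange of the middle planes -/
def p12 : Mn 4 := ⟨![0, 2, 1, 3], fun _ => 0⟩

theorem p12_z : gz 0 = p12.z ∧ gN 0 = 1 := by decide +kernel

theorem p12_no : ∀ (s : Bool) (u u' : W2),
    p12.mul (blk (wm2 ((if s then 5 else 1), 0, 0)) (wm2 (3, 0, 0))) ≠ (blk (wm2 u) (wm2 u')).mul p12 := by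
  decide +kernel

theorem five_x : ∀ b b' : Bool, ∃ s : Bool,
    wmul2 (sf (b, 3)) (sf (b', 4)) = ((if s then 5 else 1), 0, 0) := by decide +kernel

theorem five_x' : ∃ s : Bool, wmul2 (if s then (4, 0, 0) else (0, 0, 0)) (wmul2 (five 2) (five 3)) = (3, 0, 0) := by
  decide +kernel

theorem act0_z01 : act 0 (0, 0, 1) = (0, 0, 2) ∧ act 0 (lift2 (3, 0, 0)) = lift2 (3, 0, 0) := by decide +kernel

theorem Quat.gen0_val : (Q.gen 0 : Hm 4 F) = Q.mo p12 := by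
  show gs F 0 • Q.cast 4 (gz 0) = _
  rw [p12_z.1, Q.cast_z, gs, if_pos p12_z.2, one_smul]

/-- the two halves as subspaces -/
def halves (Q : Quat F) : Fin 2 → Submodule F (Vec 4 F) :=
  ![fixd (Q.w (0, 0, 2) : Hm 4 F), fixd (-(Q.w (0, 0, 2) : Hm 4 F))]

theorem axis_sq : (Q.w (0, 0, 2) : Hm 4 F) * Q.w (0, 0, 2) = 1 := by
  rw [← Units.val_mul, ← Q.w_mul, show wmul ((0, 0, 2) : W4) (0, 0, 2) = (0, 0, 0) by decide, Q.w_one, Units.val_one]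

theorem mem_halves_one {v : Vec 4 F} : v ∈ fixd (-(Q.w (0, 0, 2) : Hm 4 F)) ↔
    big 4 F (Q.w (0, 0, 2) : Hm 4 F) *ᵥ v = -v := by
  rw [mem_fixd, map_neg, neg_mulVec, neg_eq_iff_eq_neg]

theorem halves_split (v : Vec 4 F) :
    (2 : F)⁻¹ • (v + big 4 F (Q.w (0, 0, 2) : Hm 4 F) *ᵥ v) ∈ fixd (Q.w (0, 0, 2) : Hm 4 F) ∧
    (2 : F)⁻¹ • (v - big 4 F (Q.w (0, 0, 2) : Hm 4 F) *ᵥ v) ∈ fixd (-(Q.w (0, 0, 2) : Hm 4 F)) := by
  have hz : ∀ x, big 4 F (Q.w (0, 0, 2) : Hm 4 F) *ᵥ (big 4 F (Q.w (0, 0, 2) : Hm 4 F) *ᵥ x) = x := fun x => by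
    rw [mulVec_mulVec, ← map_mul, axis_sq, map_one, one_mulVec]
  constructor
  · rw [mem_fixd, mulVec_smul, mulVec_add, hz, add_comm]
  · rw [mem_halves_one, mulVec_smul, mulVec_sub, hz, ← smul_neg, neg_sub]

theorem halves_decomp : IsNondegenerateMDecomposition (Cfsg.sympForm 4 F) 4 (halves Q) := by
  classical
  set Z : Hm 4 F := (Q.w (0, 0, 2) : Hm 4 F) with hZ
  have hZs : hst Z = Z := Iso.self_adj (Q.w_iso _) (Units.ext (by rw [Units.val_mul, Units.val_one]; exact axis_sq))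
  have hcompl : IsCompl (fixd Z) (fixd (-Z)) := by
    refine ⟨Submodule.disjoint_def.2 fun v h1 h2 => ?_, codisjoint_iff.2 (eq_top_iff.2 fun v _ => ?_)⟩
    · rw [mem_fixd] at h1
      rw [mem_halves_one, ← hZ, h1] at h2
      have : (2 : F) • v = 0 := by rw [two_smul]; exact add_eq_zero_iff_eq_neg.2 h2
      exact (smul_eq_zero.1 this).resolve_left Q.two
    · obtain ⟨h1, h2⟩ := halves_split (Q := Q) v
      rw [Submodule.mem_sup]
      refine ⟨_, h1, _, h2, ?_⟩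
      have := Q.two
      match_scalars <;> field_simp <;> ring
  have hdim : finrank F (fixd Z) = 4 ∧ finrank F (fixd (-Z)) = 4 := by
    have hsum := Submodule.finrank_add_eq_of_isCompl hcompl
    rw [finrank_vec] at hsum
    let S := Matrix.toLin' (big 4 F (Q.w (0, 2, 0) : Hm 4 F))
    have hSS : ∀ x, S (S x) = x := fun x => by
      show Matrix.toLin' _ (Matrix.toLin' _ x) = x
      rw [toLin'_apply, toLin'_apply, mulVec_mulVec, ← map_mul, ← Units.val_mul, ← Q.w_mul,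
        show wmul ((0, 2, 0) : W4) (0, 2, 0) = (0, 0, 0) by decide, Q.w_one, Units.val_one, map_one, one_mulVec]
    have hinj : Function.Injective S := fun a b h => by rw [← hSS a, h, hSS b]
    have hanti : Z * (Q.w (0, 2, 0) : Hm 4 F) = -((Q.w (0, 2, 0) : Hm 4 F) * Z) := by
      rw [hZ, ← Units.val_mul, ← Units.val_mul, ← Units.val_neg, ← Q.w_mul, ← Q.w_mul, ← neg_one_mul,
        ← Q.w_neg, ← Q.w_mul]
      congr 2
    have hZS : ∀ x, big 4 F Z *ᵥ S x = -S (big 4 F Z *ᵥ x) := fun x => by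
      show big 4 F Z *ᵥ (Matrix.toLin' _ x) = -(Matrix.toLin' _ _)
      rw [toLin'_apply, toLin'_apply, mulVec_mulVec, ← map_mul, hanti, map_neg, neg_mulVec, map_mul, ← mulVec_mulVec]
    have m1 : (fixd Z).map S ≤ fixd (-Z) := by
      rintro _ ⟨x, hx, rfl⟩
      rw [mem_halves_one, ← hZ, hZS, (mem_fixd.1 hx)]
    have m2 : (fixd (-Z)).map S ≤ fixd Z := by
      rintro _ ⟨x, hx, rfl⟩
      rw [mem_fixd, hZS, mem_halves_one.1 hx, map_neg, neg_neg]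
    have e1 := Submodule.finrank_mono m1
    have e2 := Submodule.finrank_mono m2
    have q1 : finrank F (fixd Z) = finrank F ((fixd Z).map S) :=
      (Submodule.equivMapOfInjective S hinj (fixd Z)).finrank_eq
    have q2 : finrank F (fixd (-Z)) = finrank F ((fixd (-Z)).map S) :=
      (Submodule.equivMapOfInjective S hinj (fixd (-Z))).finrank_eq
    have e1' : finrank F (fixd Z) ≤ finrank F (fixd (-Z)) := q1.le.trans e1
    have e2' : finrank F (fixd (-Z)) ≤ finrank F (fixd Z) := q2.le.trans e2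
    omega
  have hperp : ∀ u ∈ fixd Z, ∀ v ∈ fixd (-Z), frm 4 F u v = 0 := by
    intro u hu v hv
    have h := frm_adj Z u v
    rw [hZs, mem_fixd.1 hu, mem_halves_one.1 hv, ← neg_one_smul F v,
      show frm 4 F u ((-1 : F) • v) = -1 * frm 4 F u v from CfsgLib.MaxSub.sympForm_smul_right (-1) v u] at h
    exact (mul_eq_zero.1 (show (2 : F) * frm 4 F u v = 0 by linear_combination h)).resolve_left Q.two
  refine ⟨⟨le_rfl, by norm_num, ?_, ?_, ?_⟩, ?_, ?_⟩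
  · intro i; fin_cases i
    · exact hdim.1
    · exact hdim.2
  · rw [iSupIndep_pair (i := (0 : Fin 2)) (j := 1) (by decide) (fun k => by fin_cases k <;> simp)]
    exact hcompl.disjoint
  · refine eq_top_iff.2 (hcompl.sup_eq_top.symm.le.trans (sup_le ?_ ?_))
    · exact le_iSup (halves Q) 0
    · exact le_iSup (halves Q) 1
  · intro i w hw hw0
    obtain ⟨y, hy⟩ : ∃ y, frm 4 F w y ≠ 0 := by
      by_contra hno; push Not at hno; exact hw0 (frm_sep w hno)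
    obtain ⟨h1, h2⟩ := halves_split (Q := Q) y
    have hy' : frm 4 F w y = frm 4 F w ((2 : F)⁻¹ • (y + big 4 F Z *ᵥ y)) +
        frm 4 F w ((2 : F)⁻¹ • (y - big 4 F Z *ᵥ y)) := by
      rw [← CfsgLib.MaxSub.sympForm_add_right]
      congr 1
      have := Q.two
      match_scalars <;> field_simp <;> ring
    have flip : ∀ x, frm 4 F w x ≠ 0 → frm 4 F x w ≠ 0 := fun x hx e => hx (by
      show Cfsg.sympForm 4 F w x = 0
      rw [CfsgLib.MaxSub.sympForm_swap x w]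
      exact neg_eq_zero.2 e)
    fin_cases i
    · have e := hperp w hw _ h2
      rw [e, add_zero] at hy'
      exact ⟨⟨_, h1, flip _ fun h0 => hy (hy'.trans h0)⟩, ⟨_, h1, fun h0 => hy (hy'.trans h0)⟩⟩
    · have e := hperp _ h1 w hw
      have e' : frm 4 F w ((2 : F)⁻¹ • (y + big 4 F Z *ᵥ y)) = 0 := by
        show Cfsg.sympForm 4 F w _ = 0
        rw [CfsgLib.MaxSub.sympForm_swap _ w]
        exact neg_eq_zero.2 e
      rw [e', zero_add] at hy'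
      exact ⟨⟨_, h2, flip _ fun h0 => hy (hy'.trans h0)⟩, ⟨_, h2, fun h0 => hy (hy'.trans h0)⟩⟩
  · intro i j hij u hu v hv
    fin_cases i <;> fin_cases j <;> simp at hij
    · exact hperp u hu v hv
    · show Cfsg.sympForm 4 F u v = 0
      rw [CfsgLib.MaxSub.sympForm_swap v u]
      exact neg_eq_zero.2 (hperp v hv u hu)

theorem stab_cases {g : (Hm 4 F)ˣ} (hg : bigU 4 F g ∈ decompositionStabilizer (halves Q)) :
    g * Q.w (0, 0, 2) * g⁻¹ = Q.w (0, 0, 2) ∨ g * Q.w (0, 0, 2) * g⁻¹ = -Q.w (0, 0, 2) := by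
  obtain ⟨σ, hσ⟩ := hg
  set Z := Q.w (0, 0, 2) with hZ
  have back : ∀ i v, v ∈ halves Q (σ i) → big 4 F ((g⁻¹ : (Hm 4 F)ˣ) : Hm 4 F) *ᵥ v ∈ halves Q i := by
    intro i v hv
    rw [← hσ i] at hv
    obtain ⟨x, hx, rfl⟩ := hv
    rw [bigU_val, toLin'_apply, mulVec_mulVec, ← map_mul, Units.inv_mul, map_one, one_mulVec]
    exact hx
  have ext : ∀ h : Hm 4 F, (∀ v ∈ halves Q 0, big 4 F h *ᵥ v = v) → (∀ v ∈ halves Q 1, big 4 F h *ᵥ v = -v) →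
      h = (Z : Hm 4 F) := by
    intro h h0 h1
    refine (big 4 F).injective (Matrix.ext_of_mulVec_single fun i => ?_)
    obtain ⟨a, b⟩ := halves_split (Q := Q) (Pi.single i (1 : F))
    have hs : (Pi.single i (1 : F) : Vec 4 F) = (2 : F)⁻¹ • (Pi.single i 1 + big 4 F (Z : Hm 4 F) *ᵥ Pi.single i 1) +
        (2 : F)⁻¹ • (Pi.single i 1 - big 4 F (Z : Hm 4 F) *ᵥ Pi.single i 1) := by
      have := Q.two
      match_scalars <;> field_simp <;> ring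
    rw [hs, mulVec_add, mulVec_add, h0 _ a, h1 _ b, mem_fixd.1 a, mem_halves_one.1 b]
  have act : ∀ v, big 4 F ((g * Z * g⁻¹ : (Hm 4 F)ˣ) : Hm 4 F) *ᵥ v =
      big 4 F (g : Hm 4 F) *ᵥ (big 4 F (Z : Hm 4 F) *ᵥ (big 4 F ((g⁻¹ : (Hm 4 F)ˣ) : Hm 4 F) *ᵥ v)) := fun v => by
    rw [mulVec_mulVec, mulVec_mulVec, ← map_mul, ← map_mul, ← Units.val_mul, ← Units.val_mul]
  have fwd : ∀ v, big 4 F (g : Hm 4 F) *ᵥ (big 4 F ((g⁻¹ : (Hm 4 F)ˣ) : Hm 4 F) *ᵥ v) = v := fun v => by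
    rw [mulVec_mulVec, ← map_mul, Units.mul_inv, map_one, one_mulVec]
  obtain h0 | h0 : σ 0 = 0 ∨ σ 0 = 1 := by omega
  · have h1 : σ 1 = 1 := by
      have := σ.injective.ne (show (1 : Fin 2) ≠ 0 by decide); omega
    left
    refine Units.ext (ext _ (fun v hv => ?_) fun v hv => ?_)
    · rw [act, mem_fixd.1 (back 0 v (h0.symm ▸ hv)), fwd]
    · rw [act, mem_halves_one.1 (back 1 v (h1.symm ▸ hv)), mulVec_neg, fwd]
  · have h1 : σ 1 = 0 := by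
      have := σ.injective.ne (show (1 : Fin 2) ≠ 0 by decide); omega
    right
    refine Units.ext ?_
    rw [Units.val_neg, ← ext (-((g * Z * g⁻¹ : (Hm 4 F)ˣ) : Hm 4 F)) (fun v hv => ?_) (fun v hv => ?_), neg_neg]
    · rw [map_neg, neg_mulVec, act, mem_halves_one.1 (back 1 v (h1.symm ▸ hv)), mulVec_neg, fwd, neg_neg]
    · rw [map_neg, neg_mulVec, act, mem_fixd.1 (back 0 v (h0.symm ▸ hv)), fwd]

/-- conjugation of a block diagonal element by the exchange -/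
theorem swap_conj' (a b : (Hm 2 F)ˣ) : Q.w (0, 2, 0) * bdU a b * (Q.w (0, 2, 0))⁻¹ = bdU b a := by
  rw [Q.swap_conj, mul_inv_cancel_right]

variable {M : Subgroup (Hm 4 F)ˣ}

theorem Over.swap_mem (H : Over Q M) {a b : (Hm 2 F)ˣ} (h : bdU a b ∈ M) : bdU b a ∈ M := by
  rw [← swap_conj' (Q := Q) a b]
  exact mul_mem (mul_mem (H.hN (Q.w_N8 _)) h) (inv_mem (H.hN (Q.w_N8 _)))

/-- the first projection -/
def proj (M : Subgroup (Hm 4 F)ˣ) : Subgroup (Hm 2 F)ˣ where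
  carrier := {a | ∃ b, bdU a b ∈ M}
  one_mem' := ⟨1, by rw [bdU_one]; exact one_mem _⟩
  mul_mem' := fun ⟨b, hb⟩ ⟨d, hd⟩ => ⟨b * d, by rw [← bdU_mul]; exact mul_mem hb hd⟩
  inv_mem' := fun ⟨b, hb⟩ => ⟨b⁻¹, by rw [← bdU_inv]; exact inv_mem hb⟩

/-- the first kernel -/
def kern (M : Subgroup (Hm 4 F)ˣ) : Subgroup (Hm 2 F)ˣ where
  carrier := {a | bdU a 1 ∈ M}
  one_mem' := by show bdU (1 : (Hm 2 F)ˣ) 1 ∈ M; rw [bdU_one]; exact one_mem _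
  mul_mem' := by
    intro a c (ha : bdU a 1 ∈ M) (hc : bdU c 1 ∈ M)
    show bdU (a * c) 1 ∈ M
    rw [show (1 : (Hm 2 F)ˣ) = 1 * 1 by simp, ← bdU_mul]; exact mul_mem ha hc
  inv_mem' := by
    intro a (ha : bdU a 1 ∈ M)
    show bdU a⁻¹ 1 ∈ M
    rw [show (1 : (Hm 2 F)ˣ) = 1⁻¹ by simp, ← bdU_inv]; exact inv_mem ha

theorem Over.proj_le (H : Over Q M) : proj M ≤ Q.N4 := by
  have hP : Q.N4 ≤ proj M := fun a ha => ⟨a, H.hN (Q.diag_N8 ha)⟩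
  have hI : proj M ≤ Iso 2 F := fun a ⟨b, hb⟩ => (bdU_iso.1 (H.le hb)).1
  rcases Q.two_maximal H.prime hP hI with h | h
  · exact h
  exfalso
  have hK : kern M ≤ Iso 2 F := fun a ha => (bdU_iso.1 (H.le ha)).1
  have hfull := Q.normal_full hK (fun g hg k hk => by
    obtain ⟨b, hb⟩ := h hg
    show bdU _ _ ∈ M
    have e : bdU g b * bdU k 1 * (bdU g b)⁻¹ ∈ M := mul_mem (mul_mem hb hk) (inv_mem hb)
    rwa [bdU_inv, bdU_mul, bdU_mul, mul_one, mul_inv_cancel] at e) (H.hN (Q.half_N8 (five 0)))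
  have hall : ∀ a ∈ Iso 2 F, ∀ b ∈ Iso 2 F, bdU a b ∈ M := fun a ha b hb => by
    rw [show bdU a b = bdU a 1 * bdU 1 b by rw [bdU_mul]; simp]
    exact mul_mem (hfull ha) (H.swap_mem (hfull hb))
  have hsub : decompositionStabilizer (halves Q) ⊓ Cfsg.spGL 4 F ≤ M.map (bigU 4 F).toMonoidHom := by
    intro x hx
    obtain ⟨g, rfl⟩ := (bigU 4 F).surjective x
    have hgI := bigU_mem.1 hx.2
    refine ⟨g, ?_, rfl⟩
    rcases stab_cases hx.1 with e | e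
    · obtain ⟨a, b, rfl, ha, hb⟩ := Q.exists_bd hgI (mul_inv_eq_iff_eq_mul.1 e)
      exact hall a ha b hb
    · have hs : Q.w (0, 2, 0) * Q.w (0, 0, 2) * (Q.w (0, 2, 0))⁻¹ = -Q.w (0, 0, 2) := by
        rw [Q.axis, swap_conj', bdU_neg, neg_neg]
      have e2 : (Q.w (0, 2, 0) * g) * Q.w (0, 0, 2) * (Q.w (0, 2, 0) * g)⁻¹ = Q.w (0, 0, 2) := by
        rw [show (Q.w (0, 2, 0) * g) * Q.w (0, 0, 2) * (Q.w (0, 2, 0) * g)⁻¹ =
          Q.w (0, 2, 0) * (g * Q.w (0, 0, 2) * g⁻¹) * (Q.w (0, 2, 0))⁻¹ by group, e, mul_neg, neg_mul, hs, neg_neg]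
      obtain ⟨a, b, he, ha, hb⟩ := Q.exists_bd (mul_mem (Q.w_iso _) hgI) (mul_inv_eq_iff_eq_mul.1 e2)
      rw [show g = (Q.w (0, 2, 0))⁻¹ * (Q.w (0, 2, 0) * g) by group, he]
      exact mul_mem (inv_mem (H.hN (Q.w_N8 _))) (hall a ha b hb)
  have hle : M.map (bigU 4 F).toMonoidHom ≤ Cfsg.spGL 4 F := by
    rintro _ ⟨g, hg, rfl⟩; exact bigU_mem.2 (H.le hg)
  rcases (CfsgLib.MaxSub.SpAll.decomposition_maximal 4 4 (halves Q) halves_decomp (fun h => by omega)).2 _ hsub hle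
    with e | e
  · have hg : bigU 4 F (Q.gen 0) ∈ M.map (bigU 4 F).toMonoidHom := ⟨_, H.hN (Q.gen_N8 0), rfl⟩
    rw [e] at hg
    have hact : act 0 (0, 0, 2) ≠ (0, 0, 2) ∧ act 0 (0, 0, 2) ≠ wmul (4, 0, 0) (0, 0, 2) := by decide +kernel
    rcases stab_cases hg.1 with e' | e' <;> rw [Q.gen_conj] at e'
    · exact hact.1 (Q.w_inj e')
    · exact hact.2 (Q.w_inj (by rw [e', Q.w_mul, Q.w_neg, neg_one_mul]))
  · refine H.proper fun g hg => ?_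
    have hg' : bigU 4 F g ∈ M.map (bigU 4 F).toMonoidHom := e.symm ▸ bigU_mem.2 hg
    exact (Subgroup.mem_map_iff_mem (f := (bigU 4 F).toMonoidHom) (bigU 4 F).injective).1 hg'

theorem Over.kern_le (H : Over Q M) {c : (Hm 2 F)ˣ} (hc : bdU c 1 ∈ M) : c ∈ Q.R4 := by
  have inN : ∀ {d : (Hm 2 F)ˣ}, d ∈ kern M → d ∈ Q.N4 := fun hd => H.proj_le ⟨1, hd⟩
  obtain ⟨p, hp⟩ := Q.exists_rel (inN hc)
  by_cases hp1 : p = 1
  · exact Q.mem_of_rel_one (inN hc).2 (hp1 ▸ hp)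
  exfalso
  let S := fun q : Equiv.Perm (Fin 5) => ∃ d ∈ kern M, Q.Rel d q
  have hmul : ∀ {a b}, S a → S b → S (a * b) := fun ⟨d, hd, hr⟩ ⟨e, he, hr'⟩ =>
    ⟨d * e, mul_mem hd he, Quat.Rel.mul Q hr hr'⟩
  have hinv : ∀ {a}, S a → S a⁻¹ := fun ⟨d, hd, hr⟩ => ⟨d⁻¹, inv_mem hd, Quat.Rel.inv Q hr⟩
  have hconj : ∀ {a} l, S a → S (pperm l * a * (pperm l)⁻¹) := fun l ⟨d, hd, hr⟩ => by
    obtain ⟨n, hn, hnr⟩ := Q.exists_path2 l
    refine ⟨n * d * n⁻¹, ?_, Quat.Rel.mul Q (Quat.Rel.mul Q hnr hr) (Quat.Rel.inv Q hnr)⟩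
    show bdU _ _ ∈ M
    have hdn := H.hN (Q.diag_N8 hn)
    have e := mul_mem (mul_mem hdn (show bdU d 1 ∈ M from hd)) (inv_mem hdn)
    rwa [bdU_inv, bdU_mul, bdU_mul, mul_one, mul_inv_cancel] at e
  have hcomm : ∀ {a} l, S a → S (a * pperm l * a⁻¹ * (pperm l)⁻¹) := fun {a} l ha => by
    rw [show a * pperm l * a⁻¹ * (pperm l)⁻¹ = a * (pperm l * a⁻¹ * (pperm l)⁻¹) by group]
    exact hmul ha (hconj l (hinv ha))
  obtain ⟨la, -, lb, -, hab⟩ := perm_reduce p hp1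
  have h3 : S cyc := by
    rcases hab with e | e
    · exact e ▸ hcomm lb (hcomm la ⟨c, hc, hp⟩)
    · have h := hinv (e ▸ hcomm lb (hcomm la ⟨c, hc, hp⟩) : S cyc⁻¹)
      rwa [inv_inv] at h
  obtain ⟨d, hd, hdr⟩ := h3
  obtain ⟨e, he, her, he0⟩ : ∃ e ∈ kern M, Q.Rel e cyc ∧ e * Q.w2 (five 0) * e⁻¹ = Q.w2 (five 0) := by
    obtain ⟨b, hb⟩ := hdr 0
    rw [show cyc 0 = 0 from rfl, Q.sf_sign] at hb
    cases b
    · exact ⟨d, hd, hdr, by simpa using hb⟩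
    · refine ⟨d * Q.w2 (five 1), mul_mem hd (H.hN (Q.half_N8 _)),
        by simpa using Quat.Rel.mul Q hdr (Q.rel_word (five 1)), ?_⟩
      have h10 : Q.w2 (five 1) * Q.w2 (five 0) * (Q.w2 (five 1))⁻¹ = -Q.w2 (five 0) := by
        rw [Q.w2_inv, ← Q.w2_mul, ← Q.w2_mul,
          show wmul2 (wmul2 (five 1) (five 0)) (winv2 (five 1)) = wmul2 (4, 0, 0) (five 0) by decide, Q.w2_mul,
          Q.w2_neg, neg_one_mul]
      rw [show d * Q.w2 (five 1) * Q.w2 (five 0) * (d * Q.w2 (five 1))⁻¹ =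
        d * (Q.w2 (five 1) * Q.w2 (five 0) * (Q.w2 (five 1))⁻¹) * d⁻¹ by group, h10]
      simp at hb ⊢
      simp [hb]
  -- conjugate into the centraliser of the axis
  have hf : bdU e 1 * Q.w (0, 0, 1) * (bdU e 1)⁻¹ = Q.w (0, 0, 1) := by
    rw [Q.z01, bdU_inv, bdU_mul, bdU_mul, he0, one_mul, inv_one, mul_one]
  set g := Q.gen 0 with hg
  have hgz : g * Q.w (0, 0, 1) * g⁻¹ = Q.w (0, 0, 2) := by rw [Q.gen_conj, act0_z01.1]
  have hfm : g * bdU e 1 * g⁻¹ ∈ M := mul_mem (mul_mem (H.hN (Q.gen_N8 0)) he) (inv_mem (H.hN (Q.gen_N8 0)))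
  have hc2 : Commute (g * bdU e 1 * g⁻¹) (Q.w (0, 0, 2)) := by
    show _ = _
    have e1 := mul_inv_eq_iff_eq_mul.1 hf
    rw [← hgz, show g * bdU e 1 * g⁻¹ * (g * Q.w (0, 0, 1) * g⁻¹) = g * (bdU e 1 * Q.w (0, 0, 1)) * g⁻¹ by group,
      e1]
    group
  obtain ⟨α, β, hαβ, -, -⟩ := Q.exists_bd (H.le hfm) hc2
  rw [hαβ] at hfm
  obtain ⟨u, hu⟩ := Q.N4_conj (H.proj_le ⟨β, hfm⟩) (3, 0, 0)
  obtain ⟨u', hu'⟩ := Q.N4_conj (H.proj_le ⟨α, H.swap_mem hfm⟩) (3, 0, 0)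
  obtain ⟨s, hs⟩ := five_x'
  obtain ⟨b, hb⟩ := her 2
  obtain ⟨b', hb'⟩ := her 3
  rw [show cyc 2 = 3 from rfl] at hb
  rw [show cyc 3 = 4 from rfl] at hb'
  obtain ⟨t, ht⟩ : ∃ t : Bool, e * Q.w2 (3, 0, 0) * e⁻¹ = Q.w2 ((if t then 5 else 1), 0, 0) := by
    have hx : e * Q.w2 (wmul2 (five 2) (five 3)) * e⁻¹ = Q.w2 (wmul2 (sf (b, 3)) (sf (b', 4))) := by
      rw [Q.w2_mul, Q.w2_mul, ← hb, ← hb']; group
    obtain ⟨t, ht⟩ := five_x b b'
    rw [ht] at hx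
    rw [← hs, Q.w2_mul]
    cases s
    · exact ⟨t, by simpa [Q.w2_one] using hx⟩
    · refine ⟨!t, ?_⟩
      rw [if_pos rfl, Q.w2_neg, neg_one_mul, mul_neg, neg_mul, hx,
        show ((if (!t) = true then (5 : Fin 8) else 1), (0 : Fin 2), (0 : Fin 2)) =
          wmul2 (4, 0, 0) ((if t then 5 else 1), 0, 0) by cases t <;> rfl, Q.w2_mul, Q.w2_neg, neg_one_mul]
  have hkey : (g * bdU e 1 * g⁻¹) * Q.w (lift2 (3, 0, 0)) * (g * bdU e 1 * g⁻¹)⁻¹ =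
      g * bdU (Q.w2 ((if t then 5 else 1), 0, 0)) (Q.w2 (3, 0, 0)) * g⁻¹ := by
    have hgK : g * Q.w (lift2 (3, 0, 0)) * g⁻¹ = Q.w (lift2 (3, 0, 0)) := by rw [Q.gen_conj, act0_z01.2]
    conv_lhs => rw [← hgK]
    rw [Q.w_lift, show g * bdU e 1 * g⁻¹ * (g * bdU (Q.w2 (3, 0, 0)) (Q.w2 (3, 0, 0)) * g⁻¹) *
      (g * bdU e 1 * g⁻¹)⁻¹ = g * (bdU e 1 * bdU (Q.w2 (3, 0, 0)) (Q.w2 (3, 0, 0)) * (bdU e 1)⁻¹) * g⁻¹ by group,
      bdU_inv, bdU_mul, bdU_mul, ht, one_mul, inv_one, mul_one]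
  rw [hαβ, Q.w_lift, bdU_inv, bdU_mul, bdU_mul, hu, hu', eq_mul_inv_iff_mul_eq] at hkey
  have hv := congrArg Units.val hkey
  rw [Units.val_mul, Units.val_mul, hg, Quat.gen0_val, bdU_val, bdU_val, Q.w2_val, Q.w2_val, Q.w2_val, Q.w2_val,
    ← Q.mo_blk, ← Q.mo_blk, ← Q.mo_mul, ← Q.mo_mul] at hv
  exact p12_no t u u' (Q.mo_inj hv).symm

/-- the centraliser of the axis involution -/
theorem Over.split (H : Over Q M) {g : (Hm 4 F)ˣ} (hg : g ∈ M) (hc : Commute g (Q.w (0, 0, 2))) :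
    ∃ a b, g = bdU a b ∧ a ∈ Q.N4 ∧ b ∈ Q.N4 ∧ a * b⁻¹ ∈ Q.R4 := by
  obtain ⟨a, b, rfl, -, -⟩ := Q.exists_bd (H.le hg) hc
  have ha := H.proj_le ⟨b, hg⟩
  have hb := H.proj_le ⟨a, H.swap_mem hg⟩
  refine ⟨a, b, rfl, ha, hb, H.kern_le ?_⟩
  have e := mul_mem hg (inv_mem (H.hN (Q.diag_N8 hb)))
  rwa [bdU_inv, bdU_mul, mul_inv_cancel] at e

theorem Over.cent (H : Over Q M) {g : (Hm 4 F)ˣ} (hg : g ∈ M) (hc : Commute g (Q.w (0, 0, 2))) : g ∈ Q.N8 := by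
  obtain ⟨a, b, rfl, ha, hb, ⟨v, hv⟩⟩ := H.split hg hc
  rw [show bdU a b = bdU (a * b⁻¹) 1 * bdU b b by rw [bdU_mul]; simp, ← hv]
  exact mul_mem (Q.half_N8 v) (Q.diag_N8 hb)

/-- centralisers of all noncentral involutions -/
theorem Over.cent_sing (H : Over Q M) {v : W4} (hv : sing v = true) {g : (Hm 4 F)ˣ} (hg : g ∈ M)
    (hc : Commute g (Q.w v)) : g ∈ Q.N8 := by
  obtain ⟨h, hh, he⟩ := Q.exists_to_point hv
  have h1 : h⁻¹ * g * h ∈ Q.N8 := H.cent (mul_mem (mul_mem (inv_mem (H.hN hh)) hg) (H.hN hh)) (by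
    show _ = _
    have e := hc.eq
    rw [← he] at e
    calc h⁻¹ * g * h * Q.w (0, 0, 2) = h⁻¹ * (g * (h * Q.w (0, 0, 2) * h⁻¹)) * h := by group
      _ = h⁻¹ * (h * Q.w (0, 0, 2) * h⁻¹ * g) * h := by rw [e]
      _ = Q.w (0, 0, 2) * (h⁻¹ * g * h) := by group)
  rw [show g = h * (h⁻¹ * g * h) * h⁻¹ by group]
  exact mul_mem (mul_mem hh h1) (inv_mem hh)

end CfsgLib.MaxSub.SpEightSymp
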