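import Cfsg.Agent.Lib.MaxSub.SpEightSymp.Words

/-!
A group of symplectic type of order `128` of minus type contains two hyperbolic pairs and a quaternion pair,
mutually commuting.
-/

set_option autoImplicit false
set_option linter.unusedSectionVars false
set_option linter.style.haveILetI false

namespace CfsgLib.MaxSub.SpEightSymp

open Matrix Module

variable {F : Type*} [Field F]

/-- anticommuting units -/
def Anti (x y : (Hm 4 F)ˣ) : Prop := x * y = -(y * x)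

theorem Anti.symm {x y : (Hm 4 F)ˣ} (h : Anti x y) : Anti y x := by
  unfold Anti at *; rw [h, neg_neg]

theorem Anti.mul_comm_right {x y z : (Hm 4 F)ˣ} (h : Anti x y) (h' : Commute x z) : Anti x (y * z) := by
  unfold Anti at *
  rw [← mul_assoc, h, neg_mul, mul_assoc, h'.eq, ← mul_assoc]

theorem Anti.comm_mul_right {x y z : (Hm 4 F)ˣ} (h : Commute x y) (h' : Anti x z) : Anti x (y * z) := by
  unfold Anti at *
  rw [← mul_assoc, h.eq, mul_assoc, h', mul_neg, ← mul_assoc]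

theorem Anti.mul_right {x y z : (Hm 4 F)ˣ} (h : Anti x y) (h' : Anti x z) : Commute x (y * z) := by
  unfold Anti at *
  show _ = _
  rw [← mul_assoc, h, neg_mul, mul_assoc, h', mul_neg, neg_neg, mul_assoc]

theorem Anti.ne (h2 : (2 : F) ≠ 0) {x y : (Hm 4 F)ˣ} (h : Anti x y) : ¬ Commute x y := by
  intro hc
  unfold Anti at h
  rw [hc.eq] at h
  have e : (2 : F) • ((y * x : (Hm 4 F)ˣ) : Hm 4 F) = 0 := by
    rw [two_smul]
    nth_rewrite 1 [h]
    rw [Units.val_neg, neg_add_cancel]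
  exact (y * x).ne_zero ((smul_eq_zero.1 e).resolve_left h2)

theorem Anti.sq_mul {x y : (Hm 4 F)ˣ} (h : Anti x y) : (x * y) * (x * y) = -((x * x) * (y * y)) := by
  have h' := h.symm
  unfold Anti at h'
  rw [mul_assoc x y, ← mul_assoc y x, h', neg_mul, mul_neg]
  simp only [mul_assoc]

theorem neg_eq_of_sq {x : (Hm 4 F)ˣ} (h : x * x = -1) : x⁻¹ = -x :=
  inv_eq_of_mul_eq_one_right (by rw [mul_neg, h, neg_neg])

/-- the hypotheses on the group -/
structure Sym (R : Subgroup (Hm 4 F)ˣ) : Prop where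
  two : (2 : F) ≠ 0
  le : R ≤ Iso 4 F
  card : Nat.card R = 128
  negMem : (-1 : (Hm 4 F)ˣ) ∈ R
  sq : ∀ x ∈ R, x * x = 1 ∨ x * x = -1
  comm : ∀ x ∈ R, ∀ y ∈ R, Commute x y ∨ Anti x y
  centre : ∀ x ∈ R, (∀ y ∈ R, Commute x y) → x = 1 ∨ x = -1
  minus : Cfsg.Geo.IsOfMinusType 3 R

/-- an anticommuting pair in the group -/
structure Pair (R : Subgroup (Hm 4 F)ˣ) (a b : (Hm 4 F)ˣ) : Prop where
  left : a ∈ R
  right : b ∈ R
  anti : Anti a b

/-- commuting with both -/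
def Cm (x a b : (Hm 4 F)ˣ) : Prop := Commute x a ∧ Commute x b

variable {R : Subgroup (Hm 4 F)ˣ}

theorem Sym.finite (hR : Sym R) : Finite R := Nat.finite_of_card_ne_zero (by rw [hR.card]; norm_num)

theorem Sym.fix_one (hR : Sym R) {a b y : (Hm 4 F)ˣ} (hp : Pair R a b) (hy : y ∈ R) :
    ∃ i : Fin 4, y * ![1, a, b, b * a] i ∈ R ∧ Cm (y * ![1, a, b, b * a] i) a b := by
  have ab := hp.anti
  have ba := hp.anti.symm
  rcases hR.comm y hy a hp.left with h | h <;> rcases hR.comm y hy b hp.right with h' | h'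
  · exact ⟨0, by simpa using hy, by simpa using (show Cm y a b from ⟨h, h'⟩)⟩
  · refine ⟨1, mul_mem hy hp.left, ?_, ?_⟩
    · exact h.mul_left (Commute.refl a)
    · exact (Anti.mul_right h'.symm ba).symm
  · refine ⟨2, mul_mem hy hp.right, ?_, ?_⟩
    · exact (Anti.mul_right h.symm ab).symm
    · exact h'.mul_left (Commute.refl b)
  · refine ⟨3, mul_mem hy (mul_mem hp.right hp.left), ?_, ?_⟩
    · show Commute (y * (b * a)) a
      exact (Anti.mul_right h.symm (ab.mul_comm_right (Commute.refl a))).symm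
    · show Commute (y * (b * a)) b
      exact (Anti.mul_right h'.symm (Anti.comm_mul_right (Commute.refl b) ba)).symm

theorem Cm.four {x a b : (Hm 4 F)ˣ} (h : Cm x a b) (i : Fin 4) : Commute x (![1, a, b, b * a] i) := by
  fin_cases i
  · exact Commute.one_right x
  · exact h.1
  · exact h.2
  · exact h.2.mul_right h.1

theorem Sym.exists_anti (hR : Sym R) {x : (Hm 4 F)ˣ} (hx : x ∈ R) (h1 : x ≠ 1) (h2 : x ≠ -1) :
    ∃ y ∈ R, Anti x y := by
  by_contra hcon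
  push Not at hcon
  rcases hR.centre x hx fun y hy => (hR.comm x hx y hy).resolve_right (hcon y hy) with h | h
  · exact h1 h
  · exact h2 h

/-- three mutually commuting pairs -/
theorem Sym.exists_pairs (hR : Sym R) : ∃ a b c d e f, Pair R a b ∧ Pair R c d ∧ Pair R e f ∧
    Cm c a b ∧ Cm d a b ∧ Cm e a b ∧ Cm f a b ∧ Cm e c d ∧ Cm f c d := by
  haveI := hR.finite
  have small : ∀ {ι : Type} [Fintype ι] (f : ι → (Hm 4 F)ˣ), Fintype.card ι < 128 → ∃ y ∈ R, ∀ i, y ≠ f i := by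
    intro ι _ f hι
    by_contra hcon
    push Not at hcon
    choose i hi using hcon
    have h := Nat.card_le_card_of_injective (fun y : R => i y y.2) fun y z e => Subtype.ext (by
      rw [hi y y.2, hi z z.2]; exact congrArg f e)
    rw [hR.card, Nat.card_eq_fintype_card] at h
    omega
  obtain ⟨a, ha, ha'⟩ := small (ι := Fin 2) ![1, -1] (by simp)
  obtain ⟨b, hb, hab⟩ := hR.exists_anti ha (ha' 0) (ha' 1)
  have pab : Pair R a b := ⟨ha, hb, hab⟩
  -- the second pair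
  obtain ⟨y, hy, hy'⟩ := small (ι := Fin 2 × Fin 4)
    (fun q => ![1, -1] q.1 * (![1, a, b, b * a] q.2)⁻¹) (by simp)
  obtain ⟨i, hc, hcab⟩ := hR.fix_one pab hy
  obtain ⟨c, hcdef⟩ : ∃ c, c = y * ![1, a, b, b * a] i := ⟨_, rfl⟩
  rw [← hcdef] at hc hcab
  have c1 : ∀ k : Fin 2, c ≠ ![1, -1] k := fun k e => hy' (k, i) (by
    show y = ![1, -1] k * (![1, a, b, b * a] i)⁻¹
    rw [← e, hcdef, mul_inv_cancel_right])
  obtain ⟨z, hz, hcz⟩ := hR.exists_anti hc (c1 0) (c1 1)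
  obtain ⟨j, hd, hdab⟩ := hR.fix_one pab hz
  obtain ⟨d, hddef⟩ : ∃ d, d = z * ![1, a, b, b * a] j := ⟨_, rfl⟩
  rw [← hddef] at hd hdab
  have pcd : Pair R c d := ⟨hc, hd, hddef ▸ hcz.mul_comm_right (hcab.four j)⟩
  -- the third pair
  obtain ⟨y₂, hy₂, hy₂'⟩ := small (ι := Fin 2 × Fin 4 × Fin 4)
    (fun q => ![1, -1] q.1 * (![1, c, d, d * c] q.2.2)⁻¹ * (![1, a, b, b * a] q.2.1)⁻¹) (by simp)
  have adjust : ∀ y ∈ R, ∃ (k l : Fin 4) (y' : (Hm 4 F)ˣ), y' = y * ![1, a, b, b * a] k * ![1, c, d, d * c] l ∧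
      y' ∈ R ∧ Cm y' a b ∧ Cm y' c d := by
    intro y hy
    obtain ⟨k, hk, hkab⟩ := hR.fix_one pab hy
    obtain ⟨l, hl, hlcd⟩ := hR.fix_one pcd hk
    refine ⟨k, l, _, rfl, hl, ⟨?_, ?_⟩, hlcd⟩
    · exact hkab.1.mul_left ((Cm.four (⟨hcab.1.symm, hdab.1.symm⟩ : Cm a c d) l).symm)
    · exact hkab.2.mul_left ((Cm.four (⟨hcab.2.symm, hdab.2.symm⟩ : Cm b c d) l).symm)
  obtain ⟨k, l, e, hedef, he, heab, hecd⟩ := adjust y₂ hy₂
  have e1 : ∀ t : Fin 2, e ≠ ![1, -1] t := fun t h => hy₂' (t, k, l) (by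
    show y₂ = ![1, -1] t * (![1, c, d, d * c] l)⁻¹ * (![1, a, b, b * a] k)⁻¹
    rw [← h, hedef, mul_inv_cancel_right, mul_inv_cancel_right])
  obtain ⟨z₂, hz₂, hez⟩ := hR.exists_anti he (e1 0) (e1 1)
  obtain ⟨k', l', f, hfdef, hf, hfab, hfcd⟩ := adjust z₂ hz₂
  have pef : Pair R e f := ⟨he, hf, hfdef ▸ (hez.mul_comm_right (heab.four k')).mul_comm_right (hecd.four l')⟩
  exact ⟨a, b, c, d, e, f, pab, pcd, pef, hcab, hdab, heab, hfab, hecd, hfcd⟩

/-- a pair is hyperbolic after a change, or quaternion -/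
theorem Sym.hyper_or (hR : Sym R) {a b : (Hm 4 F)ˣ} (hp : Pair R a b) :
    (∃ a' b', Pair R a' b' ∧ a' * a' = 1 ∧ b' * b' = 1 ∧ ∀ x, Cm x a b → Cm x a' b') ∨
      (a * a = -1 ∧ b * b = -1) := by
  rcases hR.sq a hp.left with ha | ha <;> rcases hR.sq b hp.right with hb | hb
  · exact Or.inl ⟨a, b, hp, ha, hb, fun _ h => h⟩
  · refine Or.inl ⟨a, a * b, ⟨hp.left, mul_mem hp.left hp.right, Anti.comm_mul_right (Commute.refl a) hp.anti⟩, ha,
      by rw [hp.anti.sq_mul, ha, hb, one_mul, neg_neg], fun x h => ⟨h.1, h.1.mul_right h.2⟩⟩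
  · refine Or.inl ⟨b, a * b, ⟨hp.right, mul_mem hp.left hp.right, hp.anti.symm.mul_comm_right (Commute.refl b)⟩, hb,
      by rw [hp.anti.sq_mul, ha, hb, mul_one, neg_neg], fun x h => ⟨h.2, h.1.mul_right h.2⟩⟩
  · exact Or.inr ⟨ha, hb⟩

/-- two commuting pairs can be chosen with the first hyperbolic -/
theorem Sym.two_pairs (hR : Sym R) {a b c d : (Hm 4 F)ˣ} (p : Pair R a b) (q : Pair R c d) (hc : Cm c a b)
    (hd : Cm d a b) : ∃ h₁ h₂ x₁ x₂, Pair R h₁ h₂ ∧ h₁ * h₁ = 1 ∧ h₂ * h₂ = 1 ∧ Pair R x₁ x₂ ∧ Cm x₁ h₁ h₂ ∧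
      Cm x₂ h₁ h₂ ∧ ∀ x, Cm x a b → Cm x c d → Cm x h₁ h₂ ∧ Cm x x₁ x₂ := by
  rcases hR.hyper_or p with ⟨a', b', p', ha', hb', hx⟩ | ⟨ha, hb⟩
  · exact ⟨a', b', c, d, p', ha', hb', q, hx c hc, hx d hd, fun x h h' => ⟨hx x h, h'⟩⟩
  rcases hR.hyper_or q with ⟨c', d', q', hc', hd', hx⟩ | ⟨hcc, hdd⟩
  · exact ⟨c', d', a, b, q', hc', hd', p, hx a ⟨hc.1.symm, hd.1.symm⟩, hx b ⟨hc.2.symm, hd.2.symm⟩,
      fun x h h' => ⟨hx x h', h⟩⟩
  -- two quaternion pairs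
  have sq2 : ∀ u v : (Hm 4 F)ˣ, Commute u v → (u * v) * (u * v) = (u * u) * (v * v) := fun u v h => by
    rw [mul_assoc u v, ← mul_assoc v u, ← h.eq]; simp only [mul_assoc]
  have hac : Commute a c := hc.1.symm
  have hadc : Commute a d := hd.1.symm
  have hbc : Commute b c := hc.2.symm
  have hbd : Commute b d := hd.2.symm
  have hbcd : Commute b (c * d) := hbc.mul_right hbd
  refine ⟨a * c, a * d, b * (c * d), a * (b * (c * d)), ⟨mul_mem p.left q.left, mul_mem p.left q.right, ?_⟩,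
    by rw [sq2 a c hac, ha, hcc, neg_mul_neg, mul_one], by rw [sq2 a d hadc, ha, hdd, neg_mul_neg, mul_one],
    ⟨mul_mem p.right (mul_mem q.left q.right), mul_mem p.left (mul_mem p.right (mul_mem q.left q.right)), ?_⟩,
    ?_, ?_, fun x h h' => ⟨⟨h.1.mul_right h'.1, h.1.mul_right h'.2⟩,
      ⟨h.2.mul_right (h'.1.mul_right h'.2), h.1.mul_right (h.2.mul_right (h'.1.mul_right h'.2))⟩⟩⟩
  · -- the first new pair
    have h1 : Commute (a * c) a := (Commute.refl a).mul_left hac.symm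
    have h2 : Anti (a * c) d := (Anti.comm_mul_right hadc.symm q.anti.symm).symm
    exact Anti.comm_mul_right h1 h2
  · have h1 : Anti (b * (c * d)) a :=
      (p.anti.mul_comm_right (hac.mul_right hadc)).symm
    exact h1.mul_comm_right (Commute.refl _)
  all_goals
    have ab : Anti a (b * (c * d)) := p.anti.mul_comm_right (hac.mul_right hadc)
    have cb : Anti c (b * (c * d)) :=
      Anti.comm_mul_right hbc.symm (Anti.comm_mul_right (Commute.refl c) q.anti)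
    have db : Anti d (b * (c * d)) :=
      Anti.comm_mul_right hbd.symm (q.anti.symm.mul_comm_right (Commute.refl d))
  · exact ⟨Anti.mul_right ab.symm cb.symm, Anti.mul_right ab.symm db.symm⟩
  · have aa : Anti a (a * (b * (c * d))) := Anti.comm_mul_right (Commute.refl a) ab
    have ca : Anti c (a * (b * (c * d))) := Anti.comm_mul_right hac.symm cb
    have da : Anti d (a * (b * (c * d))) := Anti.comm_mul_right hadc.symm db
    exact ⟨Anti.mul_right aa.symm ca.symm, Anti.mul_right aa.symm da.symm⟩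

/-- the frame -/
structure Frame (R : Subgroup (Hm 4 F)ˣ) (z₁ w₁ z₂ w₂ i j : (Hm 4 F)ˣ) : Prop where
  first : Pair R z₁ w₁
  second : Pair R z₂ w₂
  third : Pair R i j
  z₁sq : z₁ * z₁ = 1
  w₁sq : w₁ * w₁ = 1
  z₂sq : z₂ * z₂ = 1
  w₂sq : w₂ * w₂ = 1
  isq : i * i = -1
  jsq : j * j = -1
  z₂c : Cm z₂ z₁ w₁
  w₂c : Cm w₂ z₁ w₁
  ic₁ : Cm i z₁ w₁
  jc₁ : Cm j z₁ w₁
  ic₂ : Cm i z₂ w₂
  jc₂ : Cm j z₂ w₂

theorem Sym.no_three (hR : Sym R) {a b c a' b' c' : (Hm 4 F)ˣ} (pa : Pair R a a') (pb : Pair R b b')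
    (pc : Pair R c c') (ha : a * a = 1) (hb : b * b = 1) (hc : c * c = 1) (cb : Cm b a a') (cc : Cm c a a')
    (cc' : Cm c b b') (bb' : Cm b' a a') (c'a : Cm c' a a') (c'b : Cm c' b b') : False := by
  haveI := hR.finite
  obtain ⟨f, hf⟩ : ∃ f : Bool × Bool × Bool × Bool → (Hm 4 F)ˣ, ∀ s, f s =
      (if s.1 then -1 else 1) * ((if s.2.1 then a else 1) * ((if s.2.2.1 then b else 1) *
        (if s.2.2.2 then c else 1))) := ⟨_, fun _ => rfl⟩
  have hmem : ∀ s, f s ∈ R := fun s => by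
    rw [hf]
    refine mul_mem ?_ (mul_mem ?_ (mul_mem ?_ ?_)) <;> split
    exacts [hR.negMem, one_mem _, pa.left, one_mem _, pb.left, one_mem _, pc.left, one_mem _]
  have toggle : ∀ {x : (Hm 4 F)ˣ}, x * x = 1 → ∀ p q : Bool,
      (if p then x else 1) * (if q then x else 1) = if xor p q then x else 1 := fun {x} hx p q => by
    cases p <;> cases q <;> simp [hx]
  have hite : ∀ {x y : (Hm 4 F)ˣ}, Commute x y → ∀ p q : Bool, Commute (if p then x else 1) (if q then y else 1) :=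
    fun h p q => by cases p <;> cases q <;> simp [h]
  have hneg : ∀ (p : Bool) (y : (Hm 4 F)ˣ), Commute (if p then (-1 : (Hm 4 F)ˣ) else 1) y := fun p y => by
    cases p <;> simp
  have hadd : ∀ s t, f s * f t = f (xor s.1 t.1, xor s.2.1 t.2.1, xor s.2.2.1 t.2.2.1, xor s.2.2.2 t.2.2.2) := by
    rintro ⟨p₀, p₁, p₂, p₃⟩ ⟨q₀, q₁, q₂, q₃⟩
    rw [hf, hf, hf]
    dsimp only
    rw [← toggle (show (-1 : (Hm 4 F)ˣ) * -1 = 1 by simp), ← toggle ha, ← toggle hb, ← toggle hc,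
      (hneg q₀ _).symm.mul_mul_mul_comm,
      ((hite cb.1.symm q₁ p₂).mul_right (hite cc.1.symm q₁ p₃)).symm.mul_mul_mul_comm,
      (hite cc'.1.symm q₂ p₃).symm.mul_mul_mul_comm]
  obtain ⟨A, hA⟩ : ∃ A : Subgroup R, ∀ x, x ∈ A ↔ ∃ s, f s = x := by
    refine ⟨
      { carrier := {x : R | ∃ s, f s = (x : (Hm 4 F)ˣ)}
        one_mem' := ⟨(false, false, false, false), by simp [hf]⟩
        mul_mem' := ?_
        inv_mem' := ?_ }, fun x => Iff.rfl⟩
    · rintro x y ⟨s, hs⟩ ⟨t, ht⟩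
      exact ⟨_, by rw [Subgroup.coe_mul, ← hs, ← ht, hadd]⟩
    · rintro x ⟨s, hs⟩
      refine ⟨s, ?_⟩
      rw [Subgroup.coe_inv, ← hs]
      exact (inv_eq_of_mul_eq_one_right (by rw [hadd]; simp [hf])).symm
  have hcomm : IsMulCommutative A := ⟨⟨fun x y => Subtype.ext (Subtype.ext (by
    obtain ⟨s, hs⟩ := (hA x).1 x.2
    obtain ⟨t, ht⟩ := (hA y).1 y.2
    simp only [Subgroup.coe_mul, ← hs, ← ht, hadd, Bool.xor_comm]))⟩⟩
  have hsq : ∀ x ∈ A, x * x = 1 := fun x hx => Subtype.ext (by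
    obtain ⟨s, hs⟩ := (hA x).1 hx
    rw [Subgroup.coe_mul, ← hs, hadd]; simp [hf])
  have hlt := hR.minus A hcomm hsq
  have h2 := hR.two
  have hinj : Function.Injective fun s => (⟨⟨f s, hmem s⟩, (hA _).2 ⟨s, rfl⟩⟩ : A) := by
    intro s t e
    have e' : f s = f t := congrArg (fun x : A => ((x : R) : (Hm 4 F)ˣ)) e
    have e2 : f (xor s.1 t.1, xor s.2.1 t.2.1, xor s.2.2.1 t.2.2.1, xor s.2.2.2 t.2.2.2) = 1 := by
      rw [← hadd, e', hadd]; simp [hf]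
    obtain ⟨⟨p₀, p₁, p₂, p₃⟩, hp⟩ : ∃ u : Bool × Bool × Bool × Bool,
      u = (xor s.1 t.1, xor s.2.1 t.2.1, xor s.2.2.1 t.2.2.1, xor s.2.2.2 t.2.2.2) := ⟨_, rfl⟩
    rw [← hp, hf] at e2
    have key : ∀ {x' : (Hm 4 F)ˣ}, Commute x' ((if p₀ then -1 else 1) * ((if p₁ then a else 1) *
        ((if p₂ then b else 1) * (if p₃ then c else 1)))) := fun {x'} => by
      dsimp only at e2; rw [e2]; exact Commute.one_right x'
    have i1 : ∀ {x' x : (Hm 4 F)ˣ}, Commute x' x → ∀ p : Bool, Commute x' (if p then x else 1) :=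
      fun h p => by cases p <;> simp [h]
    have h₁ : p₁ = false := by
      rcases Bool.eq_false_or_eq_true p₁ with h | h
      swap
      · exact h
      exfalso
      refine Anti.ne h2 (Anti.comm_mul_right (hneg p₀ a').symm ?_) (key (x' := a'))
      rw [h, if_pos rfl]
      exact pa.anti.symm.mul_comm_right ((i1 cb.2.symm p₂).mul_right (i1 cc.2.symm p₃))
    have h₂ : p₂ = false := by
      rcases Bool.eq_false_or_eq_true p₂ with h | h
      swap
      · exact h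
      exfalso
      refine Anti.ne h2 (Anti.comm_mul_right (hneg p₀ b').symm (Anti.comm_mul_right (i1 bb'.1 p₁) ?_))
        (key (x' := b'))
      rw [h, if_pos rfl]
      exact pb.anti.symm.mul_comm_right (i1 cc'.2.symm p₃)
    have h₃ : p₃ = false := by
      rcases Bool.eq_false_or_eq_true p₃ with h | h
      swap
      · exact h
      exfalso
      refine Anti.ne h2 (Anti.comm_mul_right (hneg p₀ c').symm (Anti.comm_mul_right (i1 c'a.1 p₁)
        (Anti.comm_mul_right (i1 c'b.1 p₂) ?_))) (key (x' := c'))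
      rw [h, if_pos rfl]
      exact pc.anti.symm
    subst h₁; subst h₂; subst h₃
    have h₀ : p₀ = false := by
      rcases Bool.eq_false_or_eq_true p₀ with h | h
      swap
      · exact h
      exfalso
      rw [h] at e2
      simp at e2
      have e3 := congrArg Units.val e2
      rw [Units.val_neg, Units.val_one] at e3
      have : (2 : F) • (1 : Hm 4 F) = 0 := by
        rw [two_smul]; nth_rewrite 1 [← e3]; exact neg_add_cancel _
      exact one_ne_zero ((smul_eq_zero.1 this).resolve_left h2)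
    subst h₀
    simp at hp
    obtain ⟨x0, x1, x2, x3⟩ := hp
    exact Prod.ext x0 (Prod.ext x1 (Prod.ext x2 x3))
  have h16 := Nat.card_le_card_of_injective _ hinj
  simp at h16
  norm_num at hlt
  omega

/-- the existence of a frame -/
theorem Sym.exists_frame (hR : Sym R) : ∃ z₁ w₁ z₂ w₂ i j, Frame R z₁ w₁ z₂ w₂ i j := by
  obtain ⟨a, b, c, d, e, f, pab, pcd, pef, hc, hd, he, hf, hec, hfc⟩ := hR.exists_pairs
  obtain ⟨z₁, w₁, x₁, x₂, p1, hz, hw, px, hx1, hx2, hk⟩ := hR.two_pairs pab pcd hc hd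
  obtain ⟨he1, hex⟩ := hk e he hec
  obtain ⟨hf1, hfx⟩ := hk f hf hfc
  obtain ⟨z₂, w₂, y₁, y₂, p2, hz2, hw2, py, hy1, hy2, hk2⟩ := hR.two_pairs px pef hex hfx
  have ka : Cm z₁ x₁ x₂ ∧ Cm z₁ e f := ⟨⟨hx1.1.symm, hx2.1.symm⟩, ⟨he1.1.symm, hf1.1.symm⟩⟩
  have kb : Cm w₁ x₁ x₂ ∧ Cm w₁ e f := ⟨⟨hx1.2.symm, hx2.2.symm⟩, ⟨he1.2.symm, hf1.2.symm⟩⟩
  obtain ⟨za, ya⟩ := hk2 z₁ ka.1 ka.2
  obtain ⟨zb, yb⟩ := hk2 w₁ kb.1 kb.2
  rcases hR.hyper_or py with ⟨u, v, puv, hu, hv, huv⟩ | ⟨hy, hy'⟩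
  · exfalso
    obtain ⟨u2, v2⟩ : Cm z₂ u v ∧ Cm w₂ u v :=
      ⟨huv z₂ ⟨hy1.1.symm, hy2.1.symm⟩, huv w₂ ⟨hy1.2.symm, hy2.2.symm⟩⟩
    have u1 := huv z₁ ya
    have v1 := huv w₁ yb
    exact hR.no_three p1 p2 puv hz hz2 hu ⟨za.1.symm, zb.1.symm⟩ ⟨u1.1.symm, v1.1.symm⟩ ⟨u2.1.symm, v2.1.symm⟩
      ⟨za.2.symm, zb.2.symm⟩ ⟨u1.2.symm, v1.2.symm⟩ ⟨u2.2.symm, v2.2.symm⟩
  · exact ⟨z₁, w₁, z₂, w₂, y₁, y₂, p1, p2, py, hz, hw, hz2, hw2, hy, hy', ⟨za.1.symm, zb.1.symm⟩,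
      ⟨za.2.symm, zb.2.symm⟩, ⟨ya.1.symm, yb.1.symm⟩, ⟨ya.2.symm, yb.2.symm⟩, hy1, hy2⟩

end CfsgLib.MaxSub.SpEightSymp
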