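import Cfsg.Agent.Lib.MaxSub.SpEightSymp.Final
import Cfsg.Agent.Lib.MaxSub.SpEightSymp.Frame

/-!
A group of symplectic type of order `128` of minus type is conjugate to the model by an isometry.
-/

set_option autoImplicit false
set_option linter.unusedSectionVars false
set_option linter.style.haveILetI false

namespace CfsgLib.MaxSub.SpEightSymp

open Matrix Module
open scoped MatrixGroups

variable {F : Type*} [Field F] [Fintype F]

/-- adjoint column -/
def vst (v : Fin 4 → M2 F) : Fin 4 → M2 F := fun i => (v i).adjugate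

theorem vst_mulVec (A : Hm 4 F) (v : Fin 4 → M2 F) : vst (A *ᵥ v) = vst v ᵥ* hst A := by
  funext i
  show (∑ k, A i k * v k).adjugate = ∑ k, vst v k * hst A k i
  let φ : M2 F →+ M2 F := AddMonoidHom.mk' Matrix.adjugate adj_add
  show φ (∑ k, A i k * v k) = _
  rw [map_sum]
  exact Finset.sum_congr rfl fun k _ => adjugate_mul_distrib _ _

theorem trH_anti (h2 : (2 : F) ≠ 0) {x y : (Hm 4 F)ˣ} (h : Anti x y) : trH (x : Hm 4 F) = 0 := by
  have e : y * x * y⁻¹ = -x := by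
    have h' := h.symm
    unfold Anti at h'
    rw [h', neg_mul, mul_inv_cancel_right]
  have := trH_conj y x
  rw [e, Units.val_neg, trH_neg] at this
  exact (mul_eq_zero.1 (show (2 : F) * trH (x : Hm 4 F) = 0 by linear_combination -this)).resolve_left h2

/-- a rank two self-adjoint idempotent from one of its columns -/
theorem column_form {P : Hm 4 F} (h2 : (2 : F) ≠ 0) (hPP : P * P = P) (hPs : hst P = P) (hPr : finrank F (rg P) = 2)
    {k : Fin 4} {s : F} (hs : P k k = s • (1 : M2 F)) (hs0 : s ≠ 0) (i j : Fin 4) :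
    P i j = s⁻¹ • (P i k * P k j) := by
  obtain ⟨E, hE⟩ : ∃ E : Hm 4 F, E = Matrix.of fun a b => if a = k ∧ b = k then 1 else 0 := ⟨_, rfl⟩
  obtain ⟨R, hR⟩ : ∃ R, R = s⁻¹ • (P * E * P) := ⟨_, rfl⟩
  have hEPE : E * P * E = s • E := by
    refine Matrix.ext fun a b => ?_
    by_cases ha : a = k <;> by_cases hb : b = k <;> simp [Matrix.mul_apply, hE, ha, hb, hs]
  have hRR : R * R = R := by
    rw [hR, smul_mul_smul_comm, show P * E * P * (P * E * P) = P * (E * (P * P) * E) * P by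
      simp only [mul_assoc], hPP, hEPE, mul_smul_comm, smul_mul_assoc, smul_smul]
    congr 1; field_simp
  have hEs : hst E = E := by
    refine Matrix.ext fun a b => ?_
    rw [hst_apply]
    simp only [hE, Matrix.of_apply, and_comm]
    split <;> simp
  have hRs : hst R = R := by rw [hR, hst_smul, hst_mul, hst_mul, hPs, hEs, mul_assoc]
  have hPR : P * R = R := by rw [hR, mul_smul_comm, ← mul_assoc, ← mul_assoc, hPP]
  have hle : rg R ≤ rg P := hPR ▸ rg_mul_le P R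
  have hRr : finrank F (rg R) = 2 := by
    have ht := idem_trace hRR
    have h' := hPr ▸ Submodule.finrank_mono hle
    obtain ⟨m, hm⟩ := even_rank hRR hRs
    have hm' : m = 0 ∨ m = 1 := by omega
    rcases hm' with rfl | rfl
    · exfalso
      have e : trH (E * P) = 2 * s := by
        rw [trH, Finset.sum_eq_single k (fun l _ hl => by simp [Matrix.mul_apply, hE, hl]) (by simp)]
        simp [Matrix.mul_apply, hE, hs]; ring
      rw [hm, hR, trH_smul, trH_mul_comm, ← mul_assoc, hPP, trH_mul_comm, e] at ht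
      field_simp at ht
      simp [h2] at ht
    · exact hm
  have heq : rg R = rg P := Submodule.eq_of_le_of_finrank_eq hle (hRr.trans hPr.symm)
  have hRP : R = P := by
    have e1 : R * P = P := eq_of_rg_idem hRR heq.ge
    rw [← e1]
    conv_lhs => rw [hR]
    rw [hR, smul_mul_assoc, mul_assoc (P * E) P P, hPP]
  conv_lhs => rw [← hRP, hR]
  rw [Matrix.smul_apply, Matrix.mul_apply, Finset.sum_eq_single k ?_ (by simp)]
  · rw [show (P * E) i k = P i k by simp [Matrix.mul_apply, hE]]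
  · intro l _ hl; simp [Matrix.mul_apply, hE, hl]

/-- the model of the six generators -/
def genWords : List W4 := [(0, 0, 1), (0, 0, 2), (0, 1, 0), (0, 2, 0), (1, 0, 0), (2, 0, 0)]

theorem word_gens : ∀ w : W4, ∃ a b c d e f : Bool, w =
    wmul (wmul (wmul (if a then (1, 0, 0) else (0, 0, 0)) (if b then (2, 0, 0) else (0, 0, 0)))
      (wmul (if c then (0, 0, 1) else (0, 0, 0)) (if d then (0, 0, 2) else (0, 0, 0))))
      (wmul (if e then (0, 1, 0) else (0, 0, 0)) (if f then (0, 2, 0) else (0, 0, 0))) ∨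
    w = wmul (4, 0, 0) (wmul (wmul (wmul (if a then (1, 0, 0) else (0, 0, 0)) (if b then (2, 0, 0) else (0, 0, 0)))
      (wmul (if c then (0, 0, 1) else (0, 0, 0)) (if d then (0, 0, 2) else (0, 0, 0))))
      (wmul (if e then (0, 1, 0) else (0, 0, 0)) (if f then (0, 2, 0) else (0, 0, 0)))) := by decide +kernel

theorem gen_shape : wm (0, 0, 1) = ⟨id, ![0, 4, 0, 4]⟩ ∧ wm (0, 0, 2) = ⟨id, ![0, 0, 4, 4]⟩ ∧
    wm (0, 1, 0) = ⟨![1, 0, 3, 2], fun _ => 0⟩ ∧ wm (0, 2, 0) = ⟨![2, 3, 0, 1], fun _ => 0⟩ ∧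
    wm (1, 0, 0) = ⟨id, fun _ => 1⟩ ∧ wm (2, 0, 0) = ⟨id, fun _ => 2⟩ := by decide +kernel

/-- conjugacy to the model -/
theorem Frame.conj {R : Subgroup (Hm 4 F)ˣ} (hR : Sym R) {z₁ w₁ z₂ w₂ i j : (Hm 4 F)ˣ}
    (hf : Frame R z₁ w₁ z₂ w₂ i j) :
    ∃ (Q : Quat F) (g : (Hm 4 F)ˣ), g ∈ Iso 4 F ∧ Q.R8.map (MulAut.conj g).toMonoidHom = R := by
  have h2 := hR.two
  have h4 : (4 : F) ≠ 0 := by rw [show (4 : F) = 2 * 2 by norm_num]; exact mul_ne_zero h2 h2
  obtain ⟨⟨z1R, w1R, a1⟩, ⟨z2R, w2R, a2⟩, ⟨iR, jR, a3⟩, s1, t1, s2, t2, s3, t3, c2, d2, c31, d31, c32, d32⟩ := hf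
  have sa : ∀ x ∈ R, x * x = 1 → hst (x : Hm 4 F) = x := fun x hx h => Iso.self_adj (hR.le hx) h
  obtain ⟨Z1, hZ1⟩ : ∃ X : Hm 4 F, X = (z₁ : Hm 4 F) := ⟨_, rfl⟩
  obtain ⟨Z2, hZ2⟩ : ∃ X : Hm 4 F, X = (z₂ : Hm 4 F) := ⟨_, rfl⟩
  have hz12 : Commute Z1 Z2 := by
    rw [hZ1, hZ2]; show _ = _; rw [← Units.val_mul, ← Units.val_mul, c2.1.symm.eq]
  obtain ⟨E, hE⟩ : ∃ E, E = (4 : F)⁻¹ • ((1 + Z1) * (1 + Z2)) := ⟨_, rfl⟩
  have q1 : Z1 * Z1 = 1 := by rw [hZ1, ← Units.val_mul, s1, Units.val_one]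
  have q2 : Z2 * Z2 = 1 := by rw [hZ2, ← Units.val_mul, s2, Units.val_one]
  have hc12 : (1 + Z2) * (1 + Z1) = (1 + Z1) * (1 + Z2) :=
    (((Commute.one_left _).add_left ((Commute.one_right _).add_right hz12.symm))).eq
  have hEE : E * E = E := by
    have e1 : (1 + Z1) * (1 + Z1) = (2 : F) • (1 + Z1) := by
      simp only [add_mul, mul_add, one_mul, mul_one, q1]; module
    have e2 : (1 + Z2) * (1 + Z2) = (2 : F) • (1 + Z2) := by
      simp only [add_mul, mul_add, one_mul, mul_one, q2]; module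
    rw [hE, smul_mul_smul_comm, mul_assoc, ← mul_assoc (1 + Z2), hc12, mul_assoc (1 + Z1) (1 + Z2), e2,
      ← mul_assoc, e1, smul_mul_assoc, mul_smul_comm, smul_smul, smul_smul]
    congr 1
    field_simp
    norm_num
  have hEs : hst E = E := by
    rw [hE, hst_smul, hst_mul, hst_add, hst_add, hst_one, hZ1, hZ2, sa _ z1R s1, sa _ z2R s2, ← hZ1, ← hZ2, hc12]
  have hEc : ∀ x : (Hm 4 F)ˣ, Commute x z₁ → Commute x z₂ → Commute (x : Hm 4 F) E := by
    intro x hx1 hx2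
    have k1 : Commute (x : Hm 4 F) Z1 := hZ1 ▸ (congrArg Units.val hx1.eq : _)
    have k2 : Commute (x : Hm 4 F) Z2 := hZ2 ▸ (congrArg Units.val hx2.eq : _)
    rw [hE]
    exact (((Commute.one_right _).add_right k1).mul_right ((Commute.one_right _).add_right k2)).smul_right _
  have zE1 : Z1 * E = E := by
    rw [hE, mul_smul_comm, ← mul_assoc, show Z1 * (1 + Z1) = 1 + Z1 by rw [mul_add, mul_one, q1, add_comm]]
  have zE2 : Z2 * E = E := by
    rw [hE, mul_smul_comm, ← hc12, ← mul_assoc, show Z2 * (1 + Z2) = 1 + Z2 by rw [mul_add, mul_one, q2, add_comm]]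
  have kill : ∀ {A : Hm 4 F}, (Z1 * A = -(A * Z1) ∨ Z2 * A = -(A * Z2)) → E * A * E = 0 := by
    intro A h
    have hz : ∀ Z : Hm 4 F, Z * E = E → hst Z = Z → E * Z = E := fun Z e1 e2 => by
      have := congrArg hst e1
      rwa [hst_mul, hEs, e2] at this
    have fin : E * A * E = -(E * A * E) → E * A * E = 0 := fun e => by
      have : (2 : F) • (E * A * E) = 0 := by rw [two_smul]; nth_rewrite 1 [e]; exact neg_add_cancel _
      exact (smul_eq_zero.1 this).resolve_left h2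
    rcases h with h | h <;> refine fin ?_
    · calc E * A * E = E * (Z1 * A) * E := by rw [← mul_assoc E Z1, hz Z1 zE1 (hZ1 ▸ sa _ z1R s1)]
        _ = -(E * A * (Z1 * E)) := by rw [h]; simp only [mul_neg, neg_mul, mul_assoc]
        _ = _ := by rw [zE1]
    · calc E * A * E = E * (Z2 * A) * E := by rw [← mul_assoc E Z2, hz Z2 zE2 (hZ2 ▸ sa _ z2R s2)]
        _ = -(E * A * (Z2 * E)) := by rw [h]; simp only [mul_neg, neg_mul, mul_assoc]
        _ = _ := by rw [zE2]
  have htE : trH E = 2 := by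
    have e12 : trH ((z₁ * z₂ : (Hm 4 F)ˣ) : Hm 4 F) = 0 :=
      trH_anti h2 ((a1.symm.mul_comm_right c2.2.symm).symm)
    rw [Units.val_mul, ← hZ1, ← hZ2] at e12
    rw [hE, trH_smul, add_mul, one_mul, mul_add, mul_one, trH_add, trH_add, trH_add, trH_one, e12,
      hZ1, hZ2, trH_anti h2 a1, trH_anti h2 a2]
    push_cast; field_simp; norm_num
  have hEr : finrank F (rg E) = 2 := by
    have hmm : ((1 : Hm 4 F) - (2 : F) • E) * (1 - (2 : F) • E) = 1 := by
      simp only [sub_mul, mul_sub, one_mul, mul_one, smul_mul_smul_comm, hEE]; module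
    obtain ⟨u, hu⟩ : ∃ u : (Hm 4 F)ˣ, (u : Hm 4 F) = 1 - (2 : F) • E := ⟨⟨_, _, hmm, hmm⟩, rfl⟩
    have hus : hst (u : Hm 4 F) = u := by rw [hu, hst_sub, hst_one, hst_smul, hEs]
    have huI : u ∈ Iso 4 F := by rw [mem_Iso, hus, hu, hmm]
    have hne : u ≠ -1 := fun e => by
      have e' := congrArg Units.val e
      rw [hu, Units.val_neg, Units.val_one] at e'
      have hE1 : E = 1 := by
        have : (2 : F) • E = (2 : F) • (1 : Hm 4 F) := by linear_combination (norm := module) -e'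
        exact smul_right_injective _ h2 this
      rw [hE1, mul_one, hZ1] at zE1
      exact a1.ne h2 ((Units.ext (zE1.trans Units.val_one.symm) : z₁ = 1) ▸ Commute.one_left w₁)
    have h := isRefl_of_trace h2 huI (Units.ext (by rw [Units.val_mul, hu, hmm, Units.val_one])) hne (by
      rw [hu, sub_eq_add_neg, trH_add, trH_neg, trH_smul, trH_one, htE]; norm_num)
    have h' := h.2.2
    rw [hu, sub_sub_cancel, rg_smul _ h2] at h'
    exact h'
  obtain ⟨k, s, hks, hs0⟩ : ∃ (k : Fin 4) (s : F), E k k = s • (1 : M2 F) ∧ s ≠ 0 := by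
    by_contra hcon
    push Not at hcon
    have hz : ∀ k, E k k = 0 := fun k => by
      obtain ⟨a, ha⟩ := scalar_of_adj h2 (show (E k k).adjugate = E k k by rw [← hst_apply E k k, hEs])
      rw [ha, hcon k a ha, zero_smul]
    rw [trH] at htE
    simp [hz] at htE
    exact h2 htE.symm
  obtain ⟨X, hX⟩ : ∃ X : M2 F, X = !![s⁻¹, 0; 0, 1] := ⟨_, rfl⟩
  have hXX : X * X.adjugate = s⁻¹ • (1 : M2 F) ∧ X.adjugate * X = s⁻¹ • (1 : M2 F) := by
    rw [Matrix.mul_adjugate, Matrix.adjugate_mul, show X.det = s⁻¹ by rw [hX]; simp [Matrix.det_fin_two]]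
    exact ⟨rfl, rfl⟩
  obtain ⟨v, hv⟩ : ∃ v : Fin 4 → M2 F, ∀ l, v l = E l k * X := ⟨_, fun _ => rfl⟩
  have hvv : vst v ⬝ᵥ v = 1 := by
    have e : ∑ l, E k l * E l k = s • (1 : M2 F) := by rw [← Matrix.mul_apply, hEE, hks]
    show ∑ l, (v l).adjugate * v l = 1
    simp only [hv, adjugate_mul_distrib]
    have hadj : ∀ l, (E l k).adjugate = E k l := fun l => by rw [← hst_apply E k l, hEs]
    simp only [hadj, mul_assoc]
    rw [← Finset.mul_sum]
    simp only [← mul_assoc (E k _)]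
    rw [← Finset.sum_mul, e, smul_mul_assoc, one_mul, mul_smul_comm, hXX.2, smul_smul, mul_inv_cancel₀ hs0, one_smul]
  have hEij : ∀ a b, E a b = v a * (v b).adjugate := fun a b => by
    rw [hv, hv, adjugate_mul_distrib, show (E b k).adjugate = E k b by rw [← hst_apply E k b, hEs], mul_assoc,
      ← mul_assoc X, hXX.1, smul_mul_assoc, one_mul, mul_smul_comm, ← column_form h2 hEE hEs hEr hks hs0]
  have hEy : ∀ y : Fin 4 → M2 F, E *ᵥ y = fun l => v l * (vst v ⬝ᵥ y) := fun y => by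
    funext l
    show ∑ b, E l b * y b = v l * ∑ b, vst v b * y b
    rw [Finset.mul_sum]
    exact Finset.sum_congr rfl fun b _ => by rw [hEij, mul_assoc]; rfl
  have hEv : E *ᵥ v = v := by rw [hEy, hvv]; simp
  have hvE : vst v ᵥ* E = vst v := by
    conv_rhs => rw [← hEv, vst_mulVec, hEs]
  obtain ⟨co, hco⟩ : ∃ co : Hm 4 F → M2 F, ∀ A, co A = vst v ⬝ᵥ (A *ᵥ v) := ⟨_, fun _ => rfl⟩
  have co_mid : ∀ A, co (E * A * E) = co A := fun A => by
    rw [hco, hco, ← mulVec_mulVec, hEv, ← mulVec_mulVec, dotProduct_mulVec, hvE]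
  have co_zero : ∀ A, (Z1 * A = -(A * Z1) ∨ Z2 * A = -(A * Z2)) → co A = 0 := fun A h => by
    rw [← co_mid, kill h, hco, zero_mulVec, dotProduct_zero]
  have co_fix : ∀ A, Commute A E → ∀ l, (A *ᵥ v) l = v l * co A := fun A h l => by
    have e : A *ᵥ v = E *ᵥ (A *ᵥ v) := by rw [mulVec_mulVec, ← h.eq, ← mulVec_mulVec, hEv]
    rw [congrFun e l, hEy, hco]
  have co_mul : ∀ A B, Commute A E → Commute B E → co (A * B) = co A * co B := fun A B hA hB => by
    rw [hco (A * B), ← mulVec_mulVec, show B *ᵥ v = fun l => v l * co B from funext (co_fix B hB)]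
    show vst v ⬝ᵥ (fun l => ∑ t, A l t * (v t * co B)) = _
    simp only [← mul_assoc, ← Finset.sum_mul]
    show ∑ l, vst v l * ((∑ t, A l t * v t) * co B) = _
    simp only [← mul_assoc, ← Finset.sum_mul]
    rw [hco A]; rfl
  have co_neg : ∀ A, co (-A) = -co A := fun A => by rw [hco, hco, neg_mulVec, dotProduct_neg]
  have co_one : co 1 = 1 := by rw [hco, one_mulVec, hvv]
  have iE := hEc i c31.1 c32.1
  have jE := hEc j d31.1 d32.1
  have hII : ∀ {x : (Hm 4 F)ˣ}, Commute (x : Hm 4 F) E → x * x = -1 → co x * co x = -1 := fun {x} hx e => by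
    rw [← co_mul _ _ hx hx, ← Units.val_mul, e, Units.val_neg, Units.val_one, co_neg, co_one]
  obtain ⟨Q, hQI, hQJ⟩ : ∃ Q : Quat F, Q.I = co (i : Hm 4 F) ∧ Q.J = co (j : Hm 4 F) := by
    refine ⟨⟨_, _, hII iE s3, hII jE t3, ?_, h2⟩, rfl, rfl⟩
    rw [← co_mul _ _ jE iE, ← co_mul _ _ iE jE, ← co_neg, ← Units.val_mul, ← Units.val_mul, ← Units.val_neg]
    have e := a3.symm
    unfold Anti at e
    rw [e]
  -- the columns
  obtain ⟨W, hW⟩ : ∃ W : Fin 4 → (Hm 4 F)ˣ, W = ![1, w₁, w₂, w₁ * w₂] := ⟨_, rfl⟩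
  have hWR : ∀ y, W y ∈ R := by
    intro y; subst hW
    fin_cases y
    exacts [one_mem _, w1R, w2R, mul_mem w1R w2R]
  obtain ⟨G, hG⟩ : ∃ G : Hm 4 F, ∀ l y, G l y = ((W y : Hm 4 F) *ᵥ v) l := ⟨Matrix.of fun l y => ((W y : Hm 4 F) *ᵥ v) l, fun _ _ => rfl⟩
  have hw12 : Commute w₁ w₂ := d2.2.symm
  have anti_inv : ∀ {z x y : (Hm 4 F)ˣ}, Commute z x → Anti z y → Anti z (x⁻¹ * y) := fun h h' =>
    Anti.comm_mul_right h.inv_right h'
  have anti_inv' : ∀ {z x y : (Hm 4 F)ˣ}, Anti z x → Commute z y → x * x = 1 → Anti z (x⁻¹ * y) := fun h h' e => by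
    rw [inv_eq_of_mul_eq_one_right e]; exact h.mul_comm_right h'
  have cross : ∀ x y, x ≠ y → Anti z₁ ((W x)⁻¹ * W y) ∨ Anti z₂ ((W x)⁻¹ * W y) := by
    have p1 : Anti z₁ w₁ := a1
    have p2 : Anti z₂ w₂ := a2
    have q1 : Commute z₁ w₂ := d2.1.symm
    have q2 : Commute z₂ w₁ := c2.2
    have w3 : (w₁ * w₂) * (w₁ * w₂) = 1 := by
      rw [mul_assoc, ← mul_assoc w₂, ← hw12.eq, mul_assoc w₁ w₂, t2, mul_one, t1]
    intro x y hxy
    subst hW
    fin_cases x <;> fin_cases y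
    all_goals first | exact absurd rfl hxy | skip
    all_goals simp only [Matrix.cons_val_zero, Matrix.cons_val_one, Matrix.cons_val, Fin.zero_eta, Fin.mk_one,
      inv_one, one_mul, mul_one, Fin.reduceFinMk]
    · exact Or.inl p1
    · exact Or.inr p2
    · exact Or.inl (p1.mul_comm_right q1)
    · exact Or.inl (by rw [inv_eq_of_mul_eq_one_right t1]; exact p1)
    · exact Or.inl (anti_inv' p1 q1 t1)
    · exact Or.inr (anti_inv q2 (Anti.comm_mul_right q2 p2))
    · exact Or.inr (by rw [inv_eq_of_mul_eq_one_right t2]; exact p2)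
    · exact Or.inl (anti_inv q1 p1)
    · exact Or.inl (anti_inv q1 (p1.mul_comm_right q1))
    · exact Or.inl (by rw [inv_eq_of_mul_eq_one_right w3]; exact p1.mul_comm_right q1)
    · exact Or.inr (anti_inv' (Anti.comm_mul_right q2 p2) q2 w3)
    · exact Or.inl (anti_inv' (p1.mul_comm_right q1) q1 w3)
  have hGG : hst G * G = 1 := by
    refine Matrix.ext fun x y => ?_
    have e : (hst G * G) x y = co (((W x)⁻¹ * W y : (Hm 4 F)ˣ) : Hm 4 F) := by
      have e1 : (hst G * G) x y = vst ((W x : Hm 4 F) *ᵥ v) ⬝ᵥ ((W y : Hm 4 F) *ᵥ v) := by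
        rw [Matrix.mul_apply]
        refine Finset.sum_congr rfl fun l _ => ?_
        rw [hst_apply, hG, hG]; rfl
      rw [e1, vst_mulVec, ← dotProduct_mulVec, mulVec_mulVec, hco, Units.val_mul, Iso.hst_eq (hR.le (hWR x))]
    rw [e]
    by_cases hxy : x = y
    · subst hxy; rw [inv_mul_cancel, Units.val_one, co_one, Matrix.one_apply_eq]
    · rw [Matrix.one_apply_ne hxy]
      refine co_zero _ ?_
      rcases cross x y hxy with h | h
      · exact Or.inl (by rw [hZ1, ← Units.val_mul, h, Units.val_neg, Units.val_mul])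
      · exact Or.inr (by rw [hZ2, ← Units.val_mul, h, Units.val_neg, Units.val_mul])
  have hGG' : G * hst G = 1 := by
    have e := congrArg (big 4 F) hGG
    rw [map_mul, map_one] at e
    exact (big 4 F).injective (by rw [map_mul, map_one]; exact mul_eq_one_comm.1 e)
  obtain ⟨g, hg⟩ : ∃ g : (Hm 4 F)ˣ, (g : Hm 4 F) = G := ⟨⟨G, hst G, hGG', hGG⟩, rfl⟩
  refine ⟨Q, g, by rw [mem_Iso, hg, hGG], ?_⟩
  -- intertwining
  have inter : ∀ (r : (Hm 4 F)ˣ) (w : W4) (p : Fin 4 → Fin 4) (c : Fin 4 → Fin 8), wm w = ⟨p, c⟩ →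
      (∀ y, p (p y) = y) →
      (∀ y l, ((r * W y : (Hm 4 F)ˣ) : Hm 4 F).mulVec v l = ((W (p y) : Hm 4 F) *ᵥ v) l * Q.u (c (p y))) →
      (MulAut.conj g).toMonoidHom (Q.w w) = r := by
    intro r w p c hw hp h
    have e : r * g = g * Q.w w := by
      refine Units.ext (Matrix.ext fun l y => ?_)
      rw [Units.val_mul, Units.val_mul, hg, Q.w_val, hw]
      conv_rhs => rw [Matrix.mul_apply, Finset.sum_eq_single (p y) (fun t _ ht => by
        simp [Quat.mo, show p t ≠ y from fun e => ht (by rw [← e, hp])]) (by simp)]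
      simp only [Quat.mo, Matrix.of_apply, hp, if_true, hG]
      rw [← h y l, Units.val_mul, ← mulVec_mulVec, Matrix.mul_apply]
      simp only [hG]; rfl
    show g * Q.w w * g⁻¹ = r
    rw [← e, mul_inv_cancel_right]
  have right_one : ∀ (x : Fin 4) l, ((W x : Hm 4 F) *ᵥ v) l * Q.u 0 = ((W x : Hm 4 F) *ᵥ v) l := fun x l => by
    rw [Q.u_zero, mul_one]
  have shape := gen_shape
  have Ez : ∀ {Z : Hm 4 F}, Z * E = E → Z *ᵥ v = v := fun {Z} h => by
    rw [← hEv, mulVec_mulVec, h]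
  have sgn : ∀ (z : (Hm 4 F)ˣ) (c : Fin 4 → Fin 8), (z : Hm 4 F) * E = E →
      (∀ y, (c y = 0 ∧ Commute z (W y)) ∨ (c y = 4 ∧ Anti z (W y))) →
      ∀ y l, ((z * W y : (Hm 4 F)ˣ) : Hm 4 F).mulVec v l = ((W (id y) : Hm 4 F) *ᵥ v) l * Q.u (c (id y)) := by
    intro z c hz h y l
    rcases h y with ⟨hc, h⟩ | ⟨hc, h⟩
    · rw [h.eq, Units.val_mul, ← mulVec_mulVec, Ez hz, id, hc, Q.u_zero, mul_one]
    · rw [h, Units.val_neg, Units.val_mul, neg_mulVec, ← mulVec_mulVec, Ez hz, id, hc, Q.u_four, mul_neg, mul_one]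
      rfl
  have g1 : (MulAut.conj g).toMonoidHom (Q.w (0, 0, 1)) = z₁ := by
    refine inter _ _ _ _ shape.1 (fun _ => rfl) (sgn _ _ (hZ1 ▸ zE1) fun y => ?_)
    subst hW
    fin_cases y
    · exact Or.inl ⟨rfl, Commute.one_right _⟩
    · exact Or.inr ⟨rfl, a1⟩
    · exact Or.inl ⟨rfl, d2.1.symm⟩
    · exact Or.inr ⟨rfl, a1.mul_comm_right d2.1.symm⟩
  have g2 : (MulAut.conj g).toMonoidHom (Q.w (0, 0, 2)) = z₂ := by
    refine inter _ _ _ _ shape.2.1 (fun _ => rfl) (sgn _ _ (hZ2 ▸ zE2) fun y => ?_)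
    subst hW
    fin_cases y
    · exact Or.inl ⟨rfl, Commute.one_right _⟩
    · exact Or.inl ⟨rfl, c2.2⟩
    · exact Or.inr ⟨rfl, a2⟩
    · exact Or.inr ⟨rfl, Anti.comm_mul_right c2.2 a2⟩
  have g3 : (MulAut.conj g).toMonoidHom (Q.w (0, 1, 0)) = w₁ := by
    refine inter _ _ _ _ shape.2.2.1 (by decide) fun y l => ?_
    rw [right_one, show w₁ * W y = W (![1, 0, 3, 2] y) by
      subst hW
      fin_cases y
      · simp
      · simp [t1]
      · simp
      · simp [← mul_assoc, t1]]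
  have g4 : (MulAut.conj g).toMonoidHom (Q.w (0, 2, 0)) = w₂ := by
    refine inter _ _ _ _ shape.2.2.2.1 (by decide) fun y l => ?_
    rw [right_one, show w₂ * W y = W (![2, 3, 0, 1] y) by
      subst hW
      fin_cases y
      · simp
      · simp [hw12.eq]
      · simp [t2]
      · simp [hw12.eq, ← mul_assoc, t2]]
  have quat : ∀ (x : (Hm 4 F)ˣ) (c : Fin 8), Commute (x : Hm 4 F) E → Q.u c = co x → (∀ y, Commute x (W y)) →
      ∀ y l, ((x * W y : (Hm 4 F)ˣ) : Hm 4 F).mulVec v l = ((W (id y) : Hm 4 F) *ᵥ v) l * Q.u c := by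
    intro x c hx hc hcw y l
    rw [(hcw y).eq, Units.val_mul, ← mulVec_mulVec, show (x : Hm 4 F) *ᵥ v = fun t => v t * co x from
      funext (co_fix _ hx), id, hc]
    show ∑ t, (W y : Hm 4 F) l t * (v t * co x) = (∑ t, (W y : Hm 4 F) l t * v t) * co x
    rw [Finset.sum_mul]
    exact Finset.sum_congr rfl fun t _ => (mul_assoc _ _ _).symm
  have u1 : Q.u 1 = Q.I := by rw [Quat.u, Q.ι_eq]; simp [q8]
  have u2 : Q.u 2 = Q.J := by rw [Quat.u, Q.ι_eq]; simp [q8]
  have g5 : (MulAut.conj g).toMonoidHom (Q.w (1, 0, 0)) = i := by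
    refine inter _ _ _ _ shape.2.2.2.2.1 (fun _ => rfl) (quat i 1 iE (u1.trans hQI) fun y => ?_)
    subst hW
    fin_cases y
    exacts [Commute.one_right _, c31.2, c32.2, c31.2.mul_right c32.2]
  have g6 : (MulAut.conj g).toMonoidHom (Q.w (2, 0, 0)) = j := by
    refine inter _ _ _ _ shape.2.2.2.2.2 (fun _ => rfl) (quat j 2 jE (u2.trans hQJ) fun y => ?_)
    subst hW
    fin_cases y
    exacts [Commute.one_right _, d31.2, d32.2, d31.2.mul_right d32.2]
  haveI := hR.finite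
  refine Subgroup.eq_of_le_of_card_ge ?_ ?_
  · rintro _ ⟨_, ⟨w, rfl⟩, rfl⟩
    have m : ∀ (b : Bool) (u : W4) (r : (Hm 4 F)ˣ), (MulAut.conj g).toMonoidHom (Q.w u) = r → r ∈ R →
        (MulAut.conj g).toMonoidHom (Q.w (if b then u else (0, 0, 0))) ∈ R := fun b u r e hr => by
      cases b
      · simp [Q.w_one]
      · rw [if_pos rfl, e]; exact hr
    have hn : (MulAut.conj g).toMonoidHom (Q.w (4, 0, 0)) ∈ R := by
      rw [Q.w_neg]; show g * -1 * g⁻¹ ∈ R; simpa using hR.negMem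
    obtain ⟨a, b, c, d, e, f, h | h⟩ := word_gens w <;> rw [h] <;> simp only [Q.w_mul, map_mul]
    · exact mul_mem (mul_mem (mul_mem (m a _ _ g5 iR) (m b _ _ g6 jR)) (mul_mem (m c _ _ g1 z1R) (m d _ _ g2 z2R)))
        (mul_mem (m e _ _ g3 w1R) (m f _ _ g4 w2R))
    · exact mul_mem hn (mul_mem (mul_mem (mul_mem (m a _ _ g5 iR) (m b _ _ g6 jR))
        (mul_mem (m c _ _ g1 z1R) (m d _ _ g2 z2R))) (mul_mem (m e _ _ g3 w1R) (m f _ _ g4 w2R)))
  · rw [Subgroup.card_map_of_injective (MulAut.conj g).injective, Q.card_R8, hR.card]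

end CfsgLib.MaxSub.SpEightSymp
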