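import Cfsg.Agent.Lib.MaxSub.SpEightSymp.Table

/-!
Tables of small integral quaternion identities used to locate a fixed plane of a reflection.
-/

set_option autoImplicit false
set_option maxRecDepth 100000

namespace CfsgLib.MaxSub.SpEightSymp

open Matrix

/-- the units and zero -/
def q9 : Fin 9 → Qz := Fin.cases 0 q8

/-- the signed basis quaternions -/
def fq (k : Fin 3) (b : Bool) : Qz := q8 (if b then ⟨k.1 + 4, by omega⟩ else ⟨k.1, by omega⟩)

/-- three involutions commuting with the first axis -/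
def zk : Fin 3 → W4 := ![(0, 1, 0), (1, 1, 1), (2, 1, 1)]

/-- the integral matrix of an eigenplane -/
def zPlane (e : Bool) (w z : W4) : Zm 4 :=
  (1 + (if e then -1 else 1 : Qz) • (wm z).z) * (1 + (wm w).z)

/-- a column giving a linear relation -/
def goodCol (k : Fin 3) (P : Zm 4) (y : Fin 4) : Prop :=
  ∃ N ∈ [(1 : ℤ), 4, 16], (P 2 y = 0 ∧ P 3 y = 0 ∧ P 1 y * qbar (P 1 y) = (N : Qz)) ∨
    (P 3 y * qbar (P 3 y) = (N : Qz) ∧ ∃ (b : Bool) (j : Fin 9),
      P 2 y * qbar (P 3 y) = (N : Qz) * fq k b ∧ P 1 y * qbar (P 3 y) = (N : Qz) * q9 j)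

instance (k : Fin 3) (P : Zm 4) (y : Fin 4) : Decidable (goodCol k P y) := by unfold goodCol; infer_instance

theorem plane_table : ∀ (k : Fin 3) (s : W4), sing s = true → wcomm s (zk k) = true → s ≠ zk k →
    s ≠ wmul (4, 0, 0) (zk k) → ∀ e, ∃ y, goodCol k (zPlane e s (zk k)) y := by decide +kernel

/-- some coordinate divides a given number -/
def smooth (n : ℕ) (x : Qz) : Bool :=
  decide (x.re.natAbs ∣ n) || decide (x.imI.natAbs ∣ n) || decide (x.imJ.natAbs ∣ n) || decide (x.imK.natAbs ∣ n)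

/-- twice the first coefficient -/
def Xv (e0 e1 : Fin 9) (b0 b1 : Bool) : Qz := (q9 e1 - q9 e0) * qbar (fq 0 b0 - fq 1 b1)

/-- twice the second coefficient -/
def Yv (e0 e1 : Fin 9) (b0 b1 : Bool) : Qz := -(q9 e0 + q9 e0) - Xv e0 e1 b0 b1 * fq 0 b0

theorem fq_diff : ∀ b0 b1 : Bool, (fq 0 b0 - fq 1 b1) * qbar (fq 0 b0 - fq 1 b1) = ((2 : ℤ) : Qz) := by decide +kernel

/-- the reflected row, first entry -/
def Av (X : Qz) : Qz := ((6 : ℤ) : Qz) - ((2 : ℤ) : Qz) * (((2 : ℤ) : Qz) + qbar X)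

/-- the reflected row, second entry -/
def Bv (X : Qz) : Qz := ((6 : ℤ) : Qz) - (((2 : ℤ) : Qz) + qbar X) * X

/-- the reflected row, third entry -/
def Cv (X Y : Qz) : Qz := -((((2 : ℤ) : Qz) + qbar X) * Y)

/-- the possible outcomes -/
def Outcome (X Y : Qz) : Prop :=
  X = 0 ∨ Y = 0 ∨ (∀ (b : Bool) (j : Fin 9), smooth 1024 (Y + X * fq 2 b + ((2 : ℤ) : Qz) * q9 j) = true) ∨
    (X * qbar X = ((4 : ℤ) : Qz) ∧ Y * qbar Y = ((4 : ℤ) : Qz) ∧ smooth 46656 (Av X) = true ∧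
      ∃ k : Fin 3, ∀ (b : Bool) (j : Fin 9), smooth 46656 (Av X * q9 j + Bv X * fq k b + Cv X Y) = true)

instance (X Y : Qz) : Decidable (Outcome X Y) := by unfold Outcome; infer_instance

theorem case_table : ∀ (e0 e1 : Fin 9) (b0 b1 : Bool), Outcome (Xv e0 e1 b0 b1) (Yv e0 e1 b0 b1) := by decide +kernel

/-- the two eigenplanes of the axes -/
def centred : Bool → W4 := fun e => if e then (0, 2, 0) else (0, 0, 0)

theorem centred_plane : ∀ (e : Bool), (wm (centred e)).z * zPlane e (0, 0, 1) (0, 0, 2) * (wm (centred e)).z =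
    Matrix.of fun x y : Fin 4 => if x = 0 ∧ y = 0 then ((4 : ℤ) : Qz) else 0 := by decide +kernel

end CfsgLib.MaxSub.SpEightSymp
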