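import Cfsg.Agent.Lib.MaxSub.SpEightSymp.Refl
import Cfsg.Agent.Lib.MaxSub.SpEightSymp.CoverTable

/-!
Every involution of a proper overgroup negating exactly a plane centralises a noncentral involution of the group.
-/

set_option autoImplicit false
set_option linter.unusedSectionVars false
set_option linter.style.haveILetI false

namespace CfsgLib.MaxSub.SpEightSymp

open Matrix Module
open scoped MatrixGroups

variable {F : Type*} [Field F] [Fintype F] {Q : Quat F} {M : Subgroup (Hm 4 F)ˣ}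

/-- the unique nonzero row -/
def rowM (r : Fin 4 → M2 F) : Hm 4 F := Matrix.of fun i j => if i = 1 then r j else 0

/-- the projection to the second plane -/
def eOne : Hm 4 F := Matrix.of fun i j => if i = 1 ∧ j = 1 then 1 else 0

theorem eOne_rowM (r : Fin 4 → M2 F) : eOne * rowM r = rowM r := by
  refine Matrix.ext fun i j => ?_
  by_cases h : i = 1 <;> simp [eOne, rowM, Matrix.mul_apply, h]

theorem rowM_mul (r : Fin 4 → M2 F) (X : Hm 4 F) : rowM r * X = rowM fun j => ∑ k, r k * X k j := by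
  refine Matrix.ext fun i j => ?_
  by_cases h : i = 1 <;> simp [rowM, Matrix.mul_apply, h]

theorem hst_rowM_mul (r : Fin 4 → M2 F) (i j : Fin 4) : (hst (rowM r) * rowM r) i j = (r i).adjugate * r j := by
  rw [Matrix.mul_apply, Finset.sum_eq_single 1 (fun k _ hk => by simp [rowM, hk]) (by simp)]
  simp [hst_apply, rowM]

theorem rowM_hst (r : Fin 4 → M2 F) (i j : Fin 4) :
    (rowM r * hst (rowM r)) i j = if i = 1 ∧ j = 1 then ∑ k, r k * (r k).adjugate else 0 := by
  by_cases h : i = 1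
  · by_cases h' : j = 1 <;> simp [rowM, Matrix.mul_apply, hst_apply, h, h']
  · simp [rowM, Matrix.mul_apply, h]

theorem rowM_hst_scal (r : Fin 4 → M2 F) (n : F) (hn : ∑ k, r k * (r k).adjugate = n • (1 : M2 F)) :
    rowM r * hst (rowM r) = n • eOne := by
  refine Matrix.ext fun i j => ?_
  rw [rowM_hst, hn, Matrix.smul_apply, eOne, Matrix.of_apply]
  split <;> simp

/-- a row annihilated through its square is annihilated -/
theorem row_zero {r : Fin 4 → M2 F} {n : F} (hn : rowM r * hst (rowM r) = n • eOne) (h0 : n ≠ 0) {X : Hm 4 F}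
    (h : hst (rowM r) * rowM r * X = 0) : ∀ y, ∑ k, r k * X k y = 0 := by
  have e : rowM r * X = 0 := by
    have := congrArg (rowM r * ·) h
    rw [mul_zero, mul_assoc, ← mul_assoc (rowM r), hn, smul_mul_assoc, ← mul_assoc, eOne_rowM] at this
    exact (smul_eq_zero.1 this).resolve_left h0
  intro y
  have := congrFun (congrFun e 1) y
  rw [rowM_mul] at this
  simpa [rowM] using this

theorem trH_mul_comm (X Y : Hm 4 F) : trH (X * Y) = trH (Y * X) := by
  rw [trH_eq, trH_eq, map_mul, map_mul, Matrix.trace_mul_comm]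

theorem scalar_of_adj (h2 : (2 : F) ≠ 0) {X : M2 F} (h : X.adjugate = X) : ∃ a : F, X = a • (1 : M2 F) := by
  rw [adjugate_fin_two] at h
  have h01 := congrFun (congrFun h 0) 1
  have h10 := congrFun (congrFun h 1) 0
  have h00 := congrFun (congrFun h 0) 0
  simp at h01 h10 h00
  refine ⟨X 0 0, ?_⟩
  have z1 : X 0 1 = 0 := (mul_eq_zero.1 (show (2 : F) * X 0 1 = 0 by linear_combination -h01)).resolve_left h2
  have z2 : X 1 0 = 0 := (mul_eq_zero.1 (show (2 : F) * X 1 0 = 0 by linear_combination -h10)).resolve_left h2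
  ext i j
  fin_cases i <;> fin_cases j <;> simp [z1, z2, h00]

theorem smooth_ne {n : ℕ} (hn : (n : F) ≠ 0) {x : Qz} (h : smooth n x = true) : Q.ι x ≠ 0 := by
  intro h0
  obtain ⟨e1, e2, e3, e4⟩ := Q.ι_eq_zero h0
  have key : ∀ z : ℤ, z.natAbs ∣ n → (z : F) ≠ 0 := by
    intro z hz e
    obtain ⟨k, hk⟩ := hz
    refine hn ?_
    have e' : ((z.natAbs : ℕ) : F) = 0 := by
      rcases Int.natAbs_eq z with h | h
      · rw [h, Int.cast_natCast] at e; exact e
      · rw [h, Int.cast_neg, Int.cast_natCast, neg_eq_zero] at e; exact e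
    rw [hk, Nat.cast_mul, e', zero_mul]
  simp only [smooth, Bool.or_eq_true, decide_eq_true_iff] at h
  rcases h with ((h | h) | h) | h
  · exact key _ h e1
  · exact key _ h e2
  · exact key _ h e3
  · exact key _ h e4

theorem cast_int (z : ℤ) : Q.ι (z : Qz) = (z : F) • (1 : M2 F) := by
  rw [map_intCast, ← Algebra.algebraMap_eq_smul_one, map_intCast]

theorem cast_plane (e : Bool) (w z : W4) : Q.cast 4 (zPlane e w z) = planeM Q e w z := by
  have h1 : Q.cast 4 ((1 : Zm 4) + (if e then -1 else 1 : Qz) • (wm z).z) =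
      1 + (if e then (-1 : F) else 1) • (Q.w z : Hm 4 F) := by
    cases e
    · simp only [Bool.false_eq_true, if_false]
      rw [one_smul, one_smul, map_add, map_one, Q.cast_z, Q.w_val]
    · simp only [if_true]
      rw [neg_one_smul, neg_one_smul, map_add, map_one, map_neg, Q.cast_z, Q.w_val]
  rw [zPlane, planeM, map_mul, h1, map_add, map_one, Q.cast_z, Q.w_val w]

/-- a fixed plane with respect to every noncentral involution -/
theorem Over.refl_plane (H : Over Q M) {u : (Hm 4 F)ˣ} (hu : u ∈ M) (hr : IsRefl u) {z : W4} (hz : sing z = true) :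
    ∃ (w : W4) (e : Bool), sing w = true ∧ wcomm w z = true ∧ w ≠ z ∧ w ≠ wmul (4, 0, 0) z ∧
      (u : Hm 4 F) * planeM Q e w z = planeM Q e w z := by
  obtain ⟨h, hh, hhz⟩ := Q.exists_to_point hz
  obtain ⟨w0, e, h1, h2, h3, h4, h5⟩ := H.refl_axis (mul_mem (mul_mem (inv_mem (H.hN hh)) hu) (H.hN hh))
    (by simpa using hr.conj (g := h⁻¹) (inv_mem hh.2))
  obtain ⟨w, hw⟩ := (Subgroup.mem_normalizer_iff.1 hh.1 (Q.w w0)).1 (Q.w_mem w0)
  obtain ⟨s1, s2, s3⟩ := (sing_iff (Q := Q)).1 h1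
  have hc := (wcomm_iff (Q := Q)).1 h2
  refine ⟨w, e, (sing_iff (Q := Q)).2 ⟨?_, ?_, ?_⟩, (wcomm_iff (Q := Q)).2 ?_, ?_, ?_, ?_⟩
  · rw [hw, show h * Q.w w0 * h⁻¹ * (h * Q.w w0 * h⁻¹) = h * (Q.w w0 * Q.w w0) * h⁻¹ by group, s1, mul_one,
      mul_inv_cancel]
  · rw [hw]; exact fun e' => s2 (by simpa using conj_eq_one_iff.1 e')
  · rw [hw]; intro e'
    exact s3 (mul_left_cancel (mul_right_cancel (e'.trans (show (-1 : (Hm 4 F)ˣ) = h * -1 * h⁻¹ by simp))))
  · rw [hw, ← hhz]; exact (Commute.conj_iff h).2 hc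
  · intro e'
    rw [e', ← hhz] at hw
    exact h3 (Q.w_inj (mul_left_cancel (mul_right_cancel hw)).symm)
  · intro e'
    rw [e', Q.w_mul, Q.w_neg, neg_one_mul, ← hhz] at hw
    refine h4 (Q.w_inj ?_)
    rw [show ((4, 0, 2) : W4) = wmul (4, 0, 0) (0, 0, 2) by decide, Q.w_mul, Q.w_neg, neg_one_mul]
    exact (mul_left_cancel (mul_right_cancel (hw.symm.trans
      (show -(h * Q.w (0, 0, 2) * h⁻¹) = h * -Q.w (0, 0, 2) * h⁻¹ by simp))))
  · have e1 : planeM Q e w z = (h : Hm 4 F) * planeM Q e w0 (0, 0, 2) * ((h⁻¹ : (Hm 4 F)ˣ) : Hm 4 F) := by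
      rw [planeM, planeM, hw, ← hhz, Units.val_mul, Units.val_mul, Units.val_mul, Units.val_mul]
      simp only [mul_add, add_mul, mul_one, one_mul, mul_smul_comm, smul_mul_assoc, ← mul_assoc,
        Units.mul_inv, Units.inv_mul_cancel_right]
    rw [e1, show u = h * (h⁻¹ * u * h) * h⁻¹ by group, Units.val_mul, Units.val_mul,
      show ∀ a b c d : Hm 4 F, a * b * c * (a * d * c) = a * b * (c * a) * d * c from
        fun a b c d => by simp only [mul_assoc],
      Units.inv_mul, mul_one, mul_assoc (h : Hm 4 F) ((h⁻¹ * u * h : (Hm 4 F)ˣ) : Hm 4 F), h5]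

theorem zk_sing : ∀ k : Fin 3, sing (zk k) = true := by decide

/-- commuting with an involution of the group is invariant under the normaliser -/
theorem comm_conj {u h : (Hm 4 F)ˣ} (hh : h ∈ Q.N8)
    (hc : ∃ v, sing v = true ∧ Commute (h * u * h⁻¹) (Q.w v)) : ∃ v, sing v = true ∧ Commute u (Q.w v) := by
  obtain ⟨v, hv, hc⟩ := hc
  obtain ⟨v', hv'⟩ := (Subgroup.mem_normalizer_iff.1 (inv_mem hh.1) (Q.w v)).1 (Q.w_mem v)
  obtain ⟨s1, s2, s3⟩ := (sing_iff (Q := Q)).1 hv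
  rw [inv_inv] at hv'
  refine ⟨v', (sing_iff (Q := Q)).2 ⟨?_, ?_, ?_⟩, ?_⟩
  · rw [hv', show h⁻¹ * Q.w v * h * (h⁻¹ * Q.w v * h) = h⁻¹ * (Q.w v * Q.w v) * h by group, s1, mul_one,
      inv_mul_cancel]
  · rw [hv']; intro e
    exact s2 (mul_left_cancel (mul_right_cancel (e.trans (show (1 : (Hm 4 F)ˣ) = h⁻¹ * 1 * h by simp))))
  · rw [hv']; intro e
    exact s3 (mul_left_cancel (mul_right_cancel (e.trans (show (-1 : (Hm 4 F)ˣ) = h⁻¹ * -1 * h by simp))))
  · rw [hv']
    show _ = _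
    calc u * (h⁻¹ * Q.w v * h) = h⁻¹ * (h * u * h⁻¹ * Q.w v) * h := by group
      _ = h⁻¹ * (Q.w v * (h * u * h⁻¹)) * h := by rw [hc.eq]
      _ = h⁻¹ * Q.w v * h * u := by group

/-- an involution with a trace of four -/
theorem isRefl_of_trace {u : (Hm 4 F)ˣ} (h2 : (2 : F) ≠ 0) (hu : u ∈ Iso 4 F) (hsq : u * u = 1) (hne : u ≠ -1)
    (ht : trH (u : Hm 4 F) = 4) : IsRefl u := by
  refine ⟨hu, hsq, ?_⟩
  have hPP := proj_idem h2 (show (-(u : Hm 4 F)) * (-(u : Hm 4 F)) = 1 by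
    rw [neg_mul_neg, ← Units.val_mul, hsq, Units.val_one])
  rw [← sub_eq_add_neg] at hPP
  have hev := even_rank hPP (by rw [hst_smul, hst_sub, hst_one, Iso.self_adj hu hsq])
  have htr := idem_trace hPP
  rw [rg_smul _ (inv_ne_zero h2)] at htr hev
  rw [trH_smul, sub_eq_add_neg, trH_add, trH_neg, trH_one, ht] at htr
  have hle : finrank F (rg ((1 : Hm 4 F) - (u : Hm 4 F))) ≤ 8 := (Submodule.finrank_le _).trans finrank_vec.le
  obtain ⟨m, hm⟩ := hev
  rw [← sub_eq_add_neg (1 : Hm 4 F), hm] at htr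
  push_cast at htr
  field_simp at htr
  rw [hm]
  have hm' : m = 0 ∨ m = 1 ∨ m = 2 ∨ m = 3 ∨ m = 4 := by omega
  have k4 : (4 : F) ≠ 0 := by rw [show (4 : F) = 2 * 2 by norm_num]; exact mul_ne_zero h2 h2
  rcases hm' with rfl | rfl | rfl | rfl | rfl <;> push_cast at htr
  · exact absurd (by linear_combination htr) k4
  · rfl
  · exact absurd (by linear_combination -htr) k4
  · exact absurd (by linear_combination -htr) (show (8 : F) ≠ 0 by
      rw [show (8 : F) = 4 * 2 by norm_num]; exact mul_ne_zero k4 h2)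
  · exfalso
    have htop : rg ((1 : Hm 4 F) - (u : Hm 4 F)) = ⊤ :=
      Submodule.eq_top_of_finrank_eq (by rw [hm, finrank_vec])
    have h1 : (2 : F)⁻¹ • ((1 : Hm 4 F) - (u : Hm 4 F)) = 1 := by
      have := eq_of_rg_idem hPP (Q := (1 : Hm 4 F)) (by rw [rg_smul _ (inv_ne_zero h2), htop]; exact le_top)
      rwa [mul_one] at this
    rw [inv_smul_eq_iff₀ h2, two_smul] at h1
    exact hne (Units.ext (by rw [Units.val_neg, Units.val_one]; linear_combination (norm := module) -h1))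

/-- a linear relation from a fixed plane -/
theorem eq_of_plane {A B C : M2 F} (hA : A ≠ 0) {k : Fin 3} {s : W4} {e : Bool} (hs : sing s = true)
    (hc : wcomm s (zk k) = true) (h1 : s ≠ zk k) (h2 : s ≠ wmul (4, 0, 0) (zk k))
    (h : ∀ y, A * planeM Q e s (zk k) 1 y + B * planeM Q e s (zk k) 2 y + C * planeM Q e s (zk k) 3 y = 0) :
    ∃ (b : Bool) (j : Fin 9), A * Q.ι (q9 j) + B * Q.ι (fq k b) + C = 0 := by
  obtain ⟨y, N, hN, hg⟩ := plane_table k s hs hc h1 h2 e
  have hN' : (N : F) ≠ 0 := by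
    have t2 := Q.two
    simp only [List.mem_cons, List.mem_nil_iff, or_false] at hN
    rcases hN with rfl | rfl | rfl <;> push_cast
    · exact one_ne_zero
    · rw [show (4 : F) = 2 * 2 by norm_num]; exact mul_ne_zero t2 t2
    · rw [show (16 : F) = 2 * 2 * (2 * 2) by norm_num]; exact mul_ne_zero (mul_ne_zero t2 t2) (mul_ne_zero t2 t2)
  have h' := h y
  rw [← cast_plane, Q.cast_apply, Q.cast_apply, Q.cast_apply] at h'
  rcases hg with ⟨z2, z3, hn⟩ | ⟨hn, b, j, hb, hj⟩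
  · exfalso
    rw [z2, z3, map_zero, mul_zero, mul_zero, add_zero, add_zero] at h'
    have := congrArg (· * Q.ι (qbar (zPlane e s (zk k) 1 y))) h'
    simp only [mul_assoc, ← map_mul, hn, cast_int, mul_smul_comm, mul_one, zero_mul] at this
    exact hA ((smul_eq_zero.1 this).resolve_left hN')
  · refine ⟨b, j, ?_⟩
    have := congrArg (· * Q.ι (qbar (zPlane e s (zk k) 3 y))) h'
    simp only [add_mul, mul_assoc, ← map_mul, hn, hb, hj, zero_mul] at this
    simp only [map_mul, cast_int, smul_mul_assoc, one_mul, mul_smul_comm, mul_one, ← smul_add] at this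
    exact (smul_eq_zero.1 this).resolve_left hN'

theorem gen_perm {g : (Hm 4 F)ˣ} {p : Fin 4 → Fin 4} (hg : (g : Hm 4 F) = Q.mo ⟨p, fun _ => 0⟩) (X : Hm 4 F)
    (i j : Fin 4) : ((g : Hm 4 F) * X * ((g⁻¹ : (Hm 4 F)ˣ) : Hm 4 F)) i j = X (p i) (p j) := by
  obtain ⟨Y, hY⟩ : ∃ Y, Y = (g : Hm 4 F) * X * ((g⁻¹ : (Hm 4 F)ˣ) : Hm 4 F) := ⟨_, rfl⟩
  have hgY : Y * (g : Hm 4 F) = (g : Hm 4 F) * X := by rw [hY, Units.inv_mul_cancel_right]
  have hp : Function.Injective p := by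
    intro a b hab
    by_contra hne
    have h1 := congrFun (congrFun g.mul_inv a) a
    have h2 := congrFun (congrFun g.mul_inv b) a
    rw [hg] at h1 h2
    simp [Matrix.mul_apply, Quat.mo, Q.u_zero, hab, Ne.symm hne] at h1 h2
    rw [h2] at h1
    exact zero_ne_one h1
  have e1 := congrFun (congrFun hgY i) (p j)
  rw [Matrix.mul_apply, Matrix.mul_apply, Finset.sum_eq_single j ?_ (by simp),
    Finset.sum_eq_single (p i) ?_ (by simp)] at e1
  · rw [← hY]; simpa [hg, Quat.mo, Q.u_zero] using e1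
  · intro k _ hk; simp [hg, Quat.mo, Ne.symm hk]
  · intro k _ hk; simp [hg, Quat.mo, hp.ne hk]

theorem p12_z' : gz 1 = (⟨![0, 1, 3, 2], fun _ => 0⟩ : Mn 4).z ∧ gN 1 = 1 := by decide +kernel

theorem perm_mul : p12.mul ⟨![0, 1, 3, 2], fun _ => 0⟩ = ⟨![0, 3, 1, 2], fun _ => 0⟩ := by decide +kernel

theorem Quat.exists_perm (k : Fin 4) (hk : k ≠ 0) : ∃ g ∈ Q.N8, ∃ p : Fin 4 → Fin 4,
    (g : Hm 4 F) = Q.mo ⟨p, fun _ => 0⟩ ∧ p 0 = 0 ∧ p 1 = k := by
  have g1 : (Q.gen 1 : Hm 4 F) = Q.mo ⟨![0, 1, 3, 2], fun _ => 0⟩ := by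
    show gs F 1 • Q.cast 4 (gz 1) = _
    rw [p12_z'.1, Q.cast_z, gs, if_pos p12_z'.2, one_smul]
  fin_cases k
  · exact absurd rfl hk
  · exact ⟨1, one_mem _, id, by rw [Units.val_one, ← Q.mo_one]; rfl, rfl, rfl⟩
  · exact ⟨Q.gen 0, Q.gen_N8 0, _, Q.gen0_val, rfl, rfl⟩
  · exact ⟨Q.gen 0 * Q.gen 1, mul_mem (Q.gen_N8 0) (Q.gen_N8 1), _,
      by rw [Units.val_mul, Q.gen0_val, g1, ← Q.mo_mul, perm_mul], rfl, rfl⟩

/-- the shape of a reflection fixing the first plane -/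
theorem IsRefl.row_form {u : (Hm 4 F)ˣ} (h2 : (2 : F) ≠ 0) (hr : IsRefl u) {P : Hm 4 F}
    (hP : P = (2 : F)⁻¹ • ((1 : Hm 4 F) - (u : Hm 4 F))) (h0 : ∀ j, P 0 j = 0) {s : F}
    (hs : P 1 1 = s • (1 : M2 F)) (hs0 : s ≠ 0) :
    ∃ c d : M2 F, (u : Hm 4 F) = 1 - (2 * s) • (hst (rowM ![0, 1, c, d]) * rowM ![0, 1, c, d]) ∧
      s • ((1 : M2 F) + c * c.adjugate + d * d.adjugate) = 1 := by
  have hPP : P * P = P := by
    rw [hP, sub_eq_add_neg]
    exact proj_idem h2 (by rw [neg_mul_neg, ← Units.val_mul, hr.2.1, Units.val_one])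
  have hPs : hst P = P := by rw [hP, hst_smul, hst_sub, hst_one, Iso.self_adj hr.1 hr.2.1]
  have hPr : finrank F (rg P) = 2 := by rw [hP, rg_smul _ (inv_ne_zero h2)]; exact hr.2.2
  have hadj : ∀ i j, (P i j).adjugate = P j i := fun i j => by
    rw [← hst_apply P j i, hPs]
  obtain ⟨R, hR⟩ : ∃ R, R = s⁻¹ • (P * eOne * P) := ⟨_, rfl⟩
  have hEPE : eOne * P * eOne = s • (eOne : Hm 4 F) := by
    refine Matrix.ext fun i j => ?_
    by_cases hi : i = 1 <;> by_cases hj : j = 1 <;> simp [Matrix.mul_apply, eOne, hi, hj, hs]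
  have hRR : R * R = R := by
    rw [hR, smul_mul_smul_comm, show P * eOne * P * (P * eOne * P) = P * (eOne * (P * P) * eOne) * P by
      simp only [mul_assoc], hPP, hEPE, mul_smul_comm, smul_mul_assoc, smul_smul]
    congr 1; field_simp
  have hEs : hst (eOne : Hm 4 F) = eOne := by
    refine Matrix.ext fun i j => ?_
    rw [hst_apply]
    simp only [eOne, Matrix.of_apply, and_comm]
    split <;> simp
  have hRs : hst R = R := by rw [hR, hst_smul, hst_mul, hst_mul, hPs, hEs, mul_assoc]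
  have hPR : P * R = R := by rw [hR, mul_smul_comm, ← mul_assoc, ← mul_assoc, hPP]
  have hle : rg R ≤ rg P := hPR ▸ rg_mul_le P R
  have hRr : finrank F (rg R) = 2 := by
    have ht := idem_trace hRR
    have h' := hPr ▸ Submodule.finrank_mono hle
    obtain ⟨m, hm⟩ := even_rank hRR hRs
    have hm' : m = 0 ∨ m = 1 := by omega
    rcases hm' with rfl | rfl
    · exfalso
      have e : trH (eOne * P) = 2 * s := by
        rw [trH, Finset.sum_eq_single 1 (fun k _ hk => by simp [Matrix.mul_apply, eOne, hk]) (by simp)]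
        simp [Matrix.mul_apply, eOne, hs]; ring
      rw [hm, hR, trH_smul, trH_mul_comm, ← mul_assoc, hPP, trH_mul_comm, e] at ht
      field_simp at ht
      simp [h2] at ht
    · exact hm
  have heq : rg R = rg P := Submodule.eq_of_le_of_finrank_eq hle (hRr.trans hPr.symm)
  have hRP : R = P := by
    have e1 : R * P = P := eq_of_rg_idem hRR heq.ge
    rw [← e1]
    conv_lhs => rw [hR]
    rw [hR, smul_mul_assoc, mul_assoc (P * eOne) P P, hPP]
  refine ⟨s⁻¹ • P 1 2, s⁻¹ • P 1 3, ?_, ?_⟩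
  · have hr' : ∀ j, (![0, 1, s⁻¹ • P 1 2, s⁻¹ • P 1 3] : Fin 4 → M2 F) j = s⁻¹ • P 1 j := fun j => by
      have h10 : P 1 0 = 0 := by
        rw [← hadj 0 1, h0, Matrix.adjugate_zero]
      fin_cases j <;> simp [h10, hs, smul_smul, inv_mul_cancel₀ hs0]
    have hu' : (u : Hm 4 F) = 1 - (2 : F) • P := by
      rw [hP, smul_smul, mul_inv_cancel₀ h2, one_smul, sub_sub_cancel]
    rw [hu']
    congr 1
    rw [mul_smul]
    congr 1
    refine Matrix.ext fun i j => ?_
    rw [Matrix.smul_apply, hst_rowM_mul, hr', hr', adj_smul, hadj, smul_mul_smul_comm, smul_smul]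
    conv_lhs => rw [← hRP, hR]
    rw [Matrix.smul_apply, Matrix.mul_apply, Finset.sum_eq_single 1 ?_ (by simp)]
    · rw [show (P * (eOne : Hm 4 F)) i 1 = P i 1 by simp [Matrix.mul_apply, eOne]]
      congr 1; field_simp
    · intro k _ hk; simp [Matrix.mul_apply, eOne, hk]
  · have e := congrFun (congrFun hPP 1) 1
    rw [Matrix.mul_apply, Fin.sum_univ_four, hs] at e
    have h10 : P 1 0 * P 0 1 = 0 := by rw [h0 1, mul_zero]
    rw [h10, zero_add, smul_mul_smul_comm, one_mul] at e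
    rw [adj_smul, adj_smul, hadj, hadj, smul_mul_smul_comm, smul_mul_smul_comm, smul_add, smul_add, smul_smul,
      smul_smul]
    have := congrArg (s⁻¹ • ·) e
    simp only [smul_add, smul_smul] at this
    rw [show s * (s⁻¹ * s⁻¹) = s⁻¹ by field_simp]
    rw [show s⁻¹ * (s * s) = s by field_simp, inv_mul_cancel₀ hs0, one_smul] at this
    exact this

theorem diag_table : ∀ x : Fin 4, (wm (0, 0, 1)).p x = x ∧ (wm (0, 0, 3)).p x = x ∧
    (wm (0, 0, 1)).c x = ![0, 4, 0, 4] x ∧ (wm (0, 0, 3)).c x = ![0, 4, 4, 0] x := by decide +kernel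

/-- commuting with a sign matrix negating the row -/
theorem comm_of_row {u : (Hm 4 F)ˣ} {r : Fin 4 → M2 F} {a : F} {b : W4}
    (hu : (u : Hm 4 F) = 1 - a • (hst (rowM r) * rowM r)) (hb : sing b = true)
    (h : rowM r * (Q.w b : Hm 4 F) = -rowM r) : Commute u (Q.w b) := by
  have hs : hst (Q.w b : Hm 4 F) = Q.w b := Iso.self_adj (Q.w_iso b) ((sing_iff (Q := Q)).1 hb).1
  have h' : (Q.w b : Hm 4 F) * hst (rowM r) = -hst (rowM r) := by
    have := congrArg hst h
    rwa [hst_mul, hs, hst_neg] at this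
  refine Units.ext ?_
  rw [Units.val_mul, Units.val_mul, hu, sub_mul, mul_sub, one_mul, mul_one, smul_mul_assoc, mul_smul_comm,
    ← mul_assoc, h', mul_assoc, h, neg_mul, mul_neg]

theorem swap_table : (p12.mul (wm (0, 0, 3))).z = (1 : Zm 4) -
    zst (Matrix.of fun i j : Fin 4 => if i = 1 ∧ (j = 1 ∨ j = 2) then (1 : Qz) else 0) *
      Matrix.of fun i j : Fin 4 => if i = 1 ∧ (j = 1 ∨ j = 2) then (1 : Qz) else 0 := by decide +kernel

theorem swap_sq : (p12.mul (wm (0, 0, 3))).mul (p12.mul (wm (0, 0, 3))) = Mn.one 4 := by decide +kernel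

theorem swap_ne : p12.mul (wm (0, 0, 3)) ≠ Mn.negOne 4 := by decide +kernel

/-- the main case: a row with all three entries nonzero -/
theorem Over.cover_full (H : Over Q M) {u : (Hm 4 F)ˣ} (hu : u ∈ M) (hr : IsRefl u) {X Y : Qz} {c d : M2 F}
    {s : F} (hform : (u : Hm 4 F) = 1 - (2 * s) • (hst (rowM ![0, 1, c, d]) * rowM ![0, 1, c, d]))
    (hs : s • ((1 : M2 F) + c * c.adjugate + d * d.adjugate) = 1)
    (hc : (2 : F) • c = Q.ι X) (hd : (2 : F) • d = Q.ι Y) (hX : X * qbar X = ((4 : ℤ) : Qz))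
    (hY : Y * qbar Y = ((4 : ℤ) : Qz)) (hA : smooth 46656 (Av X) = true) (k : Fin 3)
    (hk : ∀ (b : Bool) (j : Fin 9), smooth 46656 (Av X * q9 j + Bv X * fq k b + Cv X Y) = true) : False := by
  have h2 := Q.two
  have h4 : (4 : F) ≠ 0 := by rw [show (4 : F) = 2 * 2 by norm_num]; exact mul_ne_zero h2 h2
  have norm1 : ∀ (Z : Qz) (m : M2 F), (2 : F) • m = Q.ι Z → Z * qbar Z = ((4 : ℤ) : Qz) → m * m.adjugate = 1 := by
    intro Z m hm hZ
    have e := congrArg Q.ι hZ
    rw [map_mul, Q.ι_bar, ← hm, cast_int, adj_smul, smul_mul_smul_comm, show (2 : F) * 2 = 4 by norm_num] at e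
    push_cast at e
    exact smul_right_injective _ h4 e
  rw [norm1 X c hc hX, norm1 Y d hd hY] at hs
  have hs3 : 3 * s = 1 := by
    have := congrFun (congrFun hs 0) 0
    simp at this
    linear_combination this
  have h3 : (3 : F) ≠ 0 := fun e => by rw [e, zero_mul] at hs3; exact zero_ne_one hs3
  have h6 : ((46656 : ℕ) : F) ≠ 0 := by
    rw [show ((46656 : ℕ) : F) = 2 ^ 6 * 3 ^ 6 by norm_num]; exact mul_ne_zero (pow_ne_zero _ h2) (pow_ne_zero _ h3)
  -- the exchange of two planes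
  obtain ⟨t, ht⟩ : ∃ t, t = Q.gen 0 * Q.w (0, 0, 3) := ⟨_, rfl⟩
  have htN : t ∈ Q.N8 := ht ▸ mul_mem (Q.gen_N8 0) (Q.w_N8 _)
  have htv : (t : Hm 4 F) = Q.mo (p12.mul (wm (0, 0, 3))) := by rw [ht, Units.val_mul, Q.gen0_val, Q.w_val, Q.mo_mul]
  have htR : (t : Hm 4 F) = 1 - hst (rowM ![0, 1, 1, 0]) * rowM ![0, 1, 1, 0] := by
    have hR : Q.cast 4 (Matrix.of fun i j : Fin 4 => if i = 1 ∧ (j = 1 ∨ j = 2) then (1 : Qz) else 0) =
        rowM ![0, 1, 1, 0] := by
      refine Matrix.ext fun i j => ?_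
      rw [Q.cast_apply]
      by_cases hi : i = 1 <;> fin_cases j <;> simp [rowM, hi]
    rw [htv, ← Q.cast_z, swap_table, map_sub, map_one, map_mul, Q.cast_zst, hR]
  have htt : IsRefl t := isRefl_of_trace h2 htN.2
    (Units.ext (by rw [Units.val_mul, htv, ← Q.mo_mul, swap_sq, Q.mo_one, Units.val_one]))
    (fun e => swap_ne (Q.mo_inj (htv.symm.trans
      (by rw [e, Units.val_neg, Units.val_one, ← Q.mo_negOne])))) (by
      rw [htv, trH, Fin.sum_univ_four]
      simp [Quat.mo, Mn.mul, p12, wm, x4, par, Q.u_zero, show qm 0 0 = 0 from rfl]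
      norm_num)
  have hvM : u * t * u⁻¹ ∈ M := mul_mem (mul_mem hu (H.hN htN)) (inv_mem hu)
  have hvr : IsRefl (u * t * u⁻¹) := htt.conj hr.1
  obtain ⟨w, hw⟩ : ∃ w, w = fun j => ∑ i, (![0, 1, 1, 0] : Fin 4 → M2 F) i * (u : Hm 4 F) i j := ⟨_, rfl⟩
  have hW : rowM ![0, 1, 1, 0] * (u : Hm 4 F) = rowM w := by rw [rowM_mul, hw]
  have huu : (u : Hm 4 F) * u = 1 := by rw [← Units.val_mul, hr.2.1, Units.val_one]
  have hus := Iso.self_adj hr.1 hr.2.1
  have hn : rowM w * hst (rowM w) = (2 : F) • eOne := by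
    rw [← hW, hst_mul, hus, mul_assoc, ← mul_assoc (u : Hm 4 F), huu, one_mul]
    refine rowM_hst_scal _ _ ?_
    simp [Fin.sum_univ_four, two_smul]
  have hv : ((u * t * u⁻¹ : (Hm 4 F)ˣ) : Hm 4 F) = 1 - hst (rowM w) * rowM w := by
    rw [inv_eq_of_mul_eq_one_right hr.2.1, Units.val_mul, Units.val_mul, htR, mul_sub, sub_mul, mul_one, huu,
      ← hW, hst_mul, hus]
    simp only [mul_assoc]
  obtain ⟨v, e, v1, v2, v3, v4, v5⟩ := H.refl_plane hvM hvr (z := zk k) (zk_sing k)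
  rw [hv, sub_mul, one_mul, sub_eq_self] at v5
  have heq := row_zero hn h2 v5
  -- the entries of the new row
  have hent : ∀ j, (6 : F) • w j = (6 : F) • (![0, 1, 1, 0] : Fin 4 → M2 F) j -
      Q.ι (((2 : ℤ) : Qz) + qbar X) * ((2 : F) • (![0, 1, c, d] : Fin 4 → M2 F) j) := fun j => by
    have hT : Q.ι (((2 : ℤ) : Qz) + qbar X) = (2 : F) • (1 + c.adjugate) := by
      rw [map_add, cast_int, Q.ι_bar, ← hc, adj_smul, smul_add]; norm_num
    have e1 : w j = (![0, 1, 1, 0] : Fin 4 → M2 F) j -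
        (2 * s) • ((1 + c.adjugate) * (![0, 1, c, d] : Fin 4 → M2 F) j) := by
      rw [hw]
      show ∑ i, _ * (u : Hm 4 F) i j = _
      rw [hform]
      simp only [Fin.sum_univ_four, Matrix.sub_apply, Matrix.smul_apply, hst_rowM_mul, Matrix.cons_val,
        zero_mul, zero_add, add_zero, one_mul, adjugate_one]
      fin_cases j <;> simp [Matrix.one_apply, add_mul] <;> module
    rw [e1, hT, smul_mul_assoc, mul_smul_comm, smul_sub, smul_smul, smul_smul,
      show (6 : F) * (2 * s) = 2 * 2 by linear_combination 4 * hs3]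
  have w0 : (6 : F) • w 0 = 0 := by rw [hent]; simp
  have w1 : (6 : F) • w 1 = Q.ι (Av X) := by
    rw [hent, Av, map_sub, map_mul, cast_int, cast_int]
    simp
  have w2' : (6 : F) • w 2 = Q.ι (Bv X) := by
    rw [hent, Bv, map_sub, map_mul, cast_int]
    simp [hc]
  have w3 : (6 : F) • w 3 = Q.ι (Cv X Y) := by
    rw [hent, Cv, map_neg, map_mul]
    simp [hd]
  obtain ⟨b, j, hbj⟩ := eq_of_plane (Q := Q) (A := Q.ι (Av X)) (B := Q.ι (Bv X)) (C := Q.ι (Cv X Y))
    (smooth_ne h6 hA) v1 v2 v3 v4 (e := e) fun y => by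
      have := congrArg ((6 : F) • ·) (heq y)
      simp only [Fin.sum_univ_four, smul_add, smul_zero, ← smul_mul_assoc, w0, w1, w2', w3, zero_mul, zero_add] at this
      exact this
  rw [← map_mul, ← map_mul, ← map_add, ← map_add] at hbj
  exact smooth_ne h6 (hk b j) hbj

theorem centred_N8 (e : Bool) : Q.w (centred e) * Q.w (centred e) = 1 := by
  rw [← Q.w_mul, ← Q.w_one]; congr 1; revert e; decide

/-- every reflection of a proper overgroup centralises a noncentral involution of the group -/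
theorem Over.cover (H : Over Q M) {u : (Hm 4 F)ˣ} (hu : u ∈ M) (hr : IsRefl u) :
    ∃ v, sing v = true ∧ Commute u (Q.w v) := by
  have h2 := Q.two
  have h4 : (4 : F) ≠ 0 := by rw [show (4 : F) = 2 * 2 by norm_num]; exact mul_ne_zero h2 h2
  -- move the fixed plane to the first one
  obtain ⟨w, e, w1, w2', w3, w4, w5⟩ := H.refl_axis hu hr
  obtain ⟨h, hh, ha, hb⟩ := Q.exists_to_pair w1 w2' w3 w4
  obtain ⟨g, hg⟩ : ∃ g, g = Q.w (centred e) * h⁻¹ := ⟨_, rfl⟩
  have hgN : g ∈ Q.N8 := hg ▸ mul_mem (Q.w_N8 _) (inv_mem hh)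
  refine comm_conj hgN ?_
  have hcol : ∀ i, ((g * u * g⁻¹ : (Hm 4 F)ˣ) : Hm 4 F) i 0 = if i = 0 then (1 : M2 F) else 0 := by
    obtain ⟨Z, hZ⟩ : ∃ Z, Z = planeM Q e (0, 0, 1) (0, 0, 2) := ⟨_, rfl⟩
    have e1 : planeM Q e w (0, 0, 2) = (h : Hm 4 F) * Z * ((h⁻¹ : (Hm 4 F)ˣ) : Hm 4 F) := by
      have hI : (h : Hm 4 F) * ((h⁻¹ : (Hm 4 F)ˣ) : Hm 4 F) = 1 := h.mul_inv
      rw [hZ, planeM, planeM, ← hb]
      conv_lhs => rw [← ha]
      simp only [Units.val_mul, mul_add, add_mul, mul_one, one_mul, mul_smul_comm, smul_mul_assoc, ← mul_assoc,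
        hI, Units.inv_mul_cancel_right]
    rw [e1] at w5
    have hC := congrArg (Q.cast 4) (centred_plane e)
    rw [map_mul, map_mul, Q.cast_z, ← Q.w_val, cast_plane, ← hZ] at hC
    have hcc : (Q.w (centred e) : Hm 4 F) * Q.w (centred e) = 1 := by
      rw [← Units.val_mul, centred_N8, Units.val_one]
    have hfix : ((g * u * g⁻¹ : (Hm 4 F)ˣ) : Hm 4 F) * ((Q.w (centred e) : Hm 4 F) * Z * Q.w (centred e)) =
        (Q.w (centred e) : Hm 4 F) * Z * Q.w (centred e) := by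
      rw [hg, _root_.mul_inv_rev, inv_inv, inv_eq_of_mul_eq_one_right (centred_N8 e)]
      have e2 := congrArg (fun X => (Q.w (centred e) : Hm 4 F) * ((h⁻¹ : (Hm 4 F)ˣ) : Hm 4 F) * X *
        (h : Hm 4 F) * Q.w (centred e)) w5
      simp only [Units.val_mul, ← mul_assoc, Units.inv_mul_cancel_right] at e2 ⊢
      rw [mul_assoc _ (Q.w (centred e) : Hm 4 F) (Q.w (centred e) : Hm 4 F), hcc, mul_one]
      exact e2
    rw [hC] at hfix
    intro i
    have e3 := congrFun (congrFun hfix i) 0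
    rw [Matrix.mul_apply, Finset.sum_eq_single 0 (fun k _ hk => by simp [Q.cast_apply, hk]) (by simp),
      Q.cast_apply, Q.cast_apply] at e3
    simp only [Matrix.of_apply, and_self, if_true, cast_int, mul_smul_comm, mul_one] at e3
    push_cast at e3
    split_ifs with hi
    · have h4' : Q.ι (4 : Qz) = (4 : F) • (1 : M2 F) := by
        have := cast_int (Q := Q) 4
        simpa using this
      simp [hi] at e3
      rw [h4'] at e3
      subst hi
      exact smul_right_injective _ h4 e3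
    · simp [hi] at e3
      exact e3.resolve_left h4
  obtain ⟨v, hv⟩ : ∃ v, v = g * u * g⁻¹ := ⟨_, rfl⟩
  rw [← hv] at hcol ⊢
  have hvM : v ∈ M := hv ▸ mul_mem (mul_mem (H.hN hgN) hu) (inv_mem (H.hN hgN))
  have hvr : IsRefl v := hv ▸ hr.conj hgN.2
  obtain ⟨P, hP⟩ : ∃ P, P = (2 : F)⁻¹ • ((1 : Hm 4 F) - (v : Hm 4 F)) := ⟨_, rfl⟩
  have hPs : hst P = P := by rw [hP, hst_smul, hst_sub, hst_one, Iso.self_adj hvr.1 hvr.2.1]
  have hP0 : ∀ j, P 0 j = 0 := fun j => by
    have : P j 0 = 0 := by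
      rw [hP, Matrix.smul_apply, Matrix.sub_apply, hcol, Matrix.one_apply]
      simp
    rw [← hPs, hst_apply, this]; simp
  -- bring a nonzero diagonal entry to the second place
  obtain ⟨k, hk, s, hs, hs0⟩ : ∃ k, k ≠ 0 ∧ ∃ s : F, P k k = s • (1 : M2 F) ∧ s ≠ 0 := by
    by_contra hcon
    push Not at hcon
    have hz : ∀ k, P k k = 0 := fun k => by
      obtain ⟨a, ha⟩ := scalar_of_adj h2 (show (P k k).adjugate = P k k by rw [← hst_apply P k k, hPs])
      by_cases hk : k = 0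
      · subst hk; exact hP0 0
      · rw [ha, hcon k hk a ha, zero_smul]
    have ht : trH P = 2 := by
      rw [hP, trH_smul, sub_eq_add_neg, trH_add, trH_neg, trH_one, hvr.trace h2]
      field_simp; norm_num
    rw [trH] at ht
    simp [hz] at ht
    exact h2 ht.symm
  obtain ⟨p, hp, q, hq, hq0, hq1⟩ := Q.exists_perm k hk
  refine comm_conj hp ?_
  have hPc : (2 : F)⁻¹ • ((1 : Hm 4 F) - ((p * v * p⁻¹ : (Hm 4 F)ˣ) : Hm 4 F)) =
      (p : Hm 4 F) * P * ((p⁻¹ : (Hm 4 F)ˣ) : Hm 4 F) := by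
    rw [hP, mul_smul_comm, smul_mul_assoc, mul_sub, sub_mul, mul_one, Units.mul_inv, Units.val_mul, Units.val_mul]
  obtain ⟨c, d, hform, hnorm⟩ := (hvr.conj (g := p) hp.2).row_form h2 hPc.symm
    (fun j => by rw [gen_perm hq, hq0, hP0]) (s := s) (by rw [gen_perm hq, hq1, hs]) hs0
  obtain ⟨u', hu'⟩ : ∃ u', u' = p * v * p⁻¹ := ⟨_, rfl⟩
  rw [← hu'] at hform ⊢
  have huM : u' ∈ M := hu' ▸ mul_mem (mul_mem (H.hN hp) hvM) (inv_mem (H.hN hp))
  have hur : IsRefl u' := hu' ▸ hvr.conj hp.2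
  have hn : rowM (![0, 1, c, d] : Fin 4 → M2 F) * hst (rowM ![0, 1, c, d]) = s⁻¹ • eOne := by
    refine rowM_hst_scal _ _ ?_
    simp only [Fin.sum_univ_four, Matrix.cons_val, zero_mul, zero_add, one_mul, adjugate_one]
    rw [eq_inv_smul_iff₀ hs0]
    exact hnorm
  have rel : ∀ k : Fin 3, ∃ (b : Bool) (j : Fin 9), Q.ι (q9 j) + c * Q.ι (fq k b) + d = 0 := by
    intro k
    obtain ⟨z, e, z1, z2, z3, z4, z5⟩ := H.refl_plane huM hur (z := zk k) (zk_sing k)
    rw [hform, sub_mul, one_mul, sub_eq_self, smul_mul_assoc] at z5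
    have heq := row_zero hn (inv_ne_zero hs0) ((smul_eq_zero.1 z5).resolve_left (mul_ne_zero h2 hs0))
    have := eq_of_plane (Q := Q) (A := 1) (B := c) (C := d) one_ne_zero z1 z2 z3 z4 (e := e) fun y => by
      simpa [Fin.sum_univ_four] using heq y
    simpa using this
  obtain ⟨b0, e0, r0⟩ := rel 0
  obtain ⟨b1, e1, r1⟩ := rel 1
  obtain ⟨b2, e2, r2⟩ := rel 2
  obtain ⟨X, hX⟩ : ∃ X, X = Xv e0 e1 b0 b1 := ⟨_, rfl⟩
  obtain ⟨Y, hY⟩ : ∃ Y, Y = Yv e0 e1 b0 b1 := ⟨_, rfl⟩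
  have hc : (2 : F) • c = Q.ι X := by
    have e' : c * Q.ι (fq 0 b0 - fq 1 b1) = Q.ι (q9 e1 - q9 e0) := by
      rw [map_sub, map_sub, mul_sub]
      linear_combination (norm := module) r0 - r1
    have e'' := congrArg (· * Q.ι (qbar (fq 0 b0 - fq 1 b1))) e'
    simp only [mul_assoc, ← map_mul, fq_diff, cast_int, mul_smul_comm, mul_one] at e''
    push_cast at e''
    rw [e'', hX, Xv]
  have hd : (2 : F) • d = Q.ι Y := by
    rw [hY, Yv, ← hX, map_sub, map_neg, map_add, map_mul, ← hc, smul_mul_assoc]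
    linear_combination (norm := module) (2 : F) • r0
  have zero_of : ∀ (Z : Qz) (m : M2 F), (2 : F) • m = Q.ι Z → Z = 0 → m = 0 := fun Z m hm hZ => by
    rw [hZ, map_zero] at hm; exact (smul_eq_zero.1 hm).resolve_left h2
  have h1024 : ((1024 : ℕ) : F) ≠ 0 := by
    rw [show ((1024 : ℕ) : F) = 2 ^ 10 by norm_num]; exact pow_ne_zero _ h2
  rcases case_table e0 e1 b0 b1 with o | o | o | ⟨oX, oY, oA, k, ok⟩
  · rw [← hX] at o
    refine ⟨(0, 0, 1), by decide, comm_of_row hform (by decide) ?_⟩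
    have hc0 := zero_of X c hc o
    refine Matrix.ext fun i j => ?_
    rw [rowM_mul]
    by_cases hi : i = 1
    · fin_cases j <;> simp [rowM, hi, hc0, Q.w_val, Quat.mo, (diag_table _).1,
        (diag_table _).2.2.1, Q.u_four, Q.u_zero]
    · simp [rowM, hi]
  · rw [← hY] at o
    refine ⟨(0, 0, 3), by decide, comm_of_row hform (by decide) ?_⟩
    have hd0 := zero_of Y d hd o
    refine Matrix.ext fun i j => ?_
    rw [rowM_mul]
    by_cases hi : i = 1
    · fin_cases j <;> simp [rowM, hi, hd0, Q.w_val, Quat.mo, (diag_table _).2.1,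
        (diag_table _).2.2.2, Q.u_four, Q.u_zero]
    · simp [rowM, hi]
  · exfalso
    rw [← hX, ← hY] at o
    refine smooth_ne (F := F) (Q := Q) h1024 (o b2 e2) ?_
    rw [map_add, map_add, map_mul, map_mul, ← hc, ← hd, cast_int, smul_mul_assoc, smul_mul_assoc, one_mul]
    push_cast
    linear_combination (norm := module) (2 : F) • r2
  · rw [← hX, ← hY] at *
    exact (H.cover_full huM hur hform hnorm hc hd oX oY oA k ok).elim

end CfsgLib.MaxSub.SpEightSymp
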