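import Cfsg.Agent.Lib.MaxSub.SpEightSymp.Cover

/-!
The normaliser of the symplectic-type group is maximal among the isometries.
-/

set_option autoImplicit false
set_option linter.unusedSectionVars false
set_option linter.style.haveILetI false
set_option maxRecDepth 100000

namespace CfsgLib.MaxSub.SpEightSymp

open Matrix Module
open scoped MatrixGroups

variable {F : Type*} [Field F] [Fintype F] {Q : Quat F} {M : Subgroup (Hm 4 F)ˣ}

/-- the sign change of the first plane -/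
def flip0 : Mn 4 := ⟨id, ![4, 0, 0, 0]⟩

theorem flip0_z : gz 2 = flip0.z ∧ gN 2 = 1 := by decide +kernel

theorem Quat.gen2_val (Q : Quat F) : (Q.gen 2 : Hm 4 F) = Q.mo flip0 := by
  show gs F 2 • Q.cast 4 (gz 2) = _
  rw [flip0_z.1, Q.cast_z, gs, if_pos flip0_z.2, one_smul]

theorem flip0_facts : flip0.mul flip0 = Mn.one 4 ∧ flip0 ≠ Mn.negOne 4 := by decide +kernel

theorem isRefl_flip : IsRefl (Q.gen 2) := by
  refine isRefl_of_trace Q.two (Q.gen_iso 2) (Units.ext ?_) (fun e => flip0_facts.2 (Q.mo_inj ?_)) ?_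
  · rw [Units.val_mul, Q.gen2_val, ← Q.mo_mul, flip0_facts.1, Q.mo_one, Units.val_one]
  · rw [← Q.gen2_val, e, Units.val_neg, Units.val_one, Q.mo_negOne]
  · rw [Q.gen2_val, trH, Fin.sum_univ_four]
    simp [Quat.mo, flip0, Q.u_zero, Q.u_four]
    norm_num

/-- the sign change of any plane -/
def flipW (k : Fin 4) : W4 := (0, k, 0)

theorem axis_flips : ((wm (flipW 2)).mul (flip0.mul (wm (flipW 2)))).mul
    ((wm (flipW 3)).mul (flip0.mul (wm (flipW 3)))) = wm (0, 0, 2) := by decide +kernel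

theorem blk_flip : ∀ b : Bool, ∃ k : Fin 4, blk (wm2 (0, 0, 0)) (wm2 (sf (b, 0))) =
    (wm (flipW k)).mul (flip0.mul (wm (flipW k))) := by decide +kernel

theorem flipW_sq : ∀ k : Fin 4, wmul (flipW k) (flipW k) = (0, 0, 0) := by decide

theorem flip_assoc : ∀ k : Fin 4, (wm (flipW k)).mul (flip0.mul (wm (flipW k))) =
    ((wm (flipW k)).mul flip0).mul (wm (flipW k)) := by decide +kernel

theorem flipW_inv (k : Fin 4) : (Q.w (flipW k))⁻¹ = Q.w (flipW k) :=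
  inv_eq_of_mul_eq_one_right (by rw [← Q.w_mul, flipW_sq, Q.w_one])

/-- all reflections are in the normaliser -/
theorem Over.refl_mem (H : Over Q M) {u : (Hm 4 F)ˣ} (hu : u ∈ M) (hr : IsRefl u) : u ∈ Q.N8 :=
  let ⟨_, hv, hc⟩ := H.cover hu hr
  H.cent_sing hv hu hc

/-- all reflections are conjugate to the standard one under the normaliser -/
theorem Over.refl_std (H : Over Q M) {u : (Hm 4 F)ˣ} (hu : u ∈ M) (hr : IsRefl u) :
    ∃ h ∈ Q.N8, h * u * h⁻¹ = Q.gen 2 := by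
  obtain ⟨v, hv, hc⟩ := H.cover hu hr
  obtain ⟨h, hh, he⟩ := Q.exists_to_point hv
  have hM : h⁻¹ * u * h ∈ M := mul_mem (mul_mem (inv_mem (H.hN hh)) hu) (H.hN hh)
  have hcx : Commute (h⁻¹ * u * h) (Q.w (0, 0, 2)) := by
    show _ = _
    have e := hc.eq
    rw [← he] at e
    calc h⁻¹ * u * h * Q.w (0, 0, 2) = h⁻¹ * (u * (h * Q.w (0, 0, 2) * h⁻¹)) * h := by group
      _ = h⁻¹ * (h * Q.w (0, 0, 2) * h⁻¹ * u) * h := by rw [e]
      _ = Q.w (0, 0, 2) * (h⁻¹ * u * h) := by group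
  obtain ⟨a, b, hab, haN, hbN, habR⟩ := H.split hM hcx
  have ht : IsRefl (bdU a b) := by
    rw [← hab]
    simpa using hr.conj (g := h⁻¹) (inv_mem hh.2)
  have hsq := ht.2.1
  rw [bdU_mul, ← bdU_one] at hsq
  obtain ⟨ha2, hb2⟩ := bdU_inj hsq
  have htr := ht.trace Q.two
  rw [bdU_val, trH_bd] at htr
  have hnn : ¬ (a = -1 ∧ b = -1) := by
    rintro ⟨rfl, rfl⟩
    have h8 := ht.2.2
    rw [← bdU_neg, bdU_one, Units.val_neg, Units.val_one, sub_neg_eq_add] at h8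
    have htop : rg ((1 : Hm 4 F) + 1) = ⊤ := eq_top_iff.2 fun x _ => ⟨(2 : F)⁻¹ • x, by
      rw [toLin'_apply, map_add, map_one, add_mulVec, one_mulVec, ← two_smul F, smul_smul,
        mul_inv_cancel₀ Q.two, one_smul]⟩
    rw [htop, finrank_top, finrank_vec] at h8
    omega
  -- reduce to a trivial first block
  have key : ∀ y : (Hm 2 F)ˣ, y ∈ Q.R4 → y * y = 1 → y ≠ 1 → y ≠ -1 →
      ∃ p ∈ Q.N8, p * bdU 1 y * p⁻¹ = Q.gen 2 := by
    rintro _ ⟨v, rfl⟩ hy2 hy1 hy3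
    rcases invol_cases v (Q.w2_inj (by rw [Q.w2_mul, hy2, Q.w2_one])) with rfl | rfl | ⟨⟨σ, i⟩, rfl⟩
    · exact absurd Q.w2_one hy1
    · exact absurd Q.w2_neg hy3
    obtain ⟨c, hc, hcr⟩ := Q.exists_path2 (fromZero i)
    obtain ⟨τ, hτ⟩ := hcr 0
    rw [fromZero_spec] at hτ
    obtain ⟨β, hβ⟩ : ∃ β, c⁻¹ * Q.w2 (sf (σ, i)) * c = Q.w2 (sf (β, 0)) := by
      have h0 : c⁻¹ * Q.w2 (sf (τ, i)) * c = Q.w2 (five 0) := by rw [← hτ]; group
      rw [Q.sf_sign] at h0 ⊢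
      refine ⟨xor σ τ, ?_⟩
      rw [Q.sf_sign]
      cases σ <;> cases τ <;> simp at h0 ⊢ <;> simp [← h0]
    obtain ⟨k, hk⟩ := blk_flip β
    refine ⟨Q.w (flipW k) * (bdU c c)⁻¹, mul_mem (Q.w_N8 _) (inv_mem (Q.diag_N8 hc)), Units.ext ?_⟩
    have e1 : (bdU c c)⁻¹ * bdU 1 (Q.w2 (sf (σ, i))) * bdU c c =
        Q.w (flipW k) * Q.gen 2 * Q.w (flipW k) := by
      rw [bdU_inv, bdU_mul, bdU_mul, hβ, mul_one, inv_mul_cancel]
      refine Units.ext ?_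
      rw [Units.val_mul, Units.val_mul, Q.gen2_val, Q.w_val, ← Q.mo_mul, ← Q.mo_mul, bdU_val, ← Q.w2_one, Q.w2_val,
        Q.w2_val, ← Q.mo_blk, hk]
      rw [flip_assoc]
    refine congrArg Units.val ?_
    rw [_root_.mul_inv_rev, inv_inv, flipW_inv,
      show Q.w (flipW k) * (bdU c c)⁻¹ * bdU 1 (Q.w2 (sf (σ, i))) * (bdU c c * Q.w (flipW k)) =
        Q.w (flipW k) * ((bdU c c)⁻¹ * bdU 1 (Q.w2 (sf (σ, i))) * bdU c c) * Q.w (flipW k) by group, e1,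
      show Q.w (flipW k) * (Q.w (flipW k) * Q.gen 2 * Q.w (flipW k)) * Q.w (flipW k) =
        (Q.w (flipW k) * Q.w (flipW k)) * Q.gen 2 * (Q.w (flipW k) * Q.w (flipW k)) by group,
      ← Q.w_mul, flipW_sq, Q.w_one, one_mul, mul_one]
  rcases refl_case_split Q.two haN.2 hbN.2 ha2 hb2 htr hnn with ⟨rfl, hb1, hb1'⟩ | ⟨rfl, ha1, ha1'⟩
  · rw [one_mul] at habR
    obtain ⟨p, hp, hpe⟩ := key b (inv_mem_iff.1 habR) hb2 hb1 hb1'
    refine ⟨p * h⁻¹, mul_mem hp (inv_mem hh), ?_⟩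
    rw [← hpe, ← hab]; group
  · rw [inv_one, mul_one] at habR
    obtain ⟨p, hp, hpe⟩ := key a habR ha2 ha1 ha1'
    refine ⟨p * Q.w (0, 2, 0) * h⁻¹, mul_mem (mul_mem hp (Q.w_N8 _)) (inv_mem hh), ?_⟩
    rw [← hpe, ← swap_conj' (Q := Q) a 1, ← hab]; group

/-- the six signed points fixed by the standard reflection -/
def six : List W4 := [(0, 0, 1), (0, 0, 2), (0, 0, 3), (4, 0, 1), (4, 0, 2), (4, 0, 3)]

theorem six_spec : ∀ v : W4, v ∈ six ↔ sing v = true ∧ act 2 v = v := by decide +kernel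

/-- the multiplicative extension of two images -/
def ext6 (x y w : W4) : W4 :=
  wmul (w.1, 0, 0) (wmul (if w.2.2.1 % 2 = 1 then x else (0, 0, 0)) (if 2 ≤ w.2.2.1 then y else (0, 0, 0)))

theorem six_fixed : ∀ x ∈ six, ∀ y ∈ six, ext6 x y x = (0, 0, 1) → ext6 x y y = (0, 0, 2) →
    x = (0, 0, 1) ∨ y = (0, 0, 2) ∨ wmul x y = (0, 0, 3) := by decide +kernel

theorem six_decomp : ∀ w ∈ six, w = wmul (w.1, 0, 0)
    (wmul (if w.2.2.1 % 2 = 1 then (0, 0, 1) else (0, 0, 0)) (if 2 ≤ w.2.2.1 then (0, 0, 2) else (0, 0, 0))) ∧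
    (w.1 = 0 ∨ w.1 = 4) := by decide +kernel

/-- two commuting reflections, the first standard, centralise a common point -/
theorem Over.common (H : Over Q M) {b : (Hm 4 F)ˣ} (hb : b ∈ M) (hr : IsRefl b)
    (hc : Commute b (Q.gen 2)) : ∃ v, sing v = true ∧ Commute (Q.gen 2) (Q.w v) ∧ Commute b (Q.w v) := by
  have hbN := H.refl_mem hb hr
  have img : ∀ v ∈ six, ∃ x ∈ six, b * Q.w v * b⁻¹ = Q.w x := by
    intro v hv
    obtain ⟨x, hx⟩ := (Subgroup.mem_normalizer_iff.1 hbN.1 (Q.w v)).1 (Q.w_mem v)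
    obtain ⟨hs, ha⟩ := (six_spec v).1 hv
    obtain ⟨s1, s2, s3⟩ := (sing_iff (Q := Q)).1 hs
    refine ⟨x, (six_spec x).2 ⟨(sing_iff (Q := Q)).2 ⟨?_, ?_, ?_⟩, Q.w_inj ?_⟩, hx.symm⟩
    · rw [hx, show b * Q.w v * b⁻¹ * (b * Q.w v * b⁻¹) = b * (Q.w v * Q.w v) * b⁻¹ by group, s1, mul_one,
        mul_inv_cancel]
    · rw [hx]; exact fun e => s2 (by simpa using conj_eq_one_iff.1 e)
    · rw [hx]; intro e
      exact s3 (mul_left_cancel (mul_right_cancel (e.trans (show (-1 : (Hm 4 F)ˣ) = b * -1 * b⁻¹ by simp))))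
    · rw [← Q.gen_conj, hx]
      have e := hc.eq
      calc Q.gen 2 * (b * Q.w v * b⁻¹) * (Q.gen 2)⁻¹
          = (Q.gen 2 * b) * Q.w v * (b⁻¹ * (Q.gen 2)⁻¹) := by group
        _ = (b * Q.gen 2) * Q.w v * (b⁻¹ * (Q.gen 2)⁻¹) := by rw [e]
        _ = (b * Q.gen 2) * Q.w v * ((Q.gen 2 * b)⁻¹) := by group
        _ = (b * Q.gen 2) * Q.w v * ((b * Q.gen 2)⁻¹) := by rw [e]
        _ = b * (Q.gen 2 * Q.w v * (Q.gen 2)⁻¹) * b⁻¹ := by group
        _ = b * Q.w v * b⁻¹ := by rw [Q.gen_conj, ha]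
  obtain ⟨x, hx, hx'⟩ := img (0, 0, 1) (by decide)
  obtain ⟨y, hy, hy'⟩ := img (0, 0, 2) (by decide)
  have hext : ∀ w ∈ six, b * Q.w w * b⁻¹ = Q.w (ext6 x y w) := by
    intro w hw
    obtain ⟨e, h1⟩ := six_decomp w hw
    have hq : b * Q.w (w.1, 0, 0) * b⁻¹ = Q.w (w.1, 0, 0) := by
      rcases h1 with h | h <;> rw [h]
      · simp [Q.w_one]
      · simp [Q.w_neg]
    conv_lhs => rw [e]
    rw [ext6]
    simp only [Q.w_mul, apply_ite Q.w, Q.w_one]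
    rw [show ∀ p q r : (Hm 4 F)ˣ, b * (p * (q * r)) * b⁻¹ = (b * p * b⁻¹) * ((b * q * b⁻¹) * (b * r * b⁻¹)) from
      fun p q r => by group, hq]
    have hk : ∀ (c : Prop) [Decidable c] (v v' : (Hm 4 F)ˣ), b * v * b⁻¹ = v' →
        b * (if c then v else 1) * b⁻¹ = if c then v' else 1 := fun c _ v v' e => by
      split <;> simp [e]
    rw [hk _ _ _ hx', hk _ _ _ hy']
  have back : ∀ v w : W4, b * Q.w v * b⁻¹ = Q.w w → b * Q.w w * b⁻¹ = Q.w v := fun v w h => by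
    rw [← h, show b * (b * Q.w v * b⁻¹) * b⁻¹ = (b * b) * Q.w v * (b * b)⁻¹ by group, hr.2.1]; simp
  have e1 := Q.w_inj ((hext x hx).symm.trans (back _ _ hx'))
  have e2 := Q.w_inj ((hext y hy).symm.trans (back _ _ hy'))
  have comm : ∀ v ∈ six, b * Q.w v * b⁻¹ = Q.w v →
      sing v = true ∧ Commute (Q.gen 2) (Q.w v) ∧ Commute b (Q.w v) := fun v hv hf => by
    obtain ⟨hs, ha⟩ := (six_spec v).1 hv
    exact ⟨hs, mul_inv_eq_iff_eq_mul.1 (by rw [Q.gen_conj, ha]), mul_inv_eq_iff_eq_mul.1 hf⟩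
  rcases six_fixed x hx y hy e1 e2 with h | h | h
  · exact ⟨_, comm (0, 0, 1) (by decide) (by rw [hx', h])⟩
  · exact ⟨_, comm (0, 0, 2) (by decide) (by rw [hy', h])⟩
  · refine ⟨_, comm (0, 0, 3) (by decide) ?_⟩
    have := hext (0, 0, 3) (by decide)
    rw [show ext6 x y (0, 0, 3) = wmul (0, 0, 0) (wmul x y) from rfl, Q.w_mul, Q.w_one, one_mul, h] at this
    exact this

theorem gen_sing : ∀ v : W4, ∃ s : W4, sing s = true ∧ sing (wmul s v) = true := by decide +kernel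

/-- the conjugates of the axis stay in the group -/
theorem Over.axis_mem (H : Over Q M) {g : (Hm 4 F)ˣ} (hg : g ∈ M) : g * Q.w (0, 0, 2) * g⁻¹ ∈ Q.R8 := by
  obtain ⟨ua, hua⟩ : ∃ t, t = Q.w (flipW 2) * Q.gen 2 * Q.w (flipW 2) := ⟨_, rfl⟩
  obtain ⟨ub, hub⟩ : ∃ t, t = Q.w (flipW 3) * Q.gen 2 * Q.w (flipW 3) := ⟨_, rfl⟩
  have hab : ua * ub = Q.w (0, 0, 2) := by
    refine Units.ext ?_
    rw [hua, hub, Units.val_mul, Units.val_mul, Units.val_mul, Units.val_mul, Units.val_mul, Q.gen2_val, Q.w_val,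
      Q.w_val, Q.w_val, mul_assoc (Q.mo (wm (flipW 2))) (Q.mo flip0), mul_assoc (Q.mo (wm (flipW 3))) (Q.mo flip0),
      ← Q.mo_mul, ← Q.mo_mul, ← Q.mo_mul, ← Q.mo_mul, ← Q.mo_mul, axis_flips]
  have mk : ∀ k, Q.w (flipW k) * Q.gen 2 * Q.w (flipW k) ∈ M ∧ IsRefl (Q.w (flipW k) * Q.gen 2 * Q.w (flipW k)) :=
    fun k => ⟨H.hN (mul_mem (mul_mem (Q.w_N8 _) (Q.gen_N8 2)) (Q.w_N8 _)), by
      have := (isRefl_flip (Q := Q)).conj (Q.w_iso (flipW k))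
      rwa [flipW_inv] at this⟩
  have hA := mul_mem (mul_mem hg (hua ▸ (mk 2).1)) (inv_mem hg)
  have hB := mul_mem (mul_mem hg (hub ▸ (mk 3).1)) (inv_mem hg)
  have rA : IsRefl (g * ua * g⁻¹) := (hua ▸ (mk 2).2 : IsRefl ua).conj (H.le hg)
  have rB : IsRefl (g * ub * g⁻¹) := (hub ▸ (mk 3).2 : IsRefl ub).conj (H.le hg)
  have hzz : Q.w (0, 0, 2) * Q.w (0, 0, 2) = 1 := Units.ext (by rw [Units.val_mul, Units.val_one]; exact axis_sq)
  have hcomm : Commute ua ub := by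
    have a2 : ua * ua = 1 := (hua ▸ (mk 2).2 : IsRefl ua).2.1
    have b2 : ub * ub = 1 := (hub ▸ (mk 3).2 : IsRefl ub).2.1
    show ua * ub = ub * ua
    calc ua * ub = (ua * ub) * ((ua * ub) * (ua * ub))⁻¹ := by rw [hab, hzz, inv_one, mul_one]
      _ = ub⁻¹ * ua⁻¹ := by group
      _ = ub * ua := by rw [inv_eq_of_mul_eq_one_right a2, inv_eq_of_mul_eq_one_right b2]
  obtain ⟨h, hh, he⟩ := H.refl_std hA rA
  obtain ⟨v, hv, hv1, hv2⟩ := H.common (b := h * (g * ub * g⁻¹) * h⁻¹)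
    (mul_mem (mul_mem (H.hN hh) hB) (inv_mem (H.hN hh))) (rB.conj hh.2) (by
      rw [← he]
      exact (Commute.conj_iff h).2 ((Commute.conj_iff g).2 hcomm.symm))
  rw [← he] at hv1
  have hx : Commute ((h * g) * Q.w (0, 0, 2) * (h * g)⁻¹) (Q.w v) := by
    rw [← hab, show h * g * (ua * ub) * (h * g)⁻¹ = (h * (g * ua * g⁻¹) * h⁻¹) * (h * (g * ub * g⁻¹) * h⁻¹) by group]
    exact hv1.mul_left hv2
  have hin := H.fusion (u := (0, 0, 2)) (by decide) hv (mul_mem (H.hN hh) hg) hx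
  rw [show h * g * Q.w (0, 0, 2) * (h * g)⁻¹ = h * (g * Q.w (0, 0, 2) * g⁻¹) * h⁻¹ by group] at hin
  exact (Subgroup.mem_normalizer_iff.1 hh.1 _).2 hin

/-- a proper overgroup of the normaliser is the normaliser -/
theorem Over.le_N8 (H : Over Q M) : M ≤ Q.N8 := by
  intro g hg
  have hs : ∀ s : W4, sing s = true → g * Q.w s * g⁻¹ ∈ Q.R8 := fun s hs => by
    obtain ⟨h, hh, he⟩ := Q.exists_to_point hs
    have := H.axis_mem (mul_mem hg (H.hN hh))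
    rwa [show g * h * Q.w (0, 0, 2) * (g * h)⁻¹ = g * (h * Q.w (0, 0, 2) * h⁻¹) * g⁻¹ by group, he] at this
  refine Q.mem_N8 (H.le hg) fun v => ?_
  obtain ⟨s, h1, h2⟩ := gen_sing v
  have hss := ((sing_iff (Q := Q)).1 h1).1
  rw [show Q.w v = Q.w s * Q.w (wmul s v) by rw [Q.w_mul, ← mul_assoc, hss, one_mul],
    show g * (Q.w s * Q.w (wmul s v)) * g⁻¹ = (g * Q.w s * g⁻¹) * (g * Q.w (wmul s v) * g⁻¹) by group]
  exact mul_mem (hs _ h1) (hs _ h2)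

/-- maximality of the normaliser -/
theorem Quat.N8_maximal (hp : (Fintype.card F).Prime) (hN : Q.N8 ≤ M) (hM : M ≤ Iso 4 F) :
    M = Q.N8 ∨ M = Iso 4 F := by
  by_cases h : Iso 4 F ≤ M
  · exact Or.inr (le_antisymm hM h)
  · exact Or.inl (le_antisymm (Over.le_N8 ⟨hp, hM, hN, h⟩) hN)

end CfsgLib.MaxSub.SpEightSymp
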