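import Cfsg.Agent.Lib.MaxSub.SpEightSymp.Cent

/-!
A conjugate of a noncentral involution of the group that centralises one of them lies in the group.
-/

set_option autoImplicit false
set_option linter.unusedSectionVars false

namespace CfsgLib.MaxSub.SpEightSymp

open Matrix Module
open scoped MatrixGroups

variable {F : Type*} [Field F] [Fintype F] {Q : Quat F}

/-- the trace -/
def trH {n : ℕ} (m : Hm n F) : F := ∑ k, ((m k k) 0 0 + (m k k) 1 1)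

theorem trH_eq {n : ℕ} (m : Hm n F) : trH m = (big n F m).trace := by
  rw [Matrix.trace, ← Equiv.sum_comp (pairIx n), Fintype.sum_prod_type, trH]
  refine Finset.sum_congr rfl fun k _ => ?_
  simp [Fin.sum_univ_two, Matrix.diag, big_apply]

theorem trH_one (n : ℕ) : trH (1 : Hm n F) = 2 * (n : F) := by
  rw [trH_eq, map_one, Matrix.trace_one, Fintype.card_sum, Fintype.card_fin]
  push_cast; ring

theorem trH_neg {n : ℕ} (m : Hm n F) : trH (-m) = -trH m := by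
  rw [trH_eq, trH_eq, map_neg, Matrix.trace_neg]

theorem trH_conj {n : ℕ} (g x : (Hm n F)ˣ) :
    trH ((g * x * g⁻¹ : (Hm n F)ˣ) : Hm n F) = trH (x : Hm n F) := by
  rw [trH_eq, trH_eq, Units.val_mul, Units.val_mul, map_mul, map_mul, Matrix.trace_mul_comm, ← mul_assoc,
    ← map_mul, Units.inv_mul, map_one, one_mul]

theorem trH_bd (a b : Hm 2 F) : trH (bd a b) = trH a + trH b := by
  rw [trH, trH, trH, ← Equiv.sum_comp e4, Fintype.sum_sum_type]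
  simp [bd_ix, Matrix.fromBlocks]

/-- a splitting involution has trace zero -/
theorem trH_invol (h2 : (2 : F) ≠ 0) {r : (Hm 2 F)ˣ} (hr : r ∈ Iso 2 F) (h : r * r = 1) (h1 : r ≠ 1)
    (hn : r ≠ -1) : trH (r : Hm 2 F) = 0 := by
  have hrk := rank_two h2 hr h h1 hn
  set P := (2 : F)⁻¹ • (1 + (r : Hm 2 F)) with hP
  have hpp : P * P = P := proj_idem h2 (by rw [← Units.val_mul, h, Units.val_one])
  have hproj : LinearMap.IsProj (rg P) (Matrix.toLin' (big 2 F P)) :=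
    ⟨fun v => ⟨v, rfl⟩, fun v hv => by rw [toLin'_apply]; exact (mem_rg_idem hpp).1 hv⟩
  have ht := hproj.trace
  rw [Matrix.trace_toLin'_eq, hrk, hP, big_smul, map_add, map_one, Matrix.trace_smul, Matrix.trace_add,
    Matrix.trace_one, ← trH_eq, Fintype.card_sum, Fintype.card_fin, smul_eq_mul] at ht
  push_cast at ht
  field_simp at ht
  linear_combination ht

variable {M : Subgroup (Hm 4 F)ˣ}

/-- shape of a conjugate of the axis in its centraliser -/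
theorem Over.conj_shape (H : Over Q M) {x g : (Hm 4 F)ˣ} (hx : x ∈ M) (hxg : x = g * Q.w (0, 0, 2) * g⁻¹)
    (hc : Commute x (Q.w (0, 0, 2))) :
    (x = Q.w (0, 0, 2) ∨ x = -Q.w (0, 0, 2)) ∨ ∃ r r', x = bdU r r' ∧ r ∈ Q.N4 ∧ r' ∈ Q.N4 ∧ r * r'⁻¹ ∈ Q.R4 ∧
      r * r = 1 ∧ r' * r' = 1 ∧ r ≠ 1 ∧ r ≠ -1 ∧ r' ≠ 1 ∧ r' ≠ -1 := by
  obtain ⟨r, r', rfl, hr, hr', hrr⟩ := H.split hx hc
  have hsq : bdU r r' * bdU r r' = bdU (1 : (Hm 2 F)ˣ) 1 := by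
    rw [hxg, show g * Q.w (0, 0, 2) * g⁻¹ * (g * Q.w (0, 0, 2) * g⁻¹) = g * (Q.w (0, 0, 2) * Q.w (0, 0, 2)) * g⁻¹ by
      group, ← Q.w_mul, show wmul ((0, 0, 2) : W4) (0, 0, 2) = (0, 0, 0) by decide, Q.w_one, mul_one, mul_inv_cancel,
      bdU_one]
  rw [bdU_mul] at hsq
  obtain ⟨h1, h1'⟩ := bdU_inj hsq
  have h20 : (2 : F) ≠ 0 := Q.two
  have h4 : (4 : F) ≠ 0 := by rw [show (4 : F) = 2 * 2 by norm_num]; exact mul_ne_zero h20 h20
  have h8 : (8 : F) ≠ 0 := by rw [show (8 : F) = 4 * 2 by norm_num]; exact mul_ne_zero h4 h20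
  have ht : trH (r : Hm 2 F) + trH (r' : Hm 2 F) = 0 := by
    rw [← trH_bd, ← bdU_val, hxg, trH_conj, Q.axis, bdU_val, trH_bd, Units.val_one, Units.val_neg, Units.val_one,
      trH_neg, add_neg_cancel]
  have t1 : trH ((1 : (Hm 2 F)ˣ) : Hm 2 F) = 4 := by rw [Units.val_one, trH_one]; norm_num
  have tn : trH ((-1 : (Hm 2 F)ˣ) : Hm 2 F) = -4 := by rw [Units.val_neg, trH_neg, t1]
  have tz : ∀ s : (Hm 2 F)ˣ, s ∈ Q.N4 → s * s = 1 → s ≠ 1 → s ≠ -1 → trH (s : Hm 2 F) = 0 :=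
    fun s hs h a b => trH_invol h20 hs.2 h a b
  by_cases a1 : r = 1
  · subst a1
    left; left
    by_cases b1 : r' = 1
    · subst b1; rw [t1] at ht; exact absurd (by linear_combination ht) h8
    by_cases b2 : r' = -1
    · rw [b2, Q.axis]
    rw [t1, tz r' hr' h1' b1 b2, add_zero] at ht
    exact absurd ht h4
  by_cases a2 : r = -1
  · subst a2
    left; right
    by_cases b2 : r' = -1
    · subst b2; rw [tn] at ht; exact absurd (by linear_combination -ht) h8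
    by_cases b1 : r' = 1
    · rw [b1, Q.axis, bdU_neg, neg_neg]
    rw [tn, tz r' hr' h1' b1 b2, add_zero, neg_eq_zero] at ht
    exact absurd ht h4
  have e := tz r hr h1 a1 a2
  refine Or.inr ⟨r, r', rfl, hr, hr', hrr, h1, h1', a1, a2, fun e' => ?_, fun e' => ?_⟩
  · rw [e, e', t1, zero_add] at ht; exact h4 ht
  · rw [e, e', tn, zero_add, neg_eq_zero] at ht; exact h4 ht

/-- a conjugate of the axis centralising the axis lies in the group -/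
theorem Over.fusion_axis (H : Over Q M) {g : (Hm 4 F)ˣ} (hg : g ∈ M)
    (hc : Commute (g * Q.w (0, 0, 2) * g⁻¹) (Q.w (0, 0, 2))) : g * Q.w (0, 0, 2) * g⁻¹ ∈ Q.R8 := by
  have hw : Q.w (0, 0, 2) ∈ M := H.hN (Q.w_N8 _)
  have negmem : -Q.w (0, 0, 2) ∈ Q.R8 := by rw [← neg_one_mul, ← Q.w_neg, ← Q.w_mul]; exact Q.w_mem _
  rcases H.conj_shape (mul_mem (mul_mem hg hw) (inv_mem hg)) rfl hc with (e | e) |
    ⟨r, r', he, hr, hr', hrr, h1, h1', a1, a2, a1', a2'⟩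
  · rw [e]; exact Q.w_mem _
  · rw [e]; exact negmem
  -- the mirror image in the centraliser of the conjugate
  have hc' : Commute (g⁻¹ * Q.w (0, 0, 2) * g) (Q.w (0, 0, 2)) := by
    show _ = _
    calc g⁻¹ * Q.w (0, 0, 2) * g * Q.w (0, 0, 2) =
        g⁻¹ * (Q.w (0, 0, 2) * (g * Q.w (0, 0, 2) * g⁻¹)) * g := by group
      _ = g⁻¹ * (g * Q.w (0, 0, 2) * g⁻¹ * Q.w (0, 0, 2)) * g := by rw [hc.eq]
      _ = Q.w (0, 0, 2) * (g⁻¹ * Q.w (0, 0, 2) * g) := by group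
  rcases H.conj_shape (g := g⁻¹) (mul_mem (mul_mem (inv_mem hg) hw) hg) (by rw [inv_inv]) hc' with (e | e) |
    ⟨s, s', hs, hsN, -, -, hs1, -, b1, b2, -, -⟩
  · have : g * Q.w (0, 0, 2) * g⁻¹ = Q.w (0, 0, 2) := by
      (conv_lhs => rw [← e])
      group
    rw [this]; exact Q.w_mem _
  · have : g * Q.w (0, 0, 2) * g⁻¹ = -Q.w (0, 0, 2) := by
      have e' : Q.w (0, 0, 2) = -(g * Q.w (0, 0, 2) * g⁻¹) := by
        rw [show -(g * Q.w (0, 0, 2) * g⁻¹) = g * -Q.w (0, 0, 2) * g⁻¹ by simp, ← e]; group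
      calc g * Q.w (0, 0, 2) * g⁻¹ = - -(g * Q.w (0, 0, 2) * g⁻¹) := (neg_neg _).symm
        _ = -Q.w (0, 0, 2) := by rw [← e']
    rw [this]; exact negmem
  obtain ⟨v, hv, hvs⟩ := Q.exists_root hsN hs1 b1 b2
  obtain ⟨e0, he0⟩ : ∃ e0, e0 = bdU (Q.w2 v) (1 : (Hm 2 F)ˣ) := ⟨_, rfl⟩
  have hco : Commute (g * e0 * g⁻¹) (Q.w (0, 0, 2)) := by
    have h0 : e0 * (g⁻¹ * Q.w (0, 0, 2) * g) = (g⁻¹ * Q.w (0, 0, 2) * g) * e0 := by
      rw [hs, he0, bdU_mul, bdU_mul, hvs.eq, mul_one, one_mul]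
    show _ = _
    calc g * e0 * g⁻¹ * Q.w (0, 0, 2) = g * (e0 * (g⁻¹ * Q.w (0, 0, 2) * g)) * g⁻¹ := by group
      _ = g * ((g⁻¹ * Q.w (0, 0, 2) * g) * e0) * g⁻¹ := by rw [h0]
      _ = Q.w (0, 0, 2) * (g * e0 * g⁻¹) := by group
  obtain ⟨a, b, hab, haN, hbN, ⟨u, hu⟩⟩ :=
    H.split (mul_mem (mul_mem hg (he0 ▸ H.hN (Q.half_N8 v))) (inv_mem hg)) hco
  have hsq : bdU a b * bdU a b = -bdU r r' := by
    rw [← hab, ← he, show g * e0 * g⁻¹ * (g * e0 * g⁻¹) = g * (e0 * e0) * g⁻¹ by group,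
      show -(g * Q.w (0, 0, 2) * g⁻¹) = g * -Q.w (0, 0, 2) * g⁻¹ by simp, he0, bdU_mul, ← Q.w2_mul, hv, Q.w2_neg,
      Q.axis, bdU_neg, neg_neg, mul_one]
  rw [bdU_mul, bdU_neg] at hsq
  obtain ⟨ha2, hb2⟩ := bdU_inj hsq
  have hfix : (bdU a b : Hm 4 F) * (1 - (bdU r r' : Hm 4 F)) = 1 - (bdU r r' : Hm 4 F) := by
    rw [← hab, ← he]
    have e1 : (e0 : Hm 4 F) * (1 - (Q.w (0, 0, 2) : Hm 4 F)) = 1 - (Q.w (0, 0, 2) : Hm 4 F) := by
      rw [he0, Q.axis, bdU_val, bdU_val, sub_eq_add_neg, bd_neg, ← bd_one, bd_add, bd_mul, Units.val_one,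
        Units.val_neg, Units.val_one, add_neg_cancel, mul_zero, one_mul]
    simp only [Units.val_mul]
    have hgi : ((g⁻¹ : (Hm 4 F)ˣ) : Hm 4 F) * (g : Hm 4 F) = 1 := g.inv_mul
    have hgg : (g : Hm 4 F) * ((g⁻¹ : (Hm 4 F)ˣ) : Hm 4 F) = 1 := g.mul_inv
    have hsub : 1 - (g : Hm 4 F) * (Q.w (0, 0, 2) : Hm 4 F) * ((g⁻¹ : (Hm 4 F)ˣ) : Hm 4 F) =
        (g : Hm 4 F) * (1 - (Q.w (0, 0, 2) : Hm 4 F)) * ((g⁻¹ : (Hm 4 F)ˣ) : Hm 4 F) := by
      rw [mul_sub, sub_mul, mul_one, hgg]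
    rw [hsub, show ∀ A B C D : Hm 4 F, A * B * C * (A * D * C) = A * B * (C * A) * D * C from
      fun A B C D => by simp only [mul_assoc], hgi, mul_one, mul_assoc (g : Hm 4 F) (e0 : Hm 4 F), e1]
  rw [bdU_val, bdU_val, sub_eq_add_neg, bd_neg, ← bd_one, bd_add, bd_mul, ← sub_eq_add_neg, ← sub_eq_add_neg] at hfix
  obtain ⟨hfa, hfb⟩ := bd_inj hfix
  obtain ⟨k, hk, p, hp, -, huniq⟩ := Q.half_fixed haN h1 a1 a2 ha2 hfa
  obtain ⟨l, hl, q, hq, hql, -⟩ := Q.half_fixed hbN h1' a1' a2' hb2 hfb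
  have hpq : p = q := by
    have hab' : Q.Rel (Q.w2 u * b) q := by simpa using Quat.Rel.mul Q (Q.rel_word u) hq
    rw [show Q.w2 u * b = a by rw [hu]; group] at hab'
    exact Q.rel_unique hp hab'
  have hkl : l = k := huniq l (hpq ▸ hql)
  subst hkl
  rw [he]
  have w1 : bdU (Q.w2 (five l)) (Q.w2 (five l)) ∈ Q.R8 := ⟨_, Q.w_lift _⟩
  have w2' : bdU (Q.w2 (five l)) (-Q.w2 (five l)) ∈ Q.R8 := ⟨_, Q.w_liftz _⟩
  have neg_mem : ∀ {x : (Hm 4 F)ˣ}, x ∈ Q.R8 → -x ∈ Q.R8 := fun hx => by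
    rw [← neg_one_mul, ← Q.w_neg]; exact mul_mem (Q.w_mem _) hx
  rcases hk with rfl | rfl <;> rcases hl with rfl | rfl
  · exact w1
  · exact w2'
  · have := neg_mem w2'; rwa [bdU_neg, neg_neg] at this
  · have := neg_mem w1; rwa [bdU_neg] at this

/-- a conjugate of one noncentral involution centralising another lies in the group -/
theorem Over.fusion (H : Over Q M) {u v : W4} (hu : sing u = true) (hv : sing v = true) {g : (Hm 4 F)ˣ}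
    (hg : g ∈ M) (hc : Commute (g * Q.w u * g⁻¹) (Q.w v)) : g * Q.w u * g⁻¹ ∈ Q.R8 := by
  obtain ⟨a, ha, hau⟩ := Q.exists_to_point hu
  obtain ⟨b, hb, hbv⟩ := Q.exists_to_point hv
  have hm : b⁻¹ * g * a ∈ M := mul_mem (mul_mem (inv_mem (H.hN hb)) hg) (H.hN ha)
  have e : (b⁻¹ * g * a) * Q.w (0, 0, 2) * (b⁻¹ * g * a)⁻¹ = b⁻¹ * (g * Q.w u * g⁻¹) * b := by rw [← hau]; group
  have hcc : Commute ((b⁻¹ * g * a) * Q.w (0, 0, 2) * (b⁻¹ * g * a)⁻¹) (Q.w (0, 0, 2)) := by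
    rw [e]
    show _ = _
    have e2 := hc.eq
    rw [← hbv] at e2
    calc b⁻¹ * (g * Q.w u * g⁻¹) * b * Q.w (0, 0, 2) =
        b⁻¹ * (g * Q.w u * g⁻¹ * (b * Q.w (0, 0, 2) * b⁻¹)) * b := by group
      _ = b⁻¹ * (b * Q.w (0, 0, 2) * b⁻¹ * (g * Q.w u * g⁻¹)) * b := by rw [e2]
      _ = Q.w (0, 0, 2) * (b⁻¹ * (g * Q.w u * g⁻¹) * b) := by group
  have h := (Subgroup.mem_normalizer_iff.1 hb.1 _).1 (e ▸ H.fusion_axis hm hcc)
  rwa [show b * (b⁻¹ * (g * Q.w u * g⁻¹) * b) * b⁻¹ = g * Q.w u * g⁻¹ by group] at h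

end CfsgLib.MaxSub.SpEightSymp
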