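import Cfsg.Agent.Lib.MaxSub.SpEightSymp.Base

/-!
Monomial and integral quaternion matrices inside the isometries of the standard hermitian form.
-/

set_option autoImplicit false
set_option linter.unusedSectionVars false

namespace CfsgLib.MaxSub.SpEightSymp

open Matrix Module

/-- integral quaternions -/
abbrev Qz := QuaternionAlgebra ℤ (-1) 0 (-1)

instance : DecidableEq Qz := fun a b =>
  if h : a.re = b.re ∧ a.imI = b.imI ∧ a.imJ = b.imJ ∧ a.imK = b.imK then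
    .isTrue (by rcases a with ⟨_, _, _, _⟩; rcases b with ⟨_, _, _, _⟩; obtain ⟨h1, h2, h3, h4⟩ := h; simp_all)
  else .isFalse (fun e => h (by subst e; exact ⟨rfl, rfl, rfl, rfl⟩))

/-- conjugation -/
def qbar (x : Qz) : Qz := ⟨x.re, -x.imI, -x.imJ, -x.imK⟩

/-- the eight units -/
def q8 : Fin 8 → Qz :=
  ![⟨1, 0, 0, 0⟩, ⟨0, 1, 0, 0⟩, ⟨0, 0, 1, 0⟩, ⟨0, 0, 0, 1⟩, ⟨-1, 0, 0, 0⟩, ⟨0, -1, 0, 0⟩, ⟨0, 0, -1, 0⟩, ⟨0, 0, 0, -1⟩]

/-- multiplication table of the units -/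
def qm (a b : Fin 8) : Fin 8 :=
  ![![0, 1, 2, 3, 4, 5, 6, 7], ![1, 4, 3, 6, 5, 0, 7, 2], ![2, 7, 4, 1, 6, 3, 0, 5], ![3, 2, 5, 4, 7, 6, 1, 0],
    ![4, 5, 6, 7, 0, 1, 2, 3], ![5, 0, 7, 2, 1, 4, 3, 6], ![6, 3, 0, 5, 2, 7, 4, 1], ![7, 6, 1, 0, 3, 2, 5, 4]] a b

/-- inverse of a unit -/
def qi : Fin 8 → Fin 8 := ![0, 5, 6, 7, 4, 1, 2, 3]

theorem q8_mul : ∀ a b : Fin 8, q8 (qm a b) = q8 a * q8 b := by decide

theorem q8_qi : ∀ a : Fin 8, q8 (qi a) = qbar (q8 a) := by decide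

/-- two anticommuting square roots of `-1` -/
structure Quat (F : Type*) [Field F] where
  I : M2 F
  J : M2 F
  II : I * I = -1
  JJ : J * J = -1
  JI : J * I = -(I * J)
  two : (2 : F) ≠ 0

variable {F : Type*} [Field F] (Q : Quat F)

/-- the algebra basis -/
def Quat.basis : QuaternionAlgebra.Basis (M2 F) (-1 : ℤ) 0 (-1) where
  i := Q.I
  j := Q.J
  k := Q.I * Q.J
  i_mul_i := by simp [Q.II]
  j_mul_j := by simp [Q.JJ]
  i_mul_j := rfl
  j_mul_i := by simp [Q.JI]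

/-- the images of the integral quaternions -/
def Quat.ι : Qz →+* M2 F := Q.basis.liftHom.toRingHom

theorem Quat.ι_eq (x : Qz) :
    Q.ι x = (x.re : F) • (1 : M2 F) + (x.imI : F) • Q.I + (x.imJ : F) • Q.J + (x.imK : F) • (Q.I * Q.J) := by
  show Q.basis.lift x = _
  simp only [QuaternionAlgebra.Basis.lift, ← Int.cast_smul_eq_zsmul F, Algebra.algebraMap_eq_smul_one]
  rfl

theorem Quat.tr_det {X : M2 F} (hX : X * X = -1) {Y : M2 F} (hY : Y * X = -(X * Y)) (hY2 : Y * Y = -1)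
    (h2 : (2 : F) ≠ 0) : X 0 0 + X 1 1 = 0 ∧ X.adjugate = -X := by
  have ch : X * X = (X 0 0 + X 1 1) • X - X.det • (1 : M2 F) := by
    ext i j
    fin_cases i <;> fin_cases j <;> simp [Matrix.mul_apply, Fin.sum_univ_two, Matrix.det_fin_two] <;> ring
  have ht : X 0 0 + X 1 1 = 0 := by
    by_contra ht
    have hs : X = ((X.det - 1) / (X 0 0 + X 1 1)) • (1 : M2 F) := by
      rw [hX] at ch
      rw [div_eq_inv_mul, ← smul_smul, eq_inv_smul_iff₀ ht, sub_smul, one_smul]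
      linear_combination (norm := module) -ch
    rw [hs, smul_mul_assoc, one_mul, mul_smul_comm, mul_one, eq_neg_iff_add_eq_zero, ← add_smul,
      ← two_mul, smul_eq_zero] at hY
    rcases hY with h | h
    · have h0 : X = 0 := by rw [hs, (mul_eq_zero.1 h).resolve_left h2, zero_smul]
      rw [h0, mul_zero] at hX
      exact one_ne_zero (neg_eq_zero.1 hX.symm)
    · rw [h, mul_zero] at hY2
      exact one_ne_zero (neg_eq_zero.1 hY2.symm)
  refine ⟨ht, ?_⟩
  rw [adjugate_fin_two]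
  ext i j
  fin_cases i <;> fin_cases j <;> simp <;> linear_combination ht

theorem Quat.adj_I : Q.I.adjugate = -Q.I := (Quat.tr_det Q.II Q.JI Q.JJ Q.two).2

theorem Quat.adj_J : Q.J.adjugate = -Q.J :=
  (Quat.tr_det Q.JJ (by rw [Q.JI, neg_neg]) Q.II Q.two).2

theorem Quat.ι_bar (x : Qz) : Q.ι (qbar x) = (Q.ι x).adjugate := by
  have hk : (Q.I * Q.J).adjugate = -(Q.I * Q.J) := by
    rw [adjugate_mul_distrib, Q.adj_I, Q.adj_J, neg_mul_neg, Q.JI]
  simp only [Q.ι_eq, qbar, adj_add, adj_smul, adjugate_one, Q.adj_I, Q.adj_J, hk, Int.cast_neg, neg_smul, smul_neg]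

theorem Quat.coords {a b c d : F} (h : a • (1 : M2 F) + b • Q.I + c • Q.J + d • (Q.I * Q.J) = 0) :
    a = 0 ∧ b = 0 ∧ c = 0 ∧ d = 0 := by
  have r1 : ∀ X : M2 F, Q.I * (Q.I * X) = -X := fun X => by rw [← mul_assoc, Q.II, neg_one_mul]
  have r2 : ∀ X : M2 F, Q.J * (Q.J * X) = -X := fun X => by rw [← mul_assoc, Q.JJ, neg_one_mul]
  have r3 : ∀ X : M2 F, Q.J * (Q.I * X) = -(Q.I * (Q.J * X)) := fun X => by
    rw [← mul_assoc, Q.JI, neg_mul, mul_assoc]
  have e1 := congrArg (fun Z => Q.I * Z * -Q.I) h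
  have e2 := congrArg (fun Z => Q.J * Z * -Q.J) h
  have e3 := congrArg (fun Z => (Q.I * Q.J) * Z * -(Q.I * Q.J)) h
  simp only [mul_add, add_mul, smul_mul_assoc, mul_smul_comm, mul_neg, neg_mul, one_mul, mul_one, mul_zero, zero_mul,
    smul_neg, neg_neg, neg_zero, mul_assoc, Q.II, Q.JJ, Q.JI, r1, r2, r3] at e1 e2 e3
  have h4 : (4 : F) ≠ 0 := by
    rw [show (4 : F) = 2 * 2 by norm_num]; exact mul_ne_zero Q.two Q.two
  have n1 : (1 : M2 F) ≠ 0 := one_ne_zero
  have nI : Q.I ≠ 0 := fun e => one_ne_zero (neg_eq_zero.1 (Q.II.symm.trans (by rw [e, mul_zero])))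
  have nJ : Q.J ≠ 0 := fun e => one_ne_zero (neg_eq_zero.1 (Q.JJ.symm.trans (by rw [e, mul_zero])))
  have nK : Q.I * Q.J ≠ 0 := fun e => nJ (neg_eq_zero.1 ((r1 Q.J).symm.trans (by rw [e, mul_zero])))
  refine ⟨?_, ?_, ?_, ?_⟩
  · exact (mul_eq_zero.1 ((smul_eq_zero.1 (show (4 * a) • (1 : M2 F) = 0 by
      linear_combination (norm := module) h + e1 + e2 + e3)).resolve_right n1)).resolve_left h4
  · exact (mul_eq_zero.1 ((smul_eq_zero.1 (show (4 * b) • Q.I = 0 by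
      linear_combination (norm := module) h + e1 - e2 - e3)).resolve_right nI)).resolve_left h4
  · exact (mul_eq_zero.1 ((smul_eq_zero.1 (show (4 * c) • Q.J = 0 by
      linear_combination (norm := module) h - e1 + e2 - e3)).resolve_right nJ)).resolve_left h4
  · exact (mul_eq_zero.1 ((smul_eq_zero.1 (show (4 * d) • (Q.I * Q.J) = 0 by
      linear_combination (norm := module) h - e1 - e2 + e3)).resolve_right nK)).resolve_left h4

theorem Quat.ι_eq_zero {x : Qz} (h : Q.ι x = 0) :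
    (x.re : F) = 0 ∧ (x.imI : F) = 0 ∧ (x.imJ : F) = 0 ∧ (x.imK : F) = 0 :=
  Q.coords (by rw [← Q.ι_eq]; exact h)

/-- the value of a unit -/
def Quat.u (a : Fin 8) : M2 F := Q.ι (q8 a)

theorem Quat.u_mul (a b : Fin 8) : Q.u (qm a b) = Q.u a * Q.u b := by
  rw [Quat.u, q8_mul, map_mul]; rfl

theorem Quat.u_inj : Function.Injective Q.u := by
  intro a b h
  have h' : Q.ι (q8 a - q8 b) = 0 := by rw [map_sub]; exact sub_eq_zero.2 h
  obtain ⟨e1, e2, e3, e4⟩ := Q.ι_eq_zero h'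
  have h2 := Q.two
  have key : ∀ a b : Fin 8, a = b ∨ ((q8 a - q8 b).re ∈ ([1, -1, 2, -2] : List ℤ) ∨
      (q8 a - q8 b).imI ∈ ([1, -1, 2, -2] : List ℤ) ∨ (q8 a - q8 b).imJ ∈ ([1, -1, 2, -2] : List ℤ) ∨
      (q8 a - q8 b).imK ∈ ([1, -1, 2, -2] : List ℤ)) := by decide
  have ne : ∀ z : ℤ, z ∈ ([1, -1, 2, -2] : List ℤ) → (z : F) ≠ 0 := by
    intro z hz
    simp only [List.mem_cons, List.mem_nil_iff, or_false] at hz
    rcases hz with rfl | rfl | rfl | rfl <;> simp [h2]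
  rcases key a b with k | k | k | k | k
  · exact k
  · exact absurd e1 (ne _ k)
  · exact absurd e2 (ne _ k)
  · exact absurd e3 (ne _ k)
  · exact absurd e4 (ne _ k)

theorem Quat.exists_coords (X : M2 F) :
    ∃ a b c d : F, X = a • (1 : M2 F) + b • Q.I + c • Q.J + d • (Q.I * Q.J) := by
  have hli : LinearIndependent F ![(1 : M2 F), Q.I, Q.J, Q.I * Q.J] := by
    rw [Fintype.linearIndependent_iff]
    intro g hg
    simp only [Fin.sum_univ_four, Matrix.cons_val] at hg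
    obtain ⟨h1, h2, h3, h4⟩ := Q.coords hg
    intro i; fin_cases i <;> assumption
  have htop := hli.span_eq_top_of_card_eq_finrank' (by simp [Module.finrank_matrix])
  have hX : X ∈ Submodule.span F (Set.range ![(1 : M2 F), Q.I, Q.J, Q.I * Q.J]) := by rw [htop]; trivial
  obtain ⟨g, rfl⟩ := (Submodule.mem_span_range_iff_exists_fun F).1 hX
  exact ⟨g 0, g 1, g 2, g 3, by simp [Fin.sum_univ_four]⟩

theorem Quat.scalar_of_commute {X : M2 F} (hI : X * Q.I = Q.I * X) (hJ : X * Q.J = Q.J * X) :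
    ∃ a : F, X = a • (1 : M2 F) := by
  obtain ⟨a, b, c, d, rfl⟩ := Q.exists_coords X
  have r1 : ∀ X : M2 F, Q.I * (Q.I * X) = -X := fun X => by rw [← mul_assoc, Q.II, neg_one_mul]
  have r2 : ∀ X : M2 F, Q.J * (Q.J * X) = -X := fun X => by rw [← mul_assoc, Q.JJ, neg_one_mul]
  have r3 : ∀ X : M2 F, Q.J * (Q.I * X) = -(Q.I * (Q.J * X)) := fun X => by
    rw [← mul_assoc, Q.JI, neg_mul, mul_assoc]
  simp only [add_mul, mul_add, smul_mul_assoc, mul_smul_comm, one_mul, mul_one, mul_assoc, Q.II, Q.JJ, Q.JI,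
    r1, r2, r3, mul_neg] at hI hJ
  obtain ⟨-, -, hd, hc⟩ := Q.coords (a := 0) (b := 0) (c := 2 * d) (d := -(2 * c))
    (by linear_combination (norm := module) hI)
  obtain ⟨-, hd', -, hb⟩ := Q.coords (a := 0) (b := -(2 * d)) (c := 0) (d := 2 * b)
    (by linear_combination (norm := module) hJ)
  rw [(mul_eq_zero.1 hb).resolve_left Q.two, (mul_eq_zero.1 hd).resolve_left Q.two,
    (mul_eq_zero.1 (neg_eq_zero.1 hc)).resolve_left Q.two]
  exact ⟨a, by simp⟩

/-- integral matrices -/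
abbrev Zm (n : ℕ) := Matrix (Fin n) (Fin n) Qz

/-- their images -/
def Quat.cast (n : ℕ) : Zm n →+* Hm n F := Q.ι.mapMatrix

theorem Quat.cast_apply {n : ℕ} (m : Zm n) (i j : Fin n) : Q.cast n m i j = Q.ι (m i j) := rfl

/-- adjoint of an integral matrix -/
def zst {n : ℕ} (m : Zm n) : Zm n := m.transpose.map qbar

theorem Quat.cast_zst {n : ℕ} (m : Zm n) : Q.cast n (zst m) = hst (Q.cast n m) := by
  refine Matrix.ext fun i j => ?_
  rw [hst_apply, Q.cast_apply, Q.cast_apply, ← Q.ι_bar]; rfl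

/-- monomial matrices with unit entries -/
structure Mn (n : ℕ) where
  p : Fin n → Fin n
  c : Fin n → Fin 8

instance {n : ℕ} : DecidableEq (Mn n) := fun a b =>
  decidable_of_iff (a.p = b.p ∧ a.c = b.c)
    ⟨fun h => by cases a; cases b; simp_all, fun h => by subst h; exact ⟨rfl, rfl⟩⟩

/-- product -/
def Mn.mul {n : ℕ} (a b : Mn n) : Mn n := ⟨fun x => b.p (a.p x), fun x => qm (a.c x) (b.c (a.p x))⟩

/-- identity -/
def Mn.one (n : ℕ) : Mn n := ⟨id, fun _ => 0⟩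

/-- the negative of the identity -/
def Mn.negOne (n : ℕ) : Mn n := ⟨id, fun _ => 4⟩

/-- matrix -/
def Quat.mo {n : ℕ} (a : Mn n) : Hm n F := Matrix.of fun x y => if a.p x = y then Q.u (a.c x) else 0

/-- integral matrix of a monomial -/
def Mn.z {n : ℕ} (a : Mn n) : Zm n := Matrix.of fun x y => if a.p x = y then q8 (a.c x) else 0

theorem Quat.cast_z {n : ℕ} (a : Mn n) : Q.cast n a.z = Q.mo a := by
  refine Matrix.ext fun i j => ?_
  show Q.ι _ = _
  simp only [Mn.z, Quat.mo, Matrix.of_apply, apply_ite Q.ι, map_zero]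
  rfl

theorem Quat.mo_mul {n : ℕ} (a b : Mn n) : Q.mo (a.mul b) = Q.mo a * Q.mo b := by
  refine Matrix.ext fun i j => ?_
  rw [Matrix.mul_apply, Finset.sum_eq_single (a.p i) (fun k _ hk => by simp [Quat.mo, Ne.symm hk]) (by simp)]
  simp [Quat.mo, Mn.mul, Quat.u_mul]

theorem Quat.u_zero : Q.u 0 = 1 := by
  rw [Quat.u, show q8 0 = 1 from rfl, map_one]

theorem Quat.u_four : Q.u 4 = -1 := by
  rw [Quat.u, show q8 4 = -1 from rfl, map_neg, map_one]

theorem Quat.mo_one (n : ℕ) : Q.mo (Mn.one n) = 1 := by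
  refine Matrix.ext fun i j => ?_
  simp [Quat.mo, Mn.one, Q.u_zero, Matrix.one_apply]

theorem Quat.mo_negOne (n : ℕ) : Q.mo (Mn.negOne n) = -1 := by
  refine Matrix.ext fun i j => ?_
  simp only [Quat.mo, Mn.negOne, Q.u_four, Matrix.of_apply, id, Matrix.neg_apply, Matrix.one_apply]
  split <;> simp

theorem Quat.u_ne {a : Fin 8} : Q.u a ≠ 0 := by
  intro h
  have : Q.u a * Q.u (qi a) = 1 := by
    rw [← Q.u_mul, show qm a (qi a) = 0 by revert a; intro a _; fin_cases a <;> rfl, Q.u_zero]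
  rw [h, zero_mul] at this
  exact zero_ne_one this

theorem Quat.mo_inj {n : ℕ} {a b : Mn n} (h : Q.mo a = Q.mo b) : a = b := by
  have hp : a.p = b.p := funext fun x => by
    by_contra hne
    have h' := congrFun (congrFun h x) (a.p x)
    simp [Quat.mo, Ne.symm hne, Q.u_ne] at h'
  have hc : a.c = b.c := funext fun x => Q.u_inj (by
    have h' := congrFun (congrFun h x) (a.p x)
    simpa [Quat.mo, hp] using h')
  cases a; cases b; simp_all

/-- adjoint pair of monomials -/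
def Mn.Inv {n : ℕ} (a b : Mn n) : Prop :=
  ∀ x, b.p (a.p x) = x ∧ a.p (b.p x) = x ∧ b.c (a.p x) = qi (a.c x)

instance {n : ℕ} (a b : Mn n) : Decidable (a.Inv b) := by unfold Mn.Inv; infer_instance

theorem Quat.hst_mo {n : ℕ} {a b : Mn n} (h : a.Inv b) : hst (Q.mo a) = Q.mo b := by
  refine Matrix.ext fun i j => ?_
  simp only [hst_apply, Quat.mo, Matrix.of_apply]
  by_cases hj : a.p j = i
  · subst hj
    rw [if_pos rfl, if_pos (h j).1, (h j).2.2, Quat.u, Quat.u, q8_qi, Q.ι_bar]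
  · rw [if_neg hj, if_neg (fun e => hj (by rw [← e]; exact (h i).2.1)), adjugate_fin_two]
    ext r s; fin_cases r <;> fin_cases s <;> simp

theorem qm_qi : ∀ a : Fin 8, qm a (qi a) = 0 ∧ qm (qi a) a = 0 := by decide

/-- a monomial as a unit -/
def Quat.mu {n : ℕ} (a b : Mn n) (h : a.Inv b) : (Hm n F)ˣ where
  val := Q.mo a
  inv := Q.mo b
  val_inv := by
    rw [← Q.mo_mul, ← Q.mo_one]
    congr 1
    simp only [Mn.mul, Mn.one, Mn.mk.injEq]
    exact ⟨funext fun x => (h x).1, funext fun x => by rw [(h x).2.2, (qm_qi _).1]⟩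
  inv_val := by
    rw [← Q.mo_mul, ← Q.mo_one]
    congr 1
    simp only [Mn.mul, Mn.one, Mn.mk.injEq]
    refine ⟨funext fun x => (h x).2.1, funext fun x => ?_⟩
    have := (h (b.p x)).2.2
    rw [(h x).2.1] at this
    rw [this, (qm_qi _).2]

theorem Quat.mu_iso {n : ℕ} (a b : Mn n) (h : a.Inv b) : Q.mu a b h ∈ Iso n F := by
  show hst (Q.mo a) * Q.mo a = 1
  rw [Q.hst_mo h]
  exact (Q.mu a b h).inv_mul

end CfsgLib.MaxSub.SpEightSymp
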