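import Cfsg.Agent.Lib.MaxSub.SpEightSymp.Fusion
import Cfsg.Agent.Lib.MaxSub.Rational

/-!
An involution of a proper overgroup with a two-dimensional negated space fixes, for each noncentral
involution of the group, one of its planes.
-/

set_option autoImplicit false
set_option linter.unusedSectionVars false
set_option linter.style.haveILetI false

namespace CfsgLib.MaxSub.SpEightSymp

open Matrix Module
open scoped MatrixGroups

variable {F : Type*} [Field F] [Fintype F] {Q : Quat F}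

/-- an involution negating exactly a plane -/
def IsRefl (u : (Hm 4 F)ˣ) : Prop :=
  u ∈ Iso 4 F ∧ u * u = 1 ∧ finrank F (rg ((1 : Hm 4 F) - (u : Hm 4 F))) = 2

theorem rg_unit_right (X : Hm 4 F) (g : (Hm 4 F)ˣ) : rg (X * (g : Hm 4 F)) = rg X := by
  refine le_antisymm (rg_mul_le _ _) ?_
  have := rg_mul_le (X * (g : Hm 4 F)) ((g⁻¹ : (Hm 4 F)ˣ) : Hm 4 F)
  rwa [mul_assoc, Units.mul_inv, mul_one] at this

theorem finrank_rg_conj (g : (Hm 4 F)ˣ) (X : Hm 4 F) :
    finrank F (rg ((g : Hm 4 F) * X * ((g⁻¹ : (Hm 4 F)ˣ) : Hm 4 F))) = finrank F (rg X) := by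
  rw [rg_unit_right, rg, map_mul, Matrix.toLin'_mul, LinearMap.range_comp]
  have hinj : Function.Injective (Matrix.toLin' (big 4 F (g : Hm 4 F))) := by
    intro a b h
    rw [toLin'_apply, toLin'_apply] at h
    have e := congrArg (fun v => big 4 F ((g⁻¹ : (Hm 4 F)ˣ) : Hm 4 F) *ᵥ v) h
    simpa [mulVec_mulVec, ← map_mul] using e
  exact ((Submodule.equivMapOfInjective _ hinj _).finrank_eq).symm

theorem IsRefl.conj {u g : (Hm 4 F)ˣ} (hu : IsRefl u) (hg : g ∈ Iso 4 F) : IsRefl (g * u * g⁻¹) := by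
  refine ⟨mul_mem (mul_mem hg hu.1) (inv_mem hg), ?_, ?_⟩
  · rw [show g * u * g⁻¹ * (g * u * g⁻¹) = g * (u * u) * g⁻¹ by group, hu.2.1, mul_one, mul_inv_cancel]
  · have h := finrank_rg_conj g ((1 : Hm 4 F) - (u : Hm 4 F))
    rw [mul_sub, sub_mul, mul_one, Units.mul_inv, ← Units.val_mul, ← Units.val_mul, hu.2.2] at h
    exact h

theorem idem_trace {n : ℕ} {P : Hm n F} (hpp : P * P = P) : trH P = (finrank F (rg P) : F) := by
  have hproj : LinearMap.IsProj (rg P) (Matrix.toLin' (big n F P)) :=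
    ⟨fun v => ⟨v, rfl⟩, fun v hv => by rw [toLin'_apply]; exact (mem_rg_idem hpp).1 hv⟩
  rw [trH_eq, ← Matrix.trace_toLin'_eq, hproj.trace]

theorem trH_smul {n : ℕ} (c : F) (X : Hm n F) : trH (c • X) = c * trH X := by
  rw [trH_eq, trH_eq, big_smul, Matrix.trace_smul, smul_eq_mul]

theorem trH_add {n : ℕ} (X Y : Hm n F) : trH (X + Y) = trH X + trH Y := by
  rw [trH_eq, trH_eq, trH_eq, map_add, Matrix.trace_add]

theorem rg_smul (c : F) (hc : c ≠ 0) (X : Hm 4 F) : rg (c • X) = rg X := by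
  rw [rg, big_smul, map_smul, LinearMap.range_smul _ _ hc]

theorem IsRefl.trace (h2 : (2 : F) ≠ 0) {u : (Hm 4 F)ˣ} (hu : IsRefl u) : trH (u : Hm 4 F) = 4 := by
  have hm : (-(u : Hm 4 F)) * (-(u : Hm 4 F)) = 1 := by rw [neg_mul_neg, ← Units.val_mul, hu.2.1, Units.val_one]
  have h := idem_trace (proj_idem h2 hm)
  rw [← sub_eq_add_neg, rg_smul _ (inv_ne_zero h2), hu.2.2, trH_smul, sub_eq_add_neg, trH_add, trH_neg, trH_one] at h
  push_cast at h
  field_simp at h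
  linear_combination -h

theorem finrank_axis (Q : Quat F) : finrank F (rg ((1 : Hm 4 F) - (Q.w (0, 0, 2) : Hm 4 F))) = 4 := by
  have h := (halves_decomp (Q := Q)).decomp.finrank_eq 1
  have e : rg ((1 : Hm 4 F) - (Q.w (0, 0, 2) : Hm 4 F)) = halves Q 1 := by
    refine le_antisymm ?_ fun v hv => ?_
    · rintro _ ⟨x, rfl⟩
      show _ ∈ fixd (-(Q.w (0, 0, 2) : Hm 4 F))
      rw [mem_halves_one, toLin'_apply, mulVec_mulVec, ← map_mul, mul_sub, mul_one, axis_sq, ← neg_mulVec, ← map_neg, neg_sub]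
    · have hv' := mem_halves_one.1 hv
      refine ⟨(2 : F)⁻¹ • v, ?_⟩
      rw [toLin'_apply, mulVec_smul, map_sub, map_one, sub_mulVec, one_mulVec, hv', sub_neg_eq_add, ← two_smul F,
        smul_smul, inv_mul_cancel₀ Q.two, one_smul]
  rw [e]; exact h

/-- properties of noncentral involutions as matrices -/
theorem sing_iff {v : W4} : sing v = true ↔ Q.w v * Q.w v = 1 ∧ Q.w v ≠ 1 ∧ Q.w v ≠ -1 := by
  rw [← Q.w_neg, ← Q.w_mul, ← Q.w_one, Q.w_inj.eq_iff, Q.w_inj.ne_iff, Q.w_inj.ne_iff, sing, decide_eq_true_iff]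

theorem wcomm_iff {v w : W4} : wcomm v w = true ↔ Commute (Q.w v) (Q.w w) := by
  rw [wcomm, decide_eq_true_iff]
  show _ ↔ _ = _
  rw [← Q.w_mul, ← Q.w_mul, Q.w_inj.eq_iff]

theorem finrank_inf_ge {A B : Submodule F (Vec 4 F)} : finrank F A + finrank F B ≤ 8 + finrank F (A ⊓ B : Submodule F (Vec 4 F)) := by
  have h := Submodule.finrank_sup_add_finrank_inf_eq A B
  have h' := Submodule.finrank_le (A ⊔ B)
  rw [finrank_vec] at h'
  omega

theorem finrank_fixd (u : Hm 4 F) : finrank F (fixd u) + finrank F (rg ((1 : Hm 4 F) - u)) = 8 := by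
  have h := LinearMap.finrank_range_add_finrank_ker (Matrix.toLin' (big 4 F (u - 1)))
  rw [finrank_vec] at h
  have e : rg ((1 : Hm 4 F) - u) = rg (u - 1) := by
    rw [← neg_sub, rg, map_neg, map_neg, LinearMap.range_neg]
  rw [e]
  change finrank F (rg (u - 1)) + finrank F (fixd u) = _ at h
  omega

theorem refl_case_split {a b : (Hm 2 F)ˣ} (h2 : (2 : F) ≠ 0) (ha : a ∈ Iso 2 F) (hb : b ∈ Iso 2 F)
    (ha2 : a * a = 1) (hb2 : b * b = 1) (h : trH (a : Hm 2 F) + trH (b : Hm 2 F) = 4) (hne : ¬ (a = -1 ∧ b = -1)) :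
    (a = 1 ∧ b ≠ 1 ∧ b ≠ -1) ∨ (b = 1 ∧ a ≠ 1 ∧ a ≠ -1) := by
  have h4 : (4 : F) ≠ 0 := by rw [show (4 : F) = 2 * 2 by norm_num]; exact mul_ne_zero h2 h2
  have h8 : (8 : F) ≠ 0 := by rw [show (8 : F) = 4 * 2 by norm_num]; exact mul_ne_zero h4 h2
  have val : ∀ s : (Hm 2 F)ˣ, s ∈ Iso 2 F → s * s = 1 →
      (s = 1 ∧ trH (s : Hm 2 F) = 4) ∨ (s = -1 ∧ trH (s : Hm 2 F) = -4) ∨ (s ≠ 1 ∧ s ≠ -1 ∧ trH (s : Hm 2 F) = 0) := by
    intro s hs hs2
    by_cases e1 : s = 1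
    · exact Or.inl ⟨e1, by rw [e1, Units.val_one, trH_one]; norm_num⟩
    by_cases e2 : s = -1
    · exact Or.inr (Or.inl ⟨e2, by rw [e2, Units.val_neg, Units.val_one, trH_neg, trH_one]; norm_num⟩)
    exact Or.inr (Or.inr ⟨e1, e2, trH_invol h2 hs hs2 e1 e2⟩)
  rcases val a ha ha2 with ⟨ea, ta⟩ | ⟨ea, ta⟩ | ⟨ea, ea', ta⟩ <;>
    rcases val b hb hb2 with ⟨eb, tb⟩ | ⟨eb, tb⟩ | ⟨eb, eb', tb⟩ <;> rw [ta, tb] at h
  · exact absurd (by linear_combination h) h4
  · exact absurd (by linear_combination -h) h4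
  · exact Or.inl ⟨ea, eb, eb'⟩
  · exact absurd (by linear_combination -h) h4
  · exact absurd ⟨ea, eb⟩ hne
  · exact absurd (by linear_combination -h) h8
  · exact Or.inr ⟨eb, ea, ea'⟩
  · exact absurd (by linear_combination -h) h8
  · exact absurd (by linear_combination -h) h4

variable {M : Subgroup (Hm 4 F)ˣ}

/-- the element of an eigenplane -/
def planeM (Q : Quat F) (e : Bool) (v : W4) (z : W4) : Hm 4 F :=
  (1 + (if e then (-1 : F) else 1) • (Q.w z : Hm 4 F)) * (1 + (Q.w v : Hm 4 F))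

/-- one of the halves yields a fixed plane -/
theorem half_case {u : (Hm 4 F)ˣ} (hu : IsRefl u) {j : (Hm 4 F)ˣ} (hj : j ∈ Subgroup.zpowers (Q.w (0, 0, 2) * u))
    (e : Bool) {v : W2} (hv : Q.w2 v ≠ 1 ∧ Q.w2 v ≠ -1 ∧ Q.w2 v * Q.w2 v = 1) {δ : F}
    (hδ : δ = 1 ∨ δ = -1)
    (hjs : (j : Hm 4 F) * (1 + (if e then (-1 : F) else 1) • (Q.w (0, 0, 2) : Hm 4 F)) =
      δ • ((Q.w (lift2 v) : Hm 4 F) * (1 + (if e then (-1 : F) else 1) • (Q.w (0, 0, 2) : Hm 4 F)))) :
    ∃ w : W4, sing w = true ∧ wcomm w (0, 0, 2) = true ∧ w ≠ (0, 0, 2) ∧ w ≠ (4, 0, 2) ∧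
      (u : Hm 4 F) * planeM Q e w (0, 0, 2) = planeM Q e w (0, 0, 2) := by
  obtain ⟨c, hc, hc1⟩ : ∃ c : F, c = (if e then (-1 : F) else 1) ∧ c * c = 1 :=
    ⟨_, rfl, by cases e <;> simp⟩
  rw [← hc] at hjs
  set Z := (Q.w (0, 0, 2) : Hm 4 F) with hZ
  have hZ2 : Z * Z = 1 := axis_sq
  obtain ⟨T, hT⟩ : ∃ T, T = fixd (c • Z) ⊓ fixd (u : Hm 4 F) := ⟨_, rfl⟩
  have hdimZ : finrank F (fixd (c • Z)) = 4 := by
    have h0 := (halves_decomp (Q := Q)).decomp.finrank_eq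
    rcases mul_self_eq_one_iff.1 hc1 with rfl | rfl
    · rw [one_smul]; exact h0 0
    · rw [neg_one_smul]; exact h0 1
  have hdimu : finrank F (fixd (u : Hm 4 F)) = 6 := by
    have := finrank_fixd (u : Hm 4 F)
    rw [hu.2.2] at this; omega
  have hT2 : 2 ≤ finrank F T := by
    have := finrank_inf_ge (A := fixd (c • Z)) (B := fixd (u : Hm 4 F))
    rw [← hT, hdimZ, hdimu] at this; omega
  have hzT : ∀ x ∈ T, big 4 F Z *ᵥ x = c • x := fun x hx => by
    have h := mem_fixd.1 (hT ▸ hx : x ∈ fixd (c • Z) ⊓ fixd (u : Hm 4 F)).1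
    rw [big_smul, smul_mulVec] at h
    conv_rhs => rw [← h, smul_smul, hc1, one_smul]
  have huT : ∀ x ∈ T, big 4 F (u : Hm 4 F) *ᵥ x = x := fun x hx =>
    mem_fixd.1 (hT ▸ hx : x ∈ fixd (c • Z) ⊓ fixd (u : Hm 4 F)).2
  obtain ⟨η, hη, hjT⟩ : ∃ η : F, (η = 1 ∨ η = -1) ∧ ∀ x ∈ T, big 4 F (j : Hm 4 F) *ᵥ x = η • x := by
    obtain ⟨k, rfl⟩ := hj
    have hzu : ∀ x ∈ T, big 4 F ((Q.w (0, 0, 2) * u : (Hm 4 F)ˣ) : Hm 4 F) *ᵥ x = c • x := fun x hx => by
      rw [Units.val_mul, map_mul, ← mulVec_mulVec, huT x hx, ← hZ, hzT x hx]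
    clear hjs
    induction k using Int.induction_on with
    | zero => exact ⟨1, Or.inl rfl, fun x _ => by simp⟩
    | succ n ih =>
      obtain ⟨η, hη, h⟩ := ih
      refine ⟨η * c, ?_, fun x hx => ?_⟩
      · rcases hη with rfl | rfl <;> rcases mul_self_eq_one_iff.1 hc1 with rfl | rfl <;> simp
      · dsimp only
        rw [_root_.zpow_add_one, Units.val_mul, map_mul, ← mulVec_mulVec, hzu x hx, mulVec_smul, h x hx, smul_smul, mul_comm c]
    | pred n ih =>
      obtain ⟨η, hη, h⟩ := ih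
      refine ⟨η * c, ?_, fun x hx => ?_⟩
      · rcases hη with rfl | rfl <;> rcases mul_self_eq_one_iff.1 hc1 with rfl | rfl <;> simp
      · have hinv : big 4 F (((Q.w (0, 0, 2) * u)⁻¹ : (Hm 4 F)ˣ) : Hm 4 F) *ᵥ x = c • x := by
          have e1 := congrArg (fun y => c • big 4 F (((Q.w (0, 0, 2) * u)⁻¹ : (Hm 4 F)ˣ) : Hm 4 F) *ᵥ y) (hzu x hx)
          simp only [mulVec_mulVec, ← map_mul, Units.inv_mul, map_one, one_mulVec, mulVec_smul, smul_smul, hc1,
            one_smul] at e1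
          exact e1.symm
        dsimp only
        rw [_root_.zpow_sub_one, Units.val_mul, map_mul, ← mulVec_mulVec, hinv, mulVec_smul, h x hx, smul_smul, mul_comm c]
  obtain ⟨s, hs⟩ : ∃ s, s = (δ * η) • (Q.w (lift2 v) : Hm 4 F) := ⟨_, rfl⟩
  obtain ⟨w, hw⟩ : ∃ w, (Q.w w : Hm 4 F) = s := by
    have : δ * η = 1 ∨ δ * η = -1 := by rcases hδ with rfl | rfl <;> rcases hη with rfl | rfl <;> simp
    rcases this with e | e
    · exact ⟨lift2 v, by rw [hs, e, one_smul]⟩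
    · exact ⟨wmul (4, 0, 0) (lift2 v), by rw [hs, e, neg_one_smul, Q.w_mul, Q.w_neg, neg_one_mul, Units.val_neg]⟩
  have hww : Q.w w = Q.w (lift2 v) ∨ Q.w w = -Q.w (lift2 v) := by
    rcases hδ with rfl | rfl <;> rcases hη with rfl | rfl <;>
      simp only [mul_neg, mul_one, neg_neg, one_smul, neg_smul] at hs <;>
      first | exact Or.inl (Units.ext (hw.trans hs)) | exact Or.inr (Units.ext (by rw [hw, hs, Units.val_neg]))
  have hne : Q.w w ≠ 1 ∧ Q.w w ≠ -1 ∧ Q.w w ≠ Q.w (0, 0, 2) ∧ Q.w w ≠ -Q.w (0, 0, 2) := by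
    have one : (1 : (Hm 4 F)ˣ) = bdU 1 1 := bdU_one.symm
    rw [one, bdU_neg, Q.axis, bdU_neg, neg_neg]
    have h20 : (1 : (Hm 2 F)ˣ) ≠ -1 := fun h => by
      have := Q.w2_inj ((Q.w2_one.trans h).trans Q.w2_neg.symm); simp at this
    rcases hww with h | h <;> rw [h, Q.w_lift]
    · exact ⟨fun e' => hv.1 (bdU_inj e').1, fun e' => hv.2.1 (bdU_inj e').1, fun e' => hv.1 (bdU_inj e').1,
        fun e' => hv.2.1 (bdU_inj e').1⟩
    · rw [bdU_neg]
      exact ⟨fun e' => hv.2.1 (neg_eq_iff_eq_neg.1 (bdU_inj e').1), fun e' => hv.1 (neg_inj.1 (bdU_inj e').1),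
        fun e' => hv.2.1 (neg_eq_iff_eq_neg.1 (bdU_inj e').1), fun e' => hv.1 (neg_inj.1 (bdU_inj e').1)⟩
  have hsq : Q.w w * Q.w w = 1 := by
    rcases hww with h | h <;> simp [h, Q.w_lift, bdU_mul, hv.2.2, bdU_one]
  have hcz : Commute (Q.w w) (Q.w (0, 0, 2)) := by
    have : Commute (Q.w (lift2 v)) (Q.w (0, 0, 2)) := by
      show _ = _; rw [Q.w_lift, Q.axis, bdU_mul, bdU_mul]; simp
    rcases hww with h | h <;> rw [h]
    · exact this
    · exact this.neg_left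
  refine ⟨w, sing_iff.2 ⟨hsq, hne.1, hne.2.1⟩, (wcomm_iff (Q := Q)).2 hcz, fun e' => hne.2.2.1 (by rw [e']),
    fun e' => hne.2.2.2 (by rw [e', show ((4, 0, 2) : W4) = wmul (4, 0, 0) (0, 0, 2) by decide, Q.w_mul, Q.w_neg, neg_one_mul]), ?_⟩
  have hsm : planeM Q e w (0, 0, 2) = (1 + c • Z) * (1 + s) := by rw [planeM, hw, hc]
  rw [hsm]
  obtain ⟨P, hP⟩ : ∃ P, P = (4 : F)⁻¹ • ((1 + c • Z) * (1 + s)) := ⟨_, rfl⟩
  have h2 := Q.two
  have h4 : (4 : F) ≠ 0 := by rw [show (4 : F) = 2 * 2 by norm_num]; exact mul_ne_zero h2 h2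
  have hss : s * s = 1 := by rw [← hw, ← Units.val_mul, hsq, Units.val_one]
  have hsZ : s * Z = Z * s := by rw [← hw, hZ, ← Units.val_mul, hcz.eq, Units.val_mul]
  have hcc : (c • Z) * (c • Z) = 1 := by rw [smul_mul_smul_comm, hc1, hZ2, one_smul]
  have hcs : s * (c • Z) = (c • Z) * s := by rw [mul_smul_comm, smul_mul_assoc, hsZ]
  have hPP : P * P = P := by
    have hcm : (1 + s) * (1 + c • Z) = (1 + c • Z) * (1 + s) := by
      simp only [add_mul, mul_add, one_mul, mul_one, hcs]; abel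
    have e1 : (1 + c • Z) * (1 + c • Z) = (2 : F) • (1 + c • Z) := by
      simp only [add_mul, mul_add, one_mul, mul_one, hcc]; module
    have e2 : (1 + s) * (1 + s) = (2 : F) • (1 + s) := by
      simp only [add_mul, mul_add, one_mul, mul_one, hss]; module
    rw [hP, smul_mul_smul_comm, mul_assoc, ← mul_assoc (1 + s), hcm, mul_assoc (1 + c • Z) (1 + s), e2, ← mul_assoc, e1,
      smul_mul_assoc, mul_smul_comm, smul_smul, smul_smul]
    congr 1
    field_simp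
    norm_num
  have hTP : T ≤ rg P := fun x hx => (mem_rg_idem hPP).2 (by
    have hsx : big 4 F s *ᵥ x = x := by
      have hj' := congrArg (fun X => big 4 F X *ᵥ x) hjs
      simp only [big_smul, map_mul, map_add, map_one, ← mulVec_mulVec, add_mulVec, one_mulVec, smul_mulVec,
        hzT x hx, smul_smul, hc1, one_smul, mulVec_add, hjT x hx] at hj'
      rw [hs, big_smul, smul_mulVec]
      have h' : (2 : F) • (η • x) = (2 : F) • (δ • (big 4 F (Q.w (lift2 v) : Hm 4 F) *ᵥ x)) := by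
        linear_combination (norm := module) hj'
      rw [mul_comm, ← smul_smul, ← smul_right_injective _ h2 h', smul_smul]
      rcases hη with rfl | rfl <;> simp
    have e2 : big 4 F (1 + s) *ᵥ x = (2 : F) • x := by
      rw [map_add, map_one, add_mulVec, one_mulVec, hsx, two_smul]
    have e3 : big 4 F (1 + c • Z) *ᵥ x = (2 : F) • x := by
      rw [map_add, map_one, add_mulVec, one_mulVec, big_smul, smul_mulVec, hzT x hx, smul_smul, hc1, one_smul, two_smul]
    rw [hP, big_smul, smul_mulVec, map_mul, ← mulVec_mulVec, e2, mulVec_smul, e3, smul_smul, smul_smul]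
    conv_rhs => rw [← one_smul F x]
    congr 1
    field_simp; norm_num)
  have hrank : finrank F (rg P) = 2 := by
    have hle : finrank F (rg P) ≤ 4 := by
      refine le_trans (Submodule.finrank_mono (show rg P ≤ fixd (c • Z) from ?_)) hdimZ.le
      rw [hP, rg_smul _ (inv_ne_zero h4)]
      rintro _ ⟨x, rfl⟩
      rw [mem_fixd, toLin'_apply, mulVec_mulVec, ← map_mul, ← mul_assoc,
        show c • Z * (1 + c • Z) = 1 + c • Z by rw [mul_add, mul_one, hcc, add_comm]]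
    have hsI : hst s = s := by rw [← hw]; exact Iso.self_adj (Q.w_iso _) hsq
    have hev := even_rank hPP (by
      rw [hP, hst_smul, hst_mul, hst_add, hst_add, hst_one, hst_smul, hsI, hZ, Iso.self_adj (Q.w_iso _)
        (Units.ext (by rw [Units.val_mul, Units.val_one]; exact axis_sq)), ← hZ]
      congr 1
      simp only [add_mul, mul_add, one_mul, mul_one, hcs]; abel)
    have ht := idem_trace hPP
    have tb : trH (Q.w2 v : Hm 2 F) = 0 := trH_invol h2 (Q.w2_iso v) hv.2.2 hv.1 hv.2.1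
    have hZt : trH Z = 0 := by
      rw [hZ, Q.axis, bdU_val, trH_bd, Units.val_neg, Units.val_one, trH_neg, add_neg_cancel]
    have hst' : trH s = 0 := by
      rw [hs, trH_smul, Q.w_lift, bdU_val, trH_bd, tb]; ring
    have hZs : trH (Z * s) = 0 := by
      rw [hs, mul_smul_comm, trH_smul, hZ, Q.w_lift, Q.axis, bdU_val, bdU_val, bd_mul, trH_bd, Units.val_neg,
        Units.val_one, one_mul, neg_one_mul, trH_neg, add_neg_cancel, mul_zero]
    obtain ⟨d, hd⟩ : ∃ d, d = finrank F (rg P) := ⟨_, rfl⟩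
    rw [← hd] at ht hev hle ⊢
    rw [hP, trH_smul, add_mul, one_mul, smul_mul_assoc, mul_add, mul_one, smul_add, trH_add, trH_add, trH_add,
      trH_smul, trH_smul, hst', hZt, hZs, trH_one] at ht
    obtain ⟨m, hm⟩ := hev
    have hm' : m = 0 ∨ m = 1 ∨ m = 2 := by omega
    rcases hm' with rfl | rfl | rfl
    · rw [hm] at ht; push_cast at ht; field_simp at ht
      exact absurd (by linear_combination ht) (show (8 : F) ≠ 0 by
        rw [show (8 : F) = 4 * 2 by norm_num]; exact mul_ne_zero h4 h2)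
    · omega
    · rw [hm] at ht; push_cast at ht; field_simp at ht
      exact absurd (by linear_combination -ht) (show (8 : F) ≠ 0 by
        rw [show (8 : F) = 4 * 2 by norm_num]; exact mul_ne_zero h4 h2)
  have hTeq : T = rg P := Submodule.eq_of_le_of_finrank_le hTP (by rw [hrank]; exact hT2)
  have hfix : (u : Hm 4 F) * P = P := (big 4 F).injective (Matrix.ext_of_mulVec_single fun i => by
    rw [map_mul, ← mulVec_mulVec]
    exact huT _ (hTeq.symm ▸ ⟨Pi.single i 1, rfl⟩))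
  rw [hP, mul_smul_comm] at hfix
  exact (smul_right_injective _ (inv_ne_zero h4)) hfix

/-- a centralised involution of the group gives a fixed plane -/
theorem plane_of_comm {u : (Hm 4 F)ˣ} (hu : IsRefl u) {v : W4} (hv : sing v = true)
    (hcm : wcomm v (0, 0, 2) = true) (h1 : Q.w v ≠ Q.w (0, 0, 2)) (h2' : Q.w v ≠ -Q.w (0, 0, 2))
    (hc : Commute u (Q.w v)) :
    ∃ (w : W4) (e : Bool), sing w = true ∧ wcomm w (0, 0, 2) = true ∧ w ≠ (0, 0, 2) ∧ w ≠ (4, 0, 2) ∧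
      (u : Hm 4 F) * planeM Q e w (0, 0, 2) = planeM Q e w (0, 0, 2) := by
  obtain ⟨hsq, hv1, hv2⟩ := (sing_iff (Q := Q)).1 hv
  set V := (Q.w v : Hm 4 F) with hV
  obtain ⟨P, hP⟩ : ∃ P, P = (2 : F)⁻¹ • ((1 : Hm 4 F) - (u : Hm 4 F)) := ⟨_, rfl⟩
  have hPP : P * P = P := by
    have hm : (-(u : Hm 4 F)) * (-(u : Hm 4 F)) = 1 := by rw [neg_mul_neg, ← Units.val_mul, hu.2.1, Units.val_one]
    rw [hP, sub_eq_add_neg]; exact proj_idem Q.two hm
  have hPs : hst P = P := by rw [hP, hst_smul, hst_sub, hst_one, Iso.self_adj hu.1 hu.2.1]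
  have hPr : finrank F (rg P) = 2 := by rw [hP, rg_smul _ (inv_ne_zero Q.two)]; exact hu.2.2
  have hPV : Commute P V := by
    rw [hP]
    exact ((Commute.one_left V).sub_left (congrArg Units.val hc.eq : (u : Hm 4 F) * V = V * u)).smul_left _
  have hVV : V * V = 1 := by rw [hV, ← Units.val_mul, hsq, Units.val_one]
  have hVs : hst V = V := Iso.self_adj (Q.w_iso v) hsq
  obtain ⟨A, hA⟩ : ∃ A, A = P * ((2 : F)⁻¹ • (1 + V)) := ⟨_, rfl⟩
  obtain ⟨B, hB⟩ : ∃ B, B = P * ((2 : F)⁻¹ • (1 + -V)) := ⟨_, rfl⟩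
  have half : ∀ W : Hm 4 F, W * W = 1 → hst W = W → Commute P W →
      (P * ((2 : F)⁻¹ • (1 + W))) * (P * ((2 : F)⁻¹ • (1 + W))) = P * ((2 : F)⁻¹ • (1 + W)) ∧
      Even (finrank F (rg (P * ((2 : F)⁻¹ • (1 + W))))) := by
    intro W hW hWs hPW
    have hcw : Commute P ((2 : F)⁻¹ • (1 + W)) := ((Commute.one_right P).add_right hPW).smul_right _
    have hid : (P * ((2 : F)⁻¹ • (1 + W))) * (P * ((2 : F)⁻¹ • (1 + W))) = P * ((2 : F)⁻¹ • (1 + W)) := by
      rw [mul_assoc, ← mul_assoc ((2 : F)⁻¹ • (1 + W)), ← hcw.eq, mul_assoc P ((2 : F)⁻¹ • (1 + W)),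
        proj_idem Q.two hW, ← mul_assoc, hPP]
    refine ⟨hid, even_rank hid ?_⟩
    rw [hst_mul, hst_smul, hst_add, hst_one, hWs, hPs, hcw.eq]
  obtain ⟨hAA, a, ha⟩ := half V hVV hVs hPV
  obtain ⟨hBB, b, hb⟩ := half (-V) (by rw [neg_mul_neg, hVV]) (by rw [hst_neg, hVs]) hPV.neg_right
  rw [← hA] at hAA ha
  rw [← hB] at hBB hb
  have hsum : A + B = P := by
    have h2 := Q.two
    rw [hA, hB, ← mul_add, ← smul_add, show (1 + V) + (1 + -V) = (2 : F) • (1 : Hm 4 F) by module,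
      smul_smul, inv_mul_cancel₀ h2, one_smul, mul_one]
  have key : A = 0 ∨ B = 0 := by
    have hAB : A * B = 0 := by
      rw [hA, hB, mul_assoc, ← mul_assoc ((2 : F)⁻¹ • (1 + V)),
        ← (((Commute.one_right P).add_right hPV).smul_right ((2 : F)⁻¹)).eq, mul_assoc P ((2 : F)⁻¹ • (1 + V)),
        smul_mul_smul_comm, add_mul, one_mul, mul_add, mul_one, mul_neg, hVV,
        show (1 + -V) + (V + -1) = (0 : Hm 4 F) by abel, smul_zero, mul_zero, mul_zero]
    have hPA : P * A = A := by rw [hA, ← mul_assoc, hPP]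
    have hPB : P * B = B := by rw [hB, ← mul_assoc, hPP]
    have hdisj : rg A ⊓ rg B = ⊥ := eq_bot_iff.2 fun x hx => by
      have e1 := (mem_rg_idem hAA).1 hx.1
      have e2 := (mem_rg_idem hBB).1 hx.2
      rw [← e2, mulVec_mulVec, ← map_mul, hAB, map_zero, zero_mulVec, e2] at e1
      exact (Submodule.mem_bot F).2 e1.symm
    have h := Submodule.finrank_sup_add_finrank_inf_eq (rg A) (rg B)
    rw [hdisj, finrank_bot] at h
    have h' : finrank F (rg A ⊔ rg B : Submodule F (Vec 4 F)) ≤ 2 := hPr ▸ Submodule.finrank_mono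
      (sup_le (hPA ▸ rg_mul_le P A) (hPB ▸ rg_mul_le P B))
    have z0 : ∀ X : Hm 4 F, finrank F (rg X) = 0 → X = 0 := fun X hX => by
      have h0 : Matrix.toLin' (big 4 F X) = 0 := LinearMap.range_eq_bot.1 (Submodule.finrank_eq_zero.1 hX)
      exact (big 4 F).injective (by rw [map_zero]; exact (LinearEquiv.map_eq_zero_iff _).1 h0)
    have : finrank F (rg A) = 0 ∨ finrank F (rg B) = 0 := by omega
    exact this.imp (z0 _) (z0 _)
  have two : ∃ w, (w = v ∨ w = wmul (4, 0, 0) v) ∧ P * (1 + (Q.w w : Hm 4 F)) = 0 := by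
    rcases key with h | h
    · refine ⟨v, Or.inl rfl, ?_⟩
      rw [hA, mul_smul_comm] at h
      exact (smul_eq_zero.1 h).resolve_left (inv_ne_zero Q.two)
    · refine ⟨_, Or.inr rfl, ?_⟩
      rw [hB, mul_smul_comm] at h
      rw [Q.w_mul, Q.w_neg, neg_one_mul, Units.val_neg]
      exact (smul_eq_zero.1 h).resolve_left (inv_ne_zero Q.two)
  obtain ⟨w, hw, hfix⟩ := two
  have hwV : Q.w w = Q.w v ∨ Q.w w = -Q.w v := by
    rcases hw with rfl | rfl
    · exact Or.inl rfl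
    · exact Or.inr (by rw [Q.w_mul, Q.w_neg, neg_one_mul])
  have hcz : Commute (Q.w v) (Q.w (0, 0, 2)) := (wcomm_iff (Q := Q)).1 hcm
  have hcw : Commute (Q.w w) (Q.w (0, 0, 2)) := by
    rcases hwV with e | e <;> rw [e]
    · exact hcz
    · exact hcz.neg_left
  refine ⟨w, false, (sing_iff (Q := Q)).2 ?_, (wcomm_iff (Q := Q)).2 hcw,
    fun e => ?_, fun e => ?_, ?_⟩
  · rcases hwV with e | e <;> rw [e]
    · exact ⟨hsq, hv1, hv2⟩
    · exact ⟨by rw [neg_mul_neg, hsq], fun e' => hv2 (neg_eq_iff_eq_neg.1 e'), fun e' => hv1 (neg_inj.1 e')⟩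
  · rw [e] at hwV
    rcases hwV with e' | e'
    · exact h1 e'.symm
    · exact h2' (by rw [e', neg_neg])
  · rw [e, show ((4, 0, 2) : W4) = wmul (4, 0, 0) (0, 0, 2) by decide, Q.w_mul, Q.w_neg, neg_one_mul] at hwV
    rcases hwV with e' | e'
    · exact h2' e'.symm
    · exact h1 (neg_inj.1 e').symm
  · have hpl : planeM Q false w (0, 0, 2) = (1 + (Q.w w : Hm 4 F)) * (1 + (Q.w (0, 0, 2) : Hm 4 F)) := by
      rw [planeM, if_neg (by simp), one_smul]
      have := congrArg Units.val hcw.eq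
      rw [Units.val_mul, Units.val_mul] at this
      simp only [add_mul, mul_add, one_mul, mul_one, this]; abel
    rw [hpl, ← mul_assoc]
    congr 1
    rw [hP, smul_mul_assoc, sub_mul, one_mul] at hfix
    exact (sub_eq_zero.1 ((smul_eq_zero.1 hfix).resolve_left (inv_ne_zero Q.two))).symm

/-- relative to the axis, there is a fixed plane -/
theorem Over.refl_axis (H : Over Q M) {u : (Hm 4 F)ˣ} (hu : u ∈ M) (hr : IsRefl u) :
    ∃ (w : W4) (e : Bool), sing w = true ∧ wcomm w (0, 0, 2) = true ∧ w ≠ (0, 0, 2) ∧ w ≠ (4, 0, 2) ∧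
      (u : Hm 4 F) * planeM Q e w (0, 0, 2) = planeM Q e w (0, 0, 2) := by
  have hzM : Q.w (0, 0, 2) ∈ M := H.hN (Q.w_N8 _)
  have hzz : Q.w (0, 0, 2) * Q.w (0, 0, 2) = 1 := Units.ext (by rw [Units.val_mul, Units.val_one]; exact axis_sq)
  haveI : Finite M := inferInstance
  have hne : ¬ IsConj (⟨Q.w (0, 0, 2), hzM⟩ : M) ⟨u, hu⟩ := by
    intro h
    obtain ⟨g, hg⟩ := isConj_iff.1 h
    have hg' : (g : (Hm 4 F)ˣ) * Q.w (0, 0, 2) * (g : (Hm 4 F)ˣ)⁻¹ = u := congrArg Subtype.val hg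
    have e1 := finrank_rg_conj (g : (Hm 4 F)ˣ) ((1 : Hm 4 F) - (Q.w (0, 0, 2) : Hm 4 F))
    rw [mul_sub, sub_mul, mul_one, Units.mul_inv, ← Units.val_mul, ← Units.val_mul, hg', hr.2.2, finrank_axis] at e1
    omega
  obtain ⟨⟨j, hjM⟩, hjz, hj1, hj2, hjs, hjt, hjc⟩ :=
    CfsgLib.MaxSub.exists_commuting_involution (⟨Q.w (0, 0, 2), hzM⟩ : M) ⟨u, hu⟩ (Subtype.ext hzz)
      (Subtype.ext hr.2.1) hne
  have hjz' : j ∈ Subgroup.zpowers (Q.w (0, 0, 2) * u) := by
    obtain ⟨k, hk⟩ := hjz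
    exact ⟨k, by simpa using congrArg Subtype.val hk⟩
  have hcz : Commute j (Q.w (0, 0, 2)) := congrArg Subtype.val hjs.eq
  have hcu : Commute j u := congrArg Subtype.val hjt.eq
  have hj2' : j * j = 1 := congrArg Subtype.val hj2
  have hj1' : j ≠ 1 := fun h => hj1 (Subtype.ext h)
  have hcx : Commute (Q.w (0, 0, 2) * j) (Q.w (0, 0, 2)) := (Commute.refl _).mul_left hcz
  rcases hjc with h | h <;> obtain ⟨⟨g, hgM⟩, hg⟩ := isConj_iff.1 h
  · have hg' : g * Q.w (0, 0, 2) * g⁻¹ = Q.w (0, 0, 2) * j := congrArg Subtype.val hg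
    have hin := H.fusion_axis hgM (hg'.symm ▸ hcx)
    rw [hg'] at hin
    have hjR : j ∈ Q.R8 := by
      rw [show j = (Q.w (0, 0, 2))⁻¹ * (Q.w (0, 0, 2) * j) by group]
      exact mul_mem (inv_mem (Q.w_mem _)) hin
    obtain ⟨v, rfl⟩ := hjR
    have hsv : sing v = true := sing_iff.2 ⟨hj2', hj1', fun hneg => by    -- the two fixed spaces meet
      have hd := finrank_inf_ge (A := fixd (Q.w (0, 0, 2) : Hm 4 F)) (B := fixd (u : Hm 4 F))
      have h6 := finrank_fixd (u : Hm 4 F)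
      have h4' : finrank F (fixd (Q.w (0, 0, 2) : Hm 4 F)) = 4 := (halves_decomp (Q := Q)).decomp.finrank_eq 0
      rw [hr.2.2] at h6
      obtain ⟨x, hx, hx0⟩ := Submodule.exists_mem_ne_zero_of_ne_bot
        (p := fixd (Q.w (0, 0, 2) : Hm 4 F) ⊓ fixd (u : Hm 4 F)) fun e => by rw [e, finrank_bot] at hd; omega
      let S : Subgroup (Hm 4 F)ˣ :=
        { carrier := {g | big 4 F (g : Hm 4 F) *ᵥ x = x}
          one_mem' := by simp
          mul_mem' := by
            intro a b (ha : _ = x) (hb : _ = x)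
            show big 4 F ((a * b : (Hm 4 F)ˣ) : Hm 4 F) *ᵥ x = x
            rw [Units.val_mul, map_mul, ← mulVec_mulVec, hb, ha]
          inv_mem' := by
            intro a (ha : _ = x)
            show big 4 F ((a⁻¹ : (Hm 4 F)ˣ) : Hm 4 F) *ᵥ x = x
            conv_lhs => rw [← ha, mulVec_mulVec, ← map_mul, Units.inv_mul, map_one, one_mulVec] }
      have hSx : Q.w v ∈ S := (Subgroup.zpowers_le.2 (mul_mem (s := S) (mem_fixd.1 hx.1) (mem_fixd.1 hx.2))) hjz'
      have hx' : big 4 F (Q.w v : Hm 4 F) *ᵥ x = x := hSx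
      rw [hneg, Units.val_neg, Units.val_one, map_neg, map_one, neg_mulVec, one_mulVec] at hx'
      have : (2 : F) • x = 0 := by rw [two_smul]; exact add_eq_zero_iff_eq_neg.2 hx'.symm
      exact hx0 ((smul_eq_zero.1 this).resolve_left Q.two)⟩
    have hcm : wcomm v (0, 0, 2) = true := (wcomm_iff (Q := Q)).2 hcz
    have hne1 : Q.w v ≠ Q.w (0, 0, 2) := fun e => by
      rw [e, hzz] at hg'
      have e1 : g * Q.w (0, 0, 2) = g := by rw [← inv_mul_cancel_right (g * Q.w (0, 0, 2)) g, hg', one_mul]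
      have := Q.w_inj ((mul_left_cancel (e1.trans (mul_one g).symm)).trans Q.w_one.symm)
      simp at this
    have hne2 : Q.w v ≠ -Q.w (0, 0, 2) := fun e => by
      rw [e, mul_neg, hzz] at hg'
      have e1 : g * Q.w (0, 0, 2) = g * (-1) := by
        rw [← inv_mul_cancel_right (g * Q.w (0, 0, 2)) g, hg', neg_one_mul, mul_neg, mul_one]
      have := Q.w_inj ((mul_left_cancel e1).trans Q.w_neg.symm)
      simp at this
    exact plane_of_comm hr hsv hcm hne1 hne2 hcu.symm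
  · have hg' : g * u * g⁻¹ = Q.w (0, 0, 2) * j := congrArg Subtype.val hg
    have ht : IsRefl (Q.w (0, 0, 2) * j) := hg' ▸ hr.conj (H.le hgM)
    obtain ⟨a, b, hab, haN, hbN, habR⟩ := H.split (mul_mem hzM hjM) hcx
    rw [hab] at ht
    have hsq := ht.2.1
    rw [bdU_mul, ← bdU_one] at hsq
    obtain ⟨ha2, hb2⟩ := bdU_inj hsq
    have htr := ht.trace Q.two
    rw [bdU_val, trH_bd] at htr
    have hnn : ¬ (a = -1 ∧ b = -1) := by
      rintro ⟨rfl, rfl⟩
      have h8 := ht.2.2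
      rw [← bdU_neg, bdU_one, Units.val_neg, Units.val_one, sub_neg_eq_add] at h8
      have htop : rg ((1 : Hm 4 F) + 1) = ⊤ := eq_top_iff.2 fun x _ => ⟨(2 : F)⁻¹ • x, by
        rw [toLin'_apply, map_add, map_one, add_mulVec, one_mulVec, ← two_smul F, smul_smul,
          mul_inv_cancel₀ Q.two, one_smul]⟩
      rw [htop, finrank_top, finrank_vec] at h8
      omega
    have hjv : (j : Hm 4 F) = (Q.w (0, 0, 2) : Hm 4 F) * (bdU a b : Hm 4 F) := by
      rw [← hab, ← Units.val_mul, ← mul_assoc, hzz, one_mul]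
    rcases refl_case_split Q.two haN.2 hbN.2 ha2 hb2 htr hnn with ⟨rfl, hb1, hb1'⟩ | ⟨rfl, ha1, ha1'⟩
    · rw [one_mul] at habR
      obtain ⟨v, hv⟩ := habR
      have hbv : Q.w2 v = b := by rw [hv]; exact inv_eq_of_mul_eq_one_right hb2
      subst hbv
      obtain ⟨w, h1, h2, h3, h4, h5⟩ := half_case hr hjz' true (v := v) ⟨hb1, hb1', hb2⟩ (δ := -1) (Or.inr rfl) (by
        rw [if_pos rfl, neg_one_smul, hjv, Q.w_lift, Q.axis, bdU_val, bdU_val, bdU_val, Units.val_neg, Units.val_one,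
          bd_neg, ← bd_one, bd_add, bd_mul, bd_mul, bd_mul, neg_one_smul, bd_neg]
        simp)
      exact ⟨w, true, h1, h2, h3, h4, h5⟩
    · rw [inv_one, mul_one] at habR
      obtain ⟨v, rfl⟩ := habR
      obtain ⟨w, h1, h2, h3, h4, h5⟩ := half_case hr hjz' false (v := v) ⟨ha1, ha1', ha2⟩ (δ := 1) (Or.inl rfl) (by
        rw [if_neg (by simp), one_smul, one_smul, hjv, Q.w_lift, Q.axis, bdU_val, bdU_val, bdU_val, Units.val_neg, Units.val_one,
          ← bd_one, bd_add, bd_mul, bd_mul, bd_mul]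
        simp)
      exact ⟨w, false, h1, h2, h3, h4, h5⟩

end CfsgLib.MaxSub.SpEightSymp
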