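import Cfsg.Agent.Lib.MaxSub.SpEightSymp.Mono

/-!
The group of symplectic type of order `128` inside the hermitian quaternion matrices of degree four,
some elements normalising it, and their action on it.
-/

set_option autoImplicit false
set_option linter.unusedSectionVars false
set_option maxRecDepth 100000

namespace CfsgLib.MaxSub.SpEightSymp

open Matrix Module

/-- words -/
abbrev W4 := Fin 8 × Fin 4 × Fin 4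

/-- addition of indices -/
def x4 : Fin 4 → Fin 4 → Fin 4 := ![![0, 1, 2, 3], ![1, 0, 3, 2], ![2, 3, 0, 1], ![3, 2, 1, 0]]

/-- parity of the common bits -/
def par : Fin 4 → Fin 4 → Bool :=
  ![![false, false, false, false], ![false, true, false, true], ![false, false, true, true],
    ![false, true, true, false]]

/-- a word as a monomial -/
def wm (w : W4) : Mn 4 := ⟨x4 w.2.1, fun x => if par w.2.2 x then qm 4 w.1 else w.1⟩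

/-- product of words -/
def wmul (v w : W4) : W4 :=
  (if par w.2.2 v.2.1 then qm 4 (qm v.1 w.1) else qm v.1 w.1, x4 v.2.1 w.2.1, x4 v.2.2 w.2.2)

/-- the inverse of a word -/
def winv (v : W4) : W4 := (if par v.2.2 v.2.1 then qm 4 (qi v.1) else qi v.1, v.2.1, v.2.2)

theorem wm_mul : ∀ v w : W4, (wm v).mul (wm w) = wm (wmul v w) := by decide +kernel

theorem wm_one : wm (0, 0, 0) = Mn.one 4 := by decide +kernel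

theorem wm_inv : ∀ v : W4, (wm v).Inv (wm (winv v)) := by decide +kernel

theorem wm_injective : Function.Injective wm := by
  have : ∀ v w : W4, wm v = wm w → v = w := by decide +kernel
  exact fun v w => this v w

def gz : Fin 9 → Zm 4 :=
  ![!![⟨1, 0, 0, 0⟩, 0, 0, 0;
    0, 0, ⟨1, 0, 0, 0⟩, 0;
    0, ⟨1, 0, 0, 0⟩, 0, 0;
    0, 0, 0, ⟨1, 0, 0, 0⟩],
    !![⟨1, 0, 0, 0⟩, 0, 0, 0;
    0, ⟨1, 0, 0, 0⟩, 0, 0;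
    0, 0, 0, ⟨1, 0, 0, 0⟩;
    0, 0, ⟨1, 0, 0, 0⟩, 0],
    !![⟨-1, 0, 0, 0⟩, 0, 0, 0;
    0, ⟨1, 0, 0, 0⟩, 0, 0;
    0, 0, ⟨1, 0, 0, 0⟩, 0;
    0, 0, 0, ⟨1, 0, 0, 0⟩],
    !![⟨-1, 0, 1, 0⟩, ⟨1, 0, -1, 0⟩, 0, 0;
    ⟨-1, 0, -1, 0⟩, ⟨-1, 0, -1, 0⟩, 0, 0;
    0, 0, ⟨-1, 0, 1, 0⟩, ⟨1, 0, -1, 0⟩;
    0, 0, ⟨-1, 0, -1, 0⟩, ⟨-1, 0, -1, 0⟩],
    !![⟨-1, 1, 1, 1⟩, 0, 0, 0;
    0, ⟨-1, 1, 1, 1⟩, 0, 0;
    0, 0, ⟨-1, 1, 1, 1⟩, 0;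
    0, 0, 0, ⟨-1, 1, 1, 1⟩],
    !![0, ⟨1, 0, 0, 0⟩, 0, 0;
    ⟨1, 0, 0, 0⟩, 0, 0, 0;
    0, 0, 0, ⟨1, 0, 0, 0⟩;
    0, 0, ⟨1, 0, 0, 0⟩, 0],
    !![0, 0, ⟨1, 0, 0, 0⟩, 0;
    0, 0, 0, ⟨1, 0, 0, 0⟩;
    ⟨1, 0, 0, 0⟩, 0, 0, 0;
    0, ⟨1, 0, 0, 0⟩, 0, 0],
    !![⟨1, 0, 0, 0⟩, 0, 0, 0;
    0, ⟨-1, 0, 0, 0⟩, 0, 0;
    0, 0, ⟨1, 0, 0, 0⟩, 0;
    0, 0, 0, ⟨-1, 0, 0, 0⟩],
    !![⟨1, 0, 0, 0⟩, 0, 0, 0;
    0, ⟨1, 0, 0, 0⟩, 0, 0;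
    0, 0, ⟨-1, 0, 0, 0⟩, 0;
    0, 0, 0, ⟨-1, 0, 0, 0⟩]]

def gN : Fin 9 → ℤ := ![1, 1, 1, 4, 4, 1, 1, 1, 1]

def gimg : Fin 9 → Fin 16 → W4 :=
  ![![(0, 0, 0), (1, 0, 0), (2, 0, 0), (3, 0, 0), (4, 0, 0), (5, 0, 0), (6, 0, 0), (7, 0, 0), (0, 0, 0), (0, 2, 0), (0, 1, 0), (0, 3, 0), (0, 0, 0), (0, 0, 2), (0, 0, 1), (0, 0, 3)],
    ![(0, 0, 0), (1, 0, 0), (2, 0, 0), (3, 0, 0), (4, 0, 0), (5, 0, 0), (6, 0, 0), (7, 0, 0), (0, 0, 0), (0, 1, 0), (0, 3, 0), (0, 2, 0), (0, 0, 0), (0, 0, 3), (0, 0, 2), (0, 0, 1)],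
    ![(0, 0, 0), (1, 0, 0), (2, 0, 0), (3, 0, 0), (4, 0, 0), (5, 0, 0), (6, 0, 0), (7, 0, 0), (0, 0, 0), (4, 1, 2), (4, 2, 1), (4, 3, 3), (0, 0, 0), (0, 0, 1), (0, 0, 2), (0, 0, 3)],
    ![(0, 0, 0), (3, 0, 1), (2, 0, 0), (5, 0, 1), (4, 0, 0), (7, 0, 1), (6, 0, 0), (1, 0, 1), (0, 0, 0), (4, 0, 1), (0, 2, 0), (4, 2, 1), (0, 0, 0), (6, 1, 1), (0, 0, 2), (6, 1, 3)],
    ![(0, 0, 0), (3, 0, 0), (1, 0, 0), (2, 0, 0), (4, 0, 0), (7, 0, 0), (5, 0, 0), (6, 0, 0), (0, 0, 0), (0, 1, 0), (0, 2, 0), (0, 3, 0), (0, 0, 0), (0, 0, 1), (0, 0, 2), (0, 0, 3)],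
    ![(0, 0, 0), (1, 0, 0), (2, 0, 0), (3, 0, 0), (4, 0, 0), (5, 0, 0), (6, 0, 0), (7, 0, 0), (0, 0, 0), (0, 1, 0), (0, 2, 0), (0, 3, 0), (0, 0, 0), (4, 0, 1), (0, 0, 2), (4, 0, 3)],
    ![(0, 0, 0), (1, 0, 0), (2, 0, 0), (3, 0, 0), (4, 0, 0), (5, 0, 0), (6, 0, 0), (7, 0, 0), (0, 0, 0), (0, 1, 0), (0, 2, 0), (0, 3, 0), (0, 0, 0), (0, 0, 1), (4, 0, 2), (4, 0, 3)],
    ![(0, 0, 0), (1, 0, 0), (2, 0, 0), (3, 0, 0), (4, 0, 0), (5, 0, 0), (6, 0, 0), (7, 0, 0), (0, 0, 0), (4, 1, 0), (0, 2, 0), (4, 3, 0), (0, 0, 0), (0, 0, 1), (0, 0, 2), (0, 0, 3)],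
    ![(0, 0, 0), (1, 0, 0), (2, 0, 0), (3, 0, 0), (4, 0, 0), (5, 0, 0), (6, 0, 0), (7, 0, 0), (0, 0, 0), (0, 1, 0), (4, 2, 0), (4, 3, 0), (0, 0, 0), (0, 0, 1), (0, 0, 2), (0, 0, 3)]]

def pointPaths : List (W4 × List (Fin 9)) :=
  [((0, 0, 2), []),
    ((0, 0, 1), [0]),
    ((4, 0, 2), [6]),
    ((0, 0, 3), [0, 1]),
    ((6, 1, 1), [0, 3]),
    ((4, 0, 1), [0, 5]),
    ((6, 1, 3), [0, 1, 3]),
    ((4, 0, 3), [0, 1, 5]),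
    ((6, 2, 2), [0, 3, 0]),
    ((2, 1, 3), [0, 3, 2]),
    ((4, 1, 0), [0, 3, 3]),
    ((5, 1, 1), [0, 3, 4]),
    ((2, 1, 1), [0, 3, 5]),
    ((6, 2, 3), [0, 1, 3, 0]),
    ((4, 1, 2), [0, 1, 3, 3]),
    ((5, 1, 3), [0, 1, 3, 4]),
    ((6, 3, 2), [0, 3, 0, 1]),
    ((2, 2, 3), [0, 3, 0, 2]),
    ((5, 2, 2), [0, 3, 0, 4]),
    ((2, 2, 2), [0, 3, 0, 6]),
    ((0, 1, 2), [0, 3, 2, 3]),
    ((1, 1, 3), [0, 3, 2, 4]),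
    ((4, 2, 0), [0, 3, 3, 0]),
    ((0, 1, 0), [0, 3, 3, 7]),
    ((7, 1, 1), [0, 3, 4, 4]),
    ((1, 1, 1), [0, 3, 4, 5]),
    ((6, 3, 1), [0, 1, 3, 0, 1]),
    ((4, 3, 3), [0, 1, 3, 0, 3]),
    ((5, 2, 3), [0, 1, 3, 0, 4]),
    ((4, 2, 1), [0, 1, 3, 3, 0]),
    ((7, 1, 3), [0, 1, 3, 4, 4]),
    ((2, 3, 1), [0, 3, 0, 1, 2]),
    ((5, 3, 2), [0, 3, 0, 1, 4]),
    ((2, 3, 2), [0, 3, 0, 1, 6]),
    ((0, 3, 3), [0, 3, 0, 2, 3]),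
    ((1, 2, 3), [0, 3, 0, 2, 4]),
    ((7, 2, 3), [0, 3, 0, 4, 3]),
    ((7, 2, 2), [0, 3, 0, 4, 4]),
    ((1, 2, 2), [0, 3, 0, 4, 6]),
    ((0, 2, 1), [0, 3, 2, 3, 0]),
    ((3, 1, 3), [0, 3, 2, 4, 4]),
    ((4, 3, 0), [0, 3, 3, 0, 1]),
    ((0, 2, 0), [0, 3, 3, 0, 8]),
    ((3, 1, 1), [0, 3, 4, 4, 5]),
    ((5, 3, 1), [0, 1, 3, 0, 1, 4]),
    ((0, 3, 0), [0, 1, 3, 0, 3, 2]),
    ((1, 3, 1), [0, 3, 0, 1, 2, 4]),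
    ((3, 2, 2), [0, 3, 0, 1, 4, 3]),
    ((7, 3, 2), [0, 3, 0, 1, 4, 4]),
    ((1, 3, 2), [0, 3, 0, 1, 4, 6]),
    ((3, 2, 3), [0, 3, 0, 2, 4, 4]),
    ((7, 3, 1), [0, 3, 0, 4, 3, 1]),
    ((3, 3, 1), [0, 3, 0, 1, 2, 4, 4]),
    ((3, 3, 2), [0, 3, 0, 1, 4, 3, 1])]

def pairPaths : List (W4 × List (Fin 9)) :=
  [((0, 0, 1), []),
    ((0, 0, 3), [1]),
    ((6, 1, 1), [3]),
    ((4, 0, 1), [5]),
    ((6, 1, 3), [1, 3]),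
    ((4, 0, 3), [1, 5]),
    ((2, 1, 3), [3, 2]),
    ((4, 1, 0), [3, 3]),
    ((5, 1, 1), [3, 4]),
    ((2, 1, 1), [3, 5]),
    ((4, 1, 2), [1, 3, 3]),
    ((5, 1, 3), [1, 3, 4]),
    ((0, 1, 2), [3, 2, 3]),
    ((1, 1, 3), [3, 2, 4]),
    ((0, 1, 0), [3, 3, 7]),
    ((7, 1, 1), [3, 4, 4]),
    ((1, 1, 1), [3, 4, 5]),
    ((7, 1, 3), [1, 3, 4, 4]),
    ((3, 1, 3), [3, 2, 4, 4]),
    ((3, 1, 1), [3, 4, 4, 5])]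

/-- the sixteen words spanning all others -/
def piece (i : Fin 16) : W4 :=
  if h : i.1 < 8 then (⟨i.1, h⟩, 0, 0)
  else if h' : i.1 < 12 then (0, ⟨i.1 - 8, by omega⟩, 0) else (0, 0, ⟨i.1 - 12, by omega⟩)

/-- the action of a generator on words -/
def act (g : Fin 9) (w : W4) : W4 :=
  wmul (wmul (gimg g ⟨w.1.1, by omega⟩) (gimg g ⟨12 + w.2.2.1, by omega⟩)) (gimg g ⟨8 + w.2.1.1, by omega⟩)

/-- the action of a list of generators -/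
def actL (l : List (Fin 9)) (w : W4) : W4 := l.foldl (fun x g => act g x) w

theorem gz_unit : ∀ g : Fin 9, gz g * zst (gz g) = (gN g : Qz) • (1 : Zm 4) ∧
    zst (gz g) * gz g = (gN g : Qz) • (1 : Zm 4) := by decide +kernel

theorem gimg_spec : ∀ (g : Fin 9) (i : Fin 16), gz g * (wm (piece i)).z = (wm (gimg g i)).z * gz g := by
  decide +kernel

theorem piece_mul : ∀ w : W4, w = wmul (wmul (piece ⟨w.1.1, by omega⟩) (piece ⟨12 + w.2.2.1, by omega⟩))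
    (piece ⟨8 + w.2.1.1, by omega⟩) := by decide +kernel

theorem gN_cases : ∀ g : Fin 9, gN g = 1 ∨ gN g = 4 := by decide

/-- noncentral involutions -/
def sing (v : W4) : Bool := decide (wmul v v = (0, 0, 0) ∧ v ≠ (0, 0, 0) ∧ v ≠ (4, 0, 0))

/-- commuting words -/
def wcomm (v w : W4) : Bool := decide (wmul v w = wmul w v)

theorem pointPaths_spec : (∀ p ∈ pointPaths, actL p.2 (0, 0, 2) = p.1) ∧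
    ∀ v : W4, sing v = true → v ∈ pointPaths.map Prod.fst := by decide +kernel

theorem pairPaths_path : ∀ p ∈ pairPaths, actL p.2 (0, 0, 2) = (0, 0, 2) ∧ actL p.2 (0, 0, 1) = p.1 := by
  decide +kernel

/-- the words making a pair with the first axis -/
def pairable (v : W4) : Bool := sing v && wcomm v (0, 0, 2) && decide (v ≠ (0, 0, 2) ∧ v ≠ (4, 0, 2))

theorem pairPaths_all : ∀ v : W4, pairable v = true → v ∈ pairPaths.map Prod.fst := by decide +kernel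

end CfsgLib.MaxSub.SpEightSymp
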