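import Cfsg.Agent.Lib.MaxSub.SpEightSymp.Mono

/-!
The group of symplectic type of order `32` inside the hermitian quaternion matrices of degree two: tables.
-/

set_option autoImplicit false
set_option linter.unusedSectionVars false
set_option maxRecDepth 100000

namespace CfsgLib.MaxSub.SpEightSymp

open Matrix Module

/-- words of degree two -/
abbrev W2 := Fin 8 × Fin 2 × Fin 2

/-- parity of common bit -/
def par2 : Fin 2 → Fin 2 → Bool := ![![false, false], ![false, true]]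

/-- a word as a monomial -/
def wm2 (w : W2) : Mn 2 := ⟨fun x => w.2.1 + x, fun x => if par2 w.2.2 x then qm 4 w.1 else w.1⟩

/-- product of words -/
def wmul2 (v w : W2) : W2 :=
  (if par2 w.2.2 v.2.1 then qm 4 (qm v.1 w.1) else qm v.1 w.1, v.2.1 + w.2.1, v.2.2 + w.2.2)

/-- inverse of a word -/
def winv2 (v : W2) : W2 := (if par2 v.2.2 v.2.1 then qm 4 (qi v.1) else qi v.1, v.2.1, v.2.2)

theorem wm2_mul : ∀ v w : W2, (wm2 v).mul (wm2 w) = wm2 (wmul2 v w) := by decide +kernel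

theorem wm2_one : wm2 (0, 0, 0) = Mn.one 2 := by decide +kernel

theorem wm2_negOne : wm2 (4, 0, 0) = Mn.negOne 2 := by decide +kernel

theorem wm2_inv : ∀ v : W2, (wm2 v).Inv (wm2 (winv2 v)) := by decide +kernel

theorem wm2_injective : Function.Injective wm2 := by
  have : ∀ v w : W2, wm2 v = wm2 w → v = w := by decide +kernel
  exact fun v w => this v w

def gz2 : Fin 2 → Zm 2 :=
  ![!![⟨-1, 1, 1, 1⟩, 0;
    0, ⟨-1, 1, 1, 1⟩],
    !![⟨-1, 0, 1, 0⟩, ⟨1, 0, -1, 0⟩;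
    ⟨-1, 0, -1, 0⟩, ⟨-1, 0, -1, 0⟩]]

def gimg2 : Fin 2 → Fin 12 → W2 :=
  ![![(0, 0, 0), (3, 0, 0), (1, 0, 0), (2, 0, 0), (4, 0, 0), (7, 0, 0), (5, 0, 0), (6, 0, 0), (0, 0, 0), (0, 1, 0), (0, 0, 0), (0, 0, 1)],
    ![(0, 0, 0), (3, 0, 1), (2, 0, 0), (5, 0, 1), (4, 0, 0), (7, 0, 1), (6, 0, 0), (1, 0, 1), (0, 0, 0), (4, 0, 1), (0, 0, 0), (6, 1, 1)]]

def evenPaths : List (List (Fin 2)) :=
  [[1, 0, 0, 1, 1, 0, 1], [1, 0, 1, 1, 0, 0, 1], [0, 1, 0, 0, 1, 1, 0, 1], [0, 0, 1, 0, 1], [1, 0, 0, 1, 0], [1, 0, 0, 1, 1], [0, 1, 1, 0, 0, 1], [1, 0, 1], [0, 1]]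

/-- paths moving the first frame vector -/
def fromZero : Fin 5 → List (Fin 2) := ![[], [1, 1], [1, 0], [1], [1, 0, 0]]

/-- the spanning words -/
def piece2 (i : Fin 12) : W2 :=
  if h : i.1 < 8 then (⟨i.1, h⟩, 0, 0)
  else if h' : i.1 < 10 then (0, ⟨i.1 - 8, by omega⟩, 0) else (0, 0, ⟨i.1 - 10, by omega⟩)

/-- the action of a generator -/
def act2 (g : Fin 2) (w : W2) : W2 :=
  wmul2 (wmul2 (gimg2 g ⟨w.1.1, by omega⟩) (gimg2 g ⟨10 + w.2.2.1, by omega⟩)) (gimg2 g ⟨8 + w.2.1.1, by omega⟩)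

theorem piece2_mul : ∀ w : W2, w = wmul2 (wmul2 (piece2 ⟨w.1.1, by omega⟩) (piece2 ⟨10 + w.2.2.1, by omega⟩))
    (piece2 ⟨8 + w.2.1.1, by omega⟩) := by decide +kernel

theorem gz2_unit : ∀ g : Fin 2, gz2 g * zst (gz2 g) = (4 : Qz) • (1 : Zm 2) ∧
    zst (gz2 g) * gz2 g = (4 : Qz) • (1 : Zm 2) := by decide +kernel

theorem gimg2_spec : ∀ (g : Fin 2) (i : Fin 12), gz2 g * (wm2 (piece2 i)).z = (wm2 (gimg2 g i)).z * gz2 g := by
  decide +kernel

/-- the five pairwise anticommuting involutions -/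
def five : Fin 5 → W2 := ![(0, 0, 1), (0, 1, 0), (1, 1, 1), (2, 1, 1), (3, 1, 1)]

/-- signed frame -/
def sf (p : Bool × Fin 5) : W2 := if p.1 then wmul2 (4, 0, 0) (five p.2) else five p.2

theorem five_sq : ∀ i, wmul2 (five i) (five i) = (0, 0, 0) := by decide +kernel

theorem five_anti : ∀ i j, i ≠ j → wmul2 (five i) (five j) = wmul2 (4, 0, 0) (wmul2 (five j) (five i)) := by
  decide +kernel

theorem sf_eq : ∀ p q : Bool × Fin 5, sf p = sf q → p.2 = q.2 := by decide +kernel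

theorem invol_cases : ∀ v : W2, wmul2 v v = (0, 0, 0) → v = (0, 0, 0) ∨ v = (4, 0, 0) ∨ ∃ p, v = sf p := by
  decide +kernel

theorem sign_word : ∀ a b c d : Bool, ∃ r : W2, ∀ i : Fin 4,
    wmul2 (wmul2 r (five i.castSucc)) (winv2 r) = sf (![a, b, c, d] i, i.castSucc) := by decide +kernel

theorem frame_gen : ∃ s : Bool, wmul2 (wmul2 (five 0) (five 1)) (five 2) = ((if s then 5 else 1), 0, 0) ∧
    ∃ t : Bool, wmul2 (wmul2 (five 0) (five 1)) (five 3) = ((if t then 6 else 2), 0, 0) := by decide +kernel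

/-- permutation of the frame by a generator -/
def gperm : Fin 2 → Equiv.Perm (Fin 5) := ![
  ⟨![0, 1, 4, 2, 3], ![0, 1, 3, 4, 2], by decide, by decide⟩,
  ⟨![3, 0, 2, 1, 4], ![1, 3, 2, 0, 4], by decide, by decide⟩]

theorem gperm_spec : ∀ (g : Fin 2) (i : Fin 5), ∃ b : Bool, act2 g (five i) = sf (b, gperm g i) := by
  decide +kernel

/-- permutation along a path -/
def pperm (l : List (Fin 2)) : Equiv.Perm (Fin 5) := l.foldl (fun p g => gperm g * p) 1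

/-- the three-cycle on the last three frame vectors -/
def cyc : Equiv.Perm (Fin 5) := ⟨![0, 1, 3, 4, 2], ![0, 1, 4, 2, 3], by decide, by decide⟩

theorem fromZero_spec : ∀ j, pperm (fromZero j) 0 = j := by decide +kernel

theorem perm_reduce : ∀ s : Equiv.Perm (Fin 5), s ≠ 1 →
    ∃ a ∈ evenPaths, ∃ b ∈ evenPaths,
      (s * pperm a * s⁻¹ * (pperm a)⁻¹) * pperm b * (s * pperm a * s⁻¹ * (pperm a)⁻¹)⁻¹ * (pperm b)⁻¹ = cyc ∨
      (s * pperm a * s⁻¹ * (pperm a)⁻¹) * pperm b * (s * pperm a * s⁻¹ * (pperm a)⁻¹)⁻¹ * (pperm b)⁻¹ = cyc⁻¹ := by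
  decide +kernel

end CfsgLib.MaxSub.SpEightSymp
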