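import Cfsg.Agent.Lib.MaxSub.SpEightSymp.TableTwo
import Cfsg.Agent.Lib.MaxSub.SpFiveFrame
import Cfsg.Agent.Lib.Classical.SpSimple

/-!
The normaliser of the group of order `32` in the isometries of degree two: the permutation of the frame,
maximality, and elements fixing half of the space.
-/

set_option autoImplicit false
set_option linter.unusedSectionVars false

namespace CfsgLib.MaxSub.SpEightSymp

open Matrix Module
open scoped MatrixGroups

variable {F : Type*} [Field F] (Q : Quat F)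

/-- the matrix of a word of degree two -/
def Quat.w2 (v : W2) : (Hm 2 F)ˣ := Q.mu (wm2 v) (wm2 (winv2 v)) (wm2_inv v)

theorem Quat.w2_val (v : W2) : (Q.w2 v : Hm 2 F) = Q.mo (wm2 v) := rfl

theorem Quat.w2_mul (v w : W2) : Q.w2 (wmul2 v w) = Q.w2 v * Q.w2 w := by
  refine Units.ext ?_
  rw [Units.val_mul, Q.w2_val, Q.w2_val, Q.w2_val, ← Q.mo_mul, wm2_mul]

theorem Quat.w2_one : Q.w2 (0, 0, 0) = 1 := by
  refine Units.ext ?_
  rw [Q.w2_val, wm2_one, Q.mo_one]; rfl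

theorem Quat.w2_neg : Q.w2 (4, 0, 0) = -1 := by
  refine Units.ext ?_
  rw [Q.w2_val, wm2_negOne, Q.mo_negOne]; rfl

theorem Quat.w2_inv (v : W2) : (Q.w2 v)⁻¹ = Q.w2 (winv2 v) := Units.ext rfl

theorem Quat.w2_inj : Function.Injective Q.w2 := fun v w h =>
  wm2_injective (Q.mo_inj (congrArg Units.val h))

/-- the group of order `32` -/
def Quat.R4 : Subgroup (Hm 2 F)ˣ where
  carrier := Set.range Q.w2
  one_mem' := ⟨_, Q.w2_one⟩
  mul_mem' := by rintro _ _ ⟨v, rfl⟩ ⟨w, rfl⟩; exact ⟨_, Q.w2_mul v w⟩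
  inv_mem' := by rintro _ ⟨v, rfl⟩; exact ⟨_, (Q.w2_inv v).symm⟩

theorem Quat.w2_mem (v : W2) : Q.w2 v ∈ Q.R4 := ⟨v, rfl⟩

theorem Quat.w2_iso (v : W2) : Q.w2 v ∈ Iso 2 F := Q.mu_iso _ _ _

theorem Quat.R4_le : Q.R4 ≤ Iso 2 F := by rintro _ ⟨v, rfl⟩; exact Q.w2_iso v

/-- its normaliser among isometries -/
def Quat.N4 : Subgroup (Hm 2 F)ˣ := Subgroup.normalizer (Q.R4 : Set (Hm 2 F)ˣ) ⊓ Iso 2 F

theorem Quat.w2_N4 (v : W2) : Q.w2 v ∈ Q.N4 := ⟨Subgroup.le_normalizer (Q.w2_mem v), Q.w2_iso v⟩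

theorem Quat.N4_conj {c : (Hm 2 F)ˣ} (hc : c ∈ Q.N4) (v : W2) : ∃ w, c * Q.w2 v * c⁻¹ = Q.w2 w := by
  obtain ⟨w, hw⟩ := (Subgroup.mem_normalizer_iff.1 hc.1 _).1 (Q.w2_mem v)
  exact ⟨w, hw.symm⟩

theorem Quat.gz2_scal : Q.cast 2 ((4 : Qz) • (1 : Zm 2)) = (4 : F) • (1 : Hm 2 F) := by
  refine Matrix.ext fun i j => ?_
  rw [Q.cast_apply, Matrix.smul_apply, Matrix.smul_apply, smul_eq_mul, map_mul, map_ofNat, Matrix.one_apply,
    Matrix.one_apply, apply_ite Q.ι, map_one, map_zero]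
  split
  · rw [mul_one, ← Algebra.algebraMap_eq_smul_one, map_ofNat]
  · simp

/-- a generator of degree two -/
def Quat.gen2 (g : Fin 2) : (Hm 2 F)ˣ where
  val := (2 : F)⁻¹ • Q.cast 2 (gz2 g)
  inv := (2 : F)⁻¹ • Q.cast 2 (zst (gz2 g))
  val_inv := by
    rw [smul_mul_smul_comm, ← map_mul, (gz2_unit g).1, Q.gz2_scal, smul_smul,
      show (2 : F)⁻¹ * 2⁻¹ * 4 = 1 by have := Q.two; field_simp; norm_num, one_smul]
  inv_val := by
    rw [smul_mul_smul_comm, ← map_mul, (gz2_unit g).2, Q.gz2_scal, smul_smul,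
      show (2 : F)⁻¹ * 2⁻¹ * 4 = 1 by have := Q.two; field_simp; norm_num, one_smul]

theorem Quat.gen2_conj (g : Fin 2) (v : W2) : Q.gen2 g * Q.w2 v * (Q.gen2 g)⁻¹ = Q.w2 (act2 g v) := by
  have hp : ∀ i : Fin 12, Q.gen2 g * Q.w2 (piece2 i) = Q.w2 (gimg2 g i) * Q.gen2 g := fun i => by
    refine Units.ext ?_
    show ((2 : F)⁻¹ • Q.cast 2 (gz2 g)) * Q.mo (wm2 (piece2 i)) =
      Q.mo (wm2 (gimg2 g i)) * ((2 : F)⁻¹ • Q.cast 2 (gz2 g))
    rw [smul_mul_assoc, mul_smul_comm, ← Q.cast_z, ← Q.cast_z, ← map_mul, ← map_mul, gimg2_spec]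
  rw [mul_inv_eq_iff_eq_mul]
  conv_lhs => rw [piece2_mul v, Q.w2_mul, Q.w2_mul, ← mul_assoc, ← mul_assoc, hp, mul_assoc (Q.w2 _) (Q.gen2 g),
    hp, ← mul_assoc, mul_assoc _ (Q.gen2 g), hp, ← mul_assoc]
  rw [act2, Q.w2_mul, Q.w2_mul]

theorem Quat.gen2_N4 (g : Fin 2) : Q.gen2 g ∈ Q.N4 := by
  refine ⟨Subgroup.mem_normalizer_iff.2 fun x => ⟨?_, ?_⟩, ?_⟩
  · rintro ⟨v, rfl⟩
    exact ⟨_, (Q.gen2_conj g v).symm⟩
  · intro hx
    obtain ⟨v, hv⟩ := hx
    have hsurj : Function.Surjective (act2 g) := Finite.surjective_of_injective fun a b h => Q.w2_inj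
      (mul_left_cancel (mul_right_cancel
        ((Q.gen2_conj g a).trans ((congrArg Q.w2 h).trans (Q.gen2_conj g b).symm))))
    obtain ⟨u, rfl⟩ := hsurj v
    exact ⟨u, mul_left_cancel (mul_right_cancel ((Q.gen2_conj g u).trans hv))⟩
  · show hst ((2 : F)⁻¹ • Q.cast 2 (gz2 g)) * ((2 : F)⁻¹ • Q.cast 2 (gz2 g)) = 1
    rw [hst_smul, ← Q.cast_zst]
    exact (Q.gen2 g).inv_mul

theorem five_ne : ∀ i, five i ≠ (0, 0, 0) ∧ five i ≠ (4, 0, 0) := by decide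

/-- `c` permutes the frame by `p`, up to signs -/
def Quat.Rel (c : (Hm 2 F)ˣ) (p : Equiv.Perm (Fin 5)) : Prop :=
  ∀ i, ∃ b : Bool, c * Q.w2 (five i) * c⁻¹ = Q.w2 (sf (b, p i))

theorem Quat.sf_sign (b : Bool) (j : Fin 5) :
    Q.w2 (sf (b, j)) = (if b then -1 else 1) * Q.w2 (five j) := by
  cases b <;> simp [sf, Q.w2_mul, Q.w2_neg]

theorem Quat.conj_sf {c : (Hm 2 F)ˣ} {p : Equiv.Perm (Fin 5)} (h : Q.Rel c p) (b : Bool) (j : Fin 5) :
    ∃ b' : Bool, c * Q.w2 (sf (b, j)) * c⁻¹ = Q.w2 (sf (b', p j)) := by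
  obtain ⟨d, hd⟩ := h j
  refine ⟨xor b d, ?_⟩
  rw [Q.sf_sign] at hd
  rw [Q.sf_sign, Q.sf_sign]
  cases b <;> cases d <;> simp at hd ⊢ <;> simp [hd]

theorem Quat.Rel.mul {c d : (Hm 2 F)ˣ} {p q : Equiv.Perm (Fin 5)} (hc : Q.Rel c p) (hd : Q.Rel d q) :
    Q.Rel (c * d) (p * q) := by
  intro i
  obtain ⟨b, hb⟩ := hd i
  obtain ⟨b', hb'⟩ := Q.conj_sf hc b (q i)
  refine ⟨b', ?_⟩
  rw [Equiv.Perm.mul_apply, ← hb', ← hb]
  group

theorem Quat.Rel.inv {c : (Hm 2 F)ˣ} {p : Equiv.Perm (Fin 5)} (hc : Q.Rel c p) : Q.Rel c⁻¹ p⁻¹ := by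
  intro i
  obtain ⟨b, hb⟩ := hc (p⁻¹ i)
  rw [show p (p⁻¹ i) = i from Equiv.apply_symm_apply p i, Q.sf_sign] at hb
  refine ⟨b, ?_⟩
  rw [Q.sf_sign]
  generalize p⁻¹ i = j at hb ⊢
  cases b <;> simp at hb ⊢
  · rw [← hb]; group
  · rw [show Q.w2 (five i) = -(c * Q.w2 (five j) * c⁻¹) by rw [hb, neg_neg], mul_neg, neg_mul]
    congr 1; group

theorem Quat.Rel.one : Q.Rel 1 1 := fun i => ⟨false, by simp [Q.sf_sign]⟩

theorem Quat.exists_rel {c : (Hm 2 F)ˣ} (hc : c ∈ Q.N4) : ∃ p, Q.Rel c p := by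
  have key : ∀ i, ∃ q : Bool × Fin 5, c * Q.w2 (five i) * c⁻¹ = Q.w2 (sf q) := by
    intro i
    obtain ⟨w, hw⟩ := Q.N4_conj hc (five i)
    have h2 : Q.w2 (wmul2 w w) = Q.w2 (0, 0, 0) := by
      rw [Q.w2_mul, ← hw, Q.w2_one, show c * Q.w2 (five i) * c⁻¹ * (c * Q.w2 (five i) * c⁻¹) =
        c * (Q.w2 (five i) * Q.w2 (five i)) * c⁻¹ by group, ← Q.w2_mul, five_sq, Q.w2_one, mul_one, mul_inv_cancel]
    rcases invol_cases w (Q.w2_inj h2) with rfl | rfl | ⟨q, rfl⟩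
    · rw [Q.w2_one, mul_inv_eq_one, mul_eq_left, ← Q.w2_one] at hw
      exact absurd (Q.w2_inj hw) (five_ne i).1
    · have h' : Q.w2 (five i) = Q.w2 (4, 0, 0) := by
        rw [Q.w2_neg] at hw ⊢
        rw [show Q.w2 (five i) = c⁻¹ * (c * Q.w2 (five i) * c⁻¹) * c by group, hw]
        simp
      exact absurd (Q.w2_inj h') (five_ne i).2
    · exact ⟨q, hw⟩
  choose q hq using key
  have hinj : Function.Injective fun i => (q i).2 := by
    intro i j hij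
    by_contra hne
    have e : ∀ i, c * Q.w2 (five i) * c⁻¹ = (if (q i).1 then -1 else 1) * Q.w2 (five (q i).2) := fun i => by
      rw [hq, ← Q.sf_sign]
    have hi := e i
    rw [show (q i).2 = (q j).2 from hij] at hi
    have hj := e j
    have hsame : Q.w2 (five i) = Q.w2 (five j) ∨ Q.w2 (five i) = Q.w2 (sf (true, j)) := by
      rw [Q.sf_sign true j]
      rcases Bool.eq_false_or_eq_true (q i).1 with h | h <;>
        rcases Bool.eq_false_or_eq_true (q j).1 with h' | h' <;> simp [h] at hi <;> simp [h'] at hj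
      · left; exact mul_left_cancel (mul_right_cancel (hi.trans hj.symm))
      · right
        refine mul_left_cancel (a := c) (mul_right_cancel (b := c⁻¹) (hi.trans ?_))
        rw [← hj]; simp
      · right
        refine mul_left_cancel (a := c) (mul_right_cancel (b := c⁻¹) (hi.trans ?_))
        simp [hj]
      · left; exact mul_left_cancel (mul_right_cancel (hi.trans hj.symm))
    rcases hsame with h | h
    · exact hne (sf_eq (false, i) (false, j) (Q.w2_inj h))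
    · exact hne (sf_eq (false, i) (true, j) (Q.w2_inj h))
  refine ⟨Equiv.ofBijective _ (Finite.injective_iff_bijective.1 hinj), fun i => ⟨(q i).1, hq i⟩⟩

theorem Quat.gen2_rel (g : Fin 2) : Q.Rel (Q.gen2 g) (gperm g) := fun i => by
  obtain ⟨b, hb⟩ := gperm_spec g i
  exact ⟨b, by rw [Q.gen2_conj, hb]⟩

/-- paths are realised -/
theorem Quat.exists_path2 (l : List (Fin 2)) : ∃ c ∈ Q.N4, Q.Rel c (pperm l) := by
  induction l using List.reverseRecOn with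
  | nil => exact ⟨1, one_mem _, Quat.Rel.one Q⟩
  | append_singleton l g ih =>
    obtain ⟨c, hc, hr⟩ := ih
    refine ⟨Q.gen2 g * c, mul_mem (Q.gen2_N4 g) hc, ?_⟩
    rw [show pperm (l ++ [g]) = gperm g * pperm l by simp [pperm, List.foldl_append]]
    exact Quat.Rel.mul Q (Q.gen2_rel g) hr

/-- a matrix commuting with the group is scalar -/
theorem Quat.irr2 (M : Hm 2 F) (hM : ∀ i : Fin 4, M * Q.mo (wm2 (five i.castSucc)) = Q.mo (wm2 (five i.castSucc)) * M) :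
    ∃ a : F, M = a • 1 := by
  have h0 := hM 0
  have h1 := hM 1
  have hk : ∀ k : Fin 8, (∃ i : Fin 4, ∃ s : Bool, 2 ≤ i.1 ∧ wmul2 (wmul2 (five 0) (five 1)) (five i.castSucc) =
      ((if s then qm 4 k else k), 0, 0)) → M * Q.mo (wm2 (k, 0, 0)) = Q.mo (wm2 (k, 0, 0)) * M := by
    rintro k ⟨i, s, -, h⟩
    have e : M * Q.mo (wm2 (wmul2 (wmul2 (five 0) (five 1)) (five i.castSucc))) =
        Q.mo (wm2 (wmul2 (wmul2 (five 0) (five 1)) (five i.castSucc))) * M := by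
      rw [← wm2_mul, ← wm2_mul, Q.mo_mul, Q.mo_mul, ← mul_assoc, ← mul_assoc,
        show M * Q.mo (wm2 (five 0)) = Q.mo (wm2 (five 0)) * M from h0, mul_assoc (Q.mo (wm2 (five 0))) M,
        show M * Q.mo (wm2 (five 1)) = Q.mo (wm2 (five 1)) * M from h1, ← mul_assoc, mul_assoc _ M, hM,
        ← mul_assoc]
    rw [h] at e
    cases s
    · exact e
    · rw [show ((if true = true then qm 4 k else k), (0 : Fin 2), (0 : Fin 2)) = wmul2 (4, 0, 0) (k, 0, 0) by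
        simp [wmul2, par2], ← wm2_mul, Q.mo_mul, wm2_negOne, Q.mo_negOne] at e
      simpa using e
  have hI := hk 1 ⟨2, by decide⟩
  have hJ := hk 2 ⟨3, by decide⟩
  have uI : Q.u 1 = Q.I := by simp [Quat.u, q8, Q.ι_eq]
  have uJ : Q.u 2 = Q.J := by simp [Quat.u, q8, Q.ι_eq]
  have u4 : Q.u (qm 4 0) = -1 := by rw [show qm 4 0 = 4 by decide, Q.u_four]
  have m2 : ∀ X : M2 F, X = -X → X = 0 := fun X h => by
    have : (2 : F) • X = 0 := by rw [two_smul]; exact eq_neg_iff_add_eq_zero.1 h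
    exact (smul_eq_zero.1 this).resolve_left Q.two
  have z : ∀ (i : Fin 2) (j : Fin 2), i ≠ j → M i j = 0 := by
    intro i j hij
    have e := congrFun (congrFun h0 i) j
    simp only [Matrix.mul_apply, Fin.sum_univ_two, Quat.mo, wm2, five, Matrix.of_apply] at e
    apply m2
    fin_cases i <;> fin_cases j <;> simp [par2, u4, Q.u_zero, Q.u_four] at hij e ⊢ <;>
      first | exact e | exact e.symm
  have heq : M 1 1 = M 0 0 := by
    have e := congrFun (congrFun h1 0) 1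
    simp [Matrix.mul_apply, Fin.sum_univ_two, Quat.mo, wm2, five, par2, Q.u_zero] at e
    exact e.symm
  have cI : M 0 0 * Q.I = Q.I * M 0 0 := by
    have e := congrFun (congrFun hI 0) 0
    simpa [Matrix.mul_apply, Fin.sum_univ_two, Quat.mo, wm2, par2, uI] using e
  have cJ : M 0 0 * Q.J = Q.J * M 0 0 := by
    have e := congrFun (congrFun hJ 0) 0
    simpa [Matrix.mul_apply, Fin.sum_univ_two, Quat.mo, wm2, par2, uJ] using e
  obtain ⟨a, ha⟩ := Q.scalar_of_commute cI cJ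
  refine ⟨a, Matrix.ext fun i j => ?_⟩
  rw [Matrix.smul_apply, Matrix.one_apply]
  by_cases hij : i = j
  · subst hij
    rw [if_pos rfl]
    fin_cases i
    · exact ha
    · exact heq.trans ha
  · rw [if_neg hij, smul_zero, z i j hij]

theorem scal_sq {a : F} {g : (Hm 2 F)ˣ} (hg : g ∈ Iso 2 F) (ha : (g : Hm 2 F) = a • 1) : g = 1 ∨ g = -1 := by
  have h := mem_Iso.1 hg
  rw [ha, hst_smul, hst_one, smul_mul_smul_comm, mul_one] at h
  have h' := congrFun (congrFun (congrFun (congrFun h 0) 0) 0) 0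
  simp at h'
  rcases mul_self_eq_one_iff.1 (by linear_combination h' : a * a = 1) with rfl | rfl
  · exact Or.inl (Units.ext (by rw [ha, one_smul]; rfl))
  · exact Or.inr (Units.ext (by rw [ha, neg_smul, one_smul]; rfl))

/-- an element fixing the frame up to signs lies in the group -/
theorem Quat.mem_of_rel_one {c : (Hm 2 F)ˣ} (hc : c ∈ Iso 2 F) (h : Q.Rel c 1) : c ∈ Q.R4 := by
  choose b hb using h
  obtain ⟨r, hr⟩ := sign_word (b (0 : Fin 4).castSucc) (b (1 : Fin 4).castSucc) (b (2 : Fin 4).castSucc)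
    (b (3 : Fin 4).castSucc)
  have hd : ∀ i : Fin 4, ((Q.w2 r)⁻¹ * c) * Q.w2 (five i.castSucc) =
      Q.w2 (five i.castSucc) * ((Q.w2 r)⁻¹ * c) := by
    intro i
    have e1 : c * Q.w2 (five i.castSucc) * c⁻¹ = Q.w2 r * Q.w2 (five i.castSucc) * (Q.w2 r)⁻¹ := by
      rw [hb, Q.w2_inv, ← Q.w2_mul, ← Q.w2_mul, hr]
      congr 2
      fin_cases i <;> rfl
    rw [mul_inv_eq_iff_eq_mul] at e1
    rw [mul_assoc, e1]
    group
  obtain ⟨a, ha⟩ := Q.irr2 ((((Q.w2 r)⁻¹ * c) : (Hm 2 F)ˣ) : Hm 2 F) fun i => by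
    rw [← Q.w2_val, ← Units.val_mul, hd, Units.val_mul]
  rcases scal_sq (mul_mem (inv_mem (Q.w2_iso r)) hc) ha with e | e
  · rw [inv_mul_eq_one] at e; rw [← e]; exact Q.w2_mem r
  · rw [inv_mul_eq_iff_eq_mul, mul_neg_one] at e
    exact ⟨wmul2 (4, 0, 0) r, by rw [Q.w2_mul, Q.w2_neg, e, neg_one_mul]⟩

end CfsgLib.MaxSub.SpEightSymp
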