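import Cfsg.Agent.Lib.MaxSub.SpEightSymp.Two

/-!
Maximality of the normaliser in degree two, and the generation of all isometries by the conjugates of a
noncentral involution of the group.
-/

set_option autoImplicit false
set_option linter.unusedSectionVars false
set_option linter.style.haveILetI false

namespace CfsgLib.MaxSub.SpEightSymp

open Matrix Module Cfsg.Geo CfsgLib.MaxSub.SymFour
open scoped MatrixGroups commutatorElement

variable {F : Type*} [Field F] (Q : Quat F)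

/-- the group as matrices of degree four -/
def Quat.R4m : Subgroup (GL (Fin 2 ⊕ Fin 2) F) := Q.R4.map (bigU 2 F).toMonoidHom

theorem w2_sq_cases : ∀ v : W2, wmul2 v v = (0, 0, 0) ∨ wmul2 v v = (4, 0, 0) := by decide +kernel

theorem w2_comm_cases : ∀ v w : W2, wmul2 v w = wmul2 w v ∨ wmul2 v w = wmul2 (4, 0, 0) (wmul2 w v) := by
  decide +kernel

theorem w2_center : ∀ v : W2, (∀ w, wmul2 v w = wmul2 w v) → v = (0, 0, 0) ∨ v = (4, 0, 0) := by decide +kernel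

theorem w2_minus : ∀ v w : W2, wmul2 v v = (0, 0, 0) → wmul2 w w = (0, 0, 0) → wmul2 v w = wmul2 w v →
    v ≠ (0, 0, 0) → v ≠ (4, 0, 0) → w = (0, 0, 0) ∨ w = (4, 0, 0) ∨ w = v ∨ w = wmul2 (4, 0, 0) v := by
  decide +kernel

theorem Quat.bigU_neg : bigU 2 F (-1 : (Hm 2 F)ˣ) = -1 := by
  refine Units.ext ?_
  rw [bigU_val, Units.val_neg, Units.val_one, map_neg, map_one]; rfl

/-- the word of a matrix of the group -/
theorem Quat.mem_R4m {y : GL (Fin 2 ⊕ Fin 2) F} : y ∈ Q.R4m ↔ ∃ v, bigU 2 F (Q.w2 v) = y := by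
  constructor
  · rintro ⟨_, ⟨v, rfl⟩, rfl⟩; exact ⟨v, rfl⟩
  · rintro ⟨v, rfl⟩; exact ⟨_, Q.w2_mem v, rfl⟩

theorem Quat.bigU_w2_mul (v w : W2) : bigU 2 F (Q.w2 (wmul2 v w)) = bigU 2 F (Q.w2 v) * bigU 2 F (Q.w2 w) := by
  rw [Q.w2_mul, map_mul]

theorem Quat.card_R4m : Nat.card Q.R4m = 32 := by
  rw [← Nat.card_eq_of_bijective (fun v : W2 => (⟨bigU 2 F (Q.w2 v), Q.mem_R4m.2 ⟨v, rfl⟩⟩ : Q.R4m))
    ⟨fun a b h => Q.w2_inj ((bigU 2 F).injective (congrArg Subtype.val h)), fun ⟨y, hy⟩ => by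
      obtain ⟨v, rfl⟩ := Q.mem_R4m.1 hy; exact ⟨v, rfl⟩⟩]
  simp

theorem Quat.card_center_R4m : Nat.card (Subgroup.center Q.R4m) = 2 := by
  let f : Bool → Q.R4m := fun b => ⟨bigU 2 F (Q.w2 (if b then (4, 0, 0) else (0, 0, 0))), Q.mem_R4m.2 ⟨_, rfl⟩⟩
  have hc : ∀ b, f b ∈ Subgroup.center Q.R4m := by
    intro b
    refine Subgroup.mem_center_iff.2 fun y => Subtype.ext ?_
    cases b
    · simp [f, Q.w2_one]
    · simp [f, Q.w2_neg, Quat.bigU_neg]
  rw [← Nat.card_eq_of_bijective (fun b => (⟨f b, hc b⟩ : Subgroup.center Q.R4m)) ⟨?_, ?_⟩]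
  · simp
  · intro a b h
    have h' := Q.w2_inj ((bigU 2 F).injective (congrArg (fun x : Subgroup.center Q.R4m => ((x : Q.R4m) : GL (Fin 2 ⊕ Fin 2) F)) h))
    revert h'; cases a <;> cases b <;> simp
  · rintro ⟨⟨y, hy⟩, hyc⟩
    obtain ⟨v, rfl⟩ := Q.mem_R4m.1 hy
    rcases w2_center v (fun w => Q.w2_inj ((bigU 2 F).injective (by
      rw [Q.bigU_w2_mul, Q.bigU_w2_mul]
      exact congrArg (fun u : Q.R4m => (u : GL (Fin 2 ⊕ Fin 2) F))
        (Subgroup.mem_center_iff.1 hyc ⟨_, Q.mem_R4m.2 ⟨w, rfl⟩⟩).symm))) with rfl | rfl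
    · exact ⟨false, rfl⟩
    · exact ⟨true, rfl⟩

theorem Quat.pauli : Pauli Q.R4m where
  dim := by simp
  two := Q.two
  irr := fun M hM => by
    obtain ⟨m, rfl⟩ := (big 2 F).surjective M
    obtain ⟨a, rfl⟩ := Q.irr2 m fun i => by
      have h := hM _ (Q.mem_R4m.2 ⟨five i.castSucc, rfl⟩)
      rw [bigU_val, ← map_mul, ← map_mul] at h
      exact (big 2 F).injective h
    exact ⟨a, by rw [big_smul, map_one]⟩
  quot := by
    have := Subgroup.card_mul_index (Subgroup.center Q.R4m)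
    rw [Subgroup.index_eq_card, Q.card_center_R4m, Q.card_R4m] at this
    omega
  negMem := Q.mem_R4m.2 ⟨(4, 0, 0), by rw [Q.w2_neg, Quat.bigU_neg]⟩
  sq := fun y hy => by
    obtain ⟨v, rfl⟩ := Q.mem_R4m.1 hy
    rw [← Q.bigU_w2_mul]
    rcases w2_sq_cases v with h | h <;> rw [h]
    · exact Or.inl (by rw [Q.w2_one, map_one])
    · exact Or.inr (by rw [Q.w2_neg, Quat.bigU_neg])
  comm := fun x hx y hy => by
    obtain ⟨v, rfl⟩ := Q.mem_R4m.1 hx
    obtain ⟨w, rfl⟩ := Q.mem_R4m.1 hy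
    rw [← Q.bigU_w2_mul, ← Q.bigU_w2_mul]
    rcases w2_comm_cases v w with h | h <;> rw [h]
    · exact Or.inl rfl
    · exact Or.inr (by rw [Q.bigU_w2_mul, Q.w2_neg, Quat.bigU_neg, neg_one_mul])

theorem Quat.minus_R4m : IsOfMinusType 2 Q.R4m := by
  intro A hA hsq
  classical
  haveI := hA
  choose w hw using fun x : A => Q.mem_R4m.1 (x : Q.R4m).2
  have hinj : Function.Injective w := fun a b h => Subtype.ext (Subtype.ext (by rw [← hw a, ← hw b, h]))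
  have h1 : ∀ a, wmul2 (w a) (w a) = (0, 0, 0) := fun a => Q.w2_inj ((bigU 2 F).injective (by
    rw [Q.bigU_w2_mul, hw, Q.w2_one, map_one]
    exact congrArg (fun u : Q.R4m => (u : GL (Fin 2 ⊕ Fin 2) F)) (hsq _ a.2)))
  have h2 : ∀ a b, wmul2 (w a) (w b) = wmul2 (w b) (w a) := fun a b => Q.w2_inj ((bigU 2 F).injective (by
    rw [Q.bigU_w2_mul, Q.bigU_w2_mul, hw, hw]
    exact congrArg (fun u : A => ((u : Q.R4m) : GL (Fin 2 ⊕ Fin 2) F)) (mul_comm' a b)))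
  obtain ⟨S, hS4, hS⟩ : ∃ S : Finset W2, S.card ≤ 4 ∧ ∀ a, w a ∈ S := by
    by_cases hn : ∃ a, w a ≠ (0, 0, 0) ∧ w a ≠ (4, 0, 0)
    · obtain ⟨a, ha, ha'⟩ := hn
      refine ⟨{(0, 0, 0), (4, 0, 0), w a, wmul2 (4, 0, 0) (w a)}, Finset.card_le_four, fun b => ?_⟩
      rcases w2_minus _ _ (h1 a) (h1 b) (h2 a b) ha ha' with h | h | h | h <;> simp [h]
    · push Not at hn
      refine ⟨{(0, 0, 0), (4, 0, 0)}, le_trans Finset.card_le_two (by norm_num), fun b => ?_⟩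
      by_cases hb : w b = (0, 0, 0)
      · simp [hb]
      · simp [hn b hb]
  have := Nat.card_le_card_of_injective (fun a => (⟨w a, hS a⟩ : S)) fun a b h => hinj (congrArg Subtype.val h)
  rw [Nat.card_eq_fintype_card (α := S), Fintype.card_coe] at this
  omega

/-- the normaliser is maximal -/
theorem Quat.two_maximal [Fintype F] (hp : (Fintype.card F).Prime) {H : Subgroup (Hm 2 F)ˣ} (hN : Q.N4 ≤ H)
    (hH : H ≤ Iso 2 F) : H ≤ Q.N4 ∨ Iso 2 F ≤ H := by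
  have hsp : ∀ g, g ∈ Iso 2 F ↔ bigU 2 F g ∈ Cfsg.spGL 2 F := fun g => bigU_mem.symm
  have hR : Q.R4m ≤ Cfsg.spGL 2 F := by
    rintro _ ⟨y, hy, rfl⟩; exact bigU_mem.2 (Q.R4_le hy)
  have hmax := CfsgLib.MaxSub.SpFive.sympType_maximal hp Q.two Q.pauli hR Q.card_center_R4m Q.minus_R4m
  have hnorm : ∀ g, bigU 2 F g ∈ subgroupNormalizer Q.R4m ↔ g ∈ Subgroup.normalizer (Q.R4 : Set (Hm 2 F)ˣ) := by
    intro g
    show bigU 2 F g ∈ Subgroup.normalizer (Q.R4m : Set _) ↔ _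
    have e := Subgroup.map_normalizer_eq_of_bijective Q.R4 (f := (bigU 2 F).toMonoidHom) (bigU 2 F).bijective
    rw [Quat.R4m, ← e]
    exact Subgroup.mem_map_iff_mem (f := (bigU 2 F).toMonoidHom) (bigU 2 F).injective
  rcases hmax.2 (H.map (bigU 2 F).toMonoidHom) (fun x hx => by
      obtain ⟨g, rfl⟩ := (bigU 2 F).surjective x
      exact ⟨g, hN ⟨(hnorm g).1 hx.1, (hsp g).2 hx.2⟩, rfl⟩)
    (by rintro _ ⟨g, hg, rfl⟩; exact (hsp g).1 (hH hg)) with h | h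
  · refine Or.inl fun g hg => ?_
    have h' : bigU 2 F g ∈ subgroupNormalizer Q.R4m ⊓ Cfsg.spGL 2 F := h ▸ ⟨g, hg, rfl⟩
    exact ⟨(hnorm g).1 h'.1, (hsp g).2 h'.2⟩
  · refine Or.inr fun g hg => ?_
    have h' : bigU 2 F g ∈ H.map (bigU 2 F).toMonoidHom := h.symm ▸ (hsp g).1 hg
    exact (Subgroup.mem_map_iff_mem (f := (bigU 2 F).toMonoidHom) (bigU 2 F).injective).1 h'

/-- a subgroup normalised by all isometries and containing a frame vector is everything -/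
theorem Quat.normal_full [Fintype F] {K : Subgroup (Hm 2 F)ˣ} (hK : K ≤ Iso 2 F)
    (hn : ∀ g ∈ Iso 2 F, ∀ k ∈ K, g * k * g⁻¹ ∈ K) (hz : Q.w2 (five 0) ∈ K) : Iso 2 F ≤ K := by
  let e : Matrix.symplecticGroup (Fin 2) F ≃* Cfsg.spGL 2 F := CfsgLib.MaxSub.SpFive.spGLEquiv
  let f : Matrix.symplecticGroup (Fin 2) F →* (Hm 2 F)ˣ :=
    (bigU 2 F).symm.toMonoidHom.comp ((Cfsg.spGL 2 F).subtype.comp e.toMonoidHom)
  have hf : ∀ A, f A ∈ Iso 2 F := fun A => bigU_mem.1 (by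
    show bigU 2 F ((bigU 2 F).symm (e A : GL (Fin 2 ⊕ Fin 2) F)) ∈ _
    rw [MulEquiv.apply_symm_apply]; exact (e A).2)
  have hfs : ∀ g ∈ Iso 2 F, ∃ A, f A = g := fun g hg => ⟨e.symm ⟨bigU 2 F g, bigU_mem.2 hg⟩, by
    show (bigU 2 F).symm ((e (e.symm ⟨bigU 2 F g, bigU_mem.2 hg⟩) : Cfsg.spGL 2 F) : GL (Fin 2 ⊕ Fin 2) F) = g
    rw [MulEquiv.apply_symm_apply]; exact (bigU 2 F).symm_apply_apply g⟩
  have hnormal : (K.comap f).Normal := ⟨fun k hk A => by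
    show f (A * k * A⁻¹) ∈ K
    rw [map_mul, map_mul, map_inv]; exact hn _ (hf A) _ hk⟩
  obtain ⟨A₀, hA₀⟩ := hfs _ (Q.w2_iso (five 0))
  have h3 : 3 ≤ Fintype.card F := by
    have h1 : 1 < Fintype.card F := Fintype.one_lt_card
    by_contra hlt
    have hcard : Fintype.card F = 2 := by omega
    have := FiniteField.cast_card_eq_zero F
    rw [hcard] at this
    exact Q.two (by exact_mod_cast this)
  haveI := CfsgLib.Classical.isSimpleGroup_psp (F := F) 2 le_rfl fun _ => h3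
  let π := QuotientGroup.mk' (Subgroup.center (Matrix.symplecticGroup (Fin 2) F))
  haveI hN2 : ((K.comap f).map π).Normal := Subgroup.Normal.map hnormal π (QuotientGroup.mk'_surjective _)
  rcases Subgroup.Normal.eq_bot_or_eq_top hN2 with h | h
  · exfalso
    have hc : A₀ ∈ Subgroup.center (Matrix.symplecticGroup (Fin 2) F) := by
      have hm : π A₀ ∈ (K.comap f).map π := ⟨A₀, show f A₀ ∈ K by rw [hA₀]; exact hz, rfl⟩
      rw [h, Subgroup.mem_bot] at hm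
      exact (QuotientGroup.eq_one_iff A₀).1 hm
    obtain ⟨A₁, hA₁⟩ := hfs _ (Q.w2_iso (five 1))
    have hcomm := congrArg f (Subgroup.mem_center_iff.1 hc A₁)
    rw [map_mul, map_mul, hA₀, hA₁, ← Q.w2_mul, ← Q.w2_mul] at hcomm
    have := Q.w2_inj hcomm
    revert this; decide
  · intro g hg
    obtain ⟨A, rfl⟩ := hfs g hg
    suffices K.comap f = ⊤ by
      have hA : A ∈ K.comap f := by rw [this]; trivial
      exact hA
    have hsup : ∀ B, ∃ k ∈ K.comap f, ∃ c ∈ Subgroup.center (Matrix.symplecticGroup (Fin 2) F), B = k * c := by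
      intro B
      have hB : π B ∈ (K.comap f).map π := by rw [h]; trivial
      obtain ⟨k, hk, hkB⟩ := hB
      exact ⟨k, hk, k⁻¹ * B, (QuotientGroup.eq).1 hkB, by group⟩
    refine eq_top_iff.2 ?_
    rw [← CfsgLib.Classical.commutator_symplecticGroup (F := F) 2 (Or.inr (Or.inl ⟨rfl, h3⟩)), commutator_def,
      Subgroup.commutator_le]
    intro x _ y _
    obtain ⟨k, hk, c, hc, rfl⟩ := hsup x
    obtain ⟨l, hl, d, hd, rfl⟩ := hsup y
    have e1 := Subgroup.mem_center_iff.1 hc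
    have e2 := Subgroup.mem_center_iff.1 hd
    have : ⁅k * c, l * d⁆ = k * l * k⁻¹ * l⁻¹ := by
      rw [commutatorElement_def, show k * c * (l * d) * (k * c)⁻¹ * (l * d)⁻¹ =
        k * (c * l) * (d * c⁻¹) * k⁻¹ * d⁻¹ * l⁻¹ by group, ← e1, ← e2 c⁻¹]
      have e3 : d * k⁻¹ = k⁻¹ * d := (e2 _).symm
      calc k * (l * c) * (c⁻¹ * d) * k⁻¹ * d⁻¹ * l⁻¹ = k * l * (d * k⁻¹) * d⁻¹ * l⁻¹ := by group
        _ = k * l * k⁻¹ * l⁻¹ := by rw [e3]; group
    rw [this]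
    exact mul_mem (mul_mem (mul_mem hk hl) (inv_mem hk)) (inv_mem hl)

end CfsgLib.MaxSub.SpEightSymp
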