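import Cfsg.Agent.Lib.MaxSub.SpEightSymp.Table

/-!
The elements of the degree-four symplectic-type group as isometries, and transitivity of its normaliser.
-/

set_option autoImplicit false
set_option linter.unusedSectionVars false

namespace CfsgLib.MaxSub.SpEightSymp

open Matrix Module

variable {F : Type*} [Field F] (Q : Quat F)

/-- the matrix of a word -/
def Quat.w (v : W4) : (Hm 4 F)ˣ := Q.mu (wm v) (wm (winv v)) (wm_inv v)

theorem Quat.w_val (v : W4) : (Q.w v : Hm 4 F) = Q.mo (wm v) := rfl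

theorem Quat.w_mul (v w : W4) : Q.w (wmul v w) = Q.w v * Q.w w := by
  refine Units.ext ?_
  rw [Units.val_mul, Q.w_val, Q.w_val, Q.w_val, ← Q.mo_mul, wm_mul]

theorem Quat.w_one : Q.w (0, 0, 0) = 1 := by
  refine Units.ext ?_
  rw [Q.w_val, wm_one, Q.mo_one]; rfl

theorem Quat.w_inv (v : W4) : (Q.w v)⁻¹ = Q.w (winv v) := Units.ext rfl

theorem Quat.w_neg : Q.w (4, 0, 0) = -1 := by
  refine Units.ext ?_
  rw [Q.w_val, show wm (4, 0, 0) = Mn.negOne 4 by decide +kernel, Q.mo_negOne]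
  rfl

theorem Quat.w_inj : Function.Injective Q.w := fun v w h =>
  wm_injective (Q.mo_inj (congrArg Units.val h))

/-- the group of order `128` -/
def Quat.R8 : Subgroup (Hm 4 F)ˣ where
  carrier := Set.range Q.w
  one_mem' := ⟨_, Q.w_one⟩
  mul_mem' := by rintro _ _ ⟨v, rfl⟩ ⟨w, rfl⟩; exact ⟨_, Q.w_mul v w⟩
  inv_mem' := by rintro _ ⟨v, rfl⟩; exact ⟨_, (Q.w_inv v).symm⟩

theorem Quat.w_mem (v : W4) : Q.w v ∈ Q.R8 := ⟨v, rfl⟩

theorem Quat.w_iso (v : W4) : Q.w v ∈ Iso 4 F := Q.mu_iso _ _ _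

theorem Quat.R8_le : Q.R8 ≤ Iso 4 F := by rintro _ ⟨v, rfl⟩; exact Q.w_iso v

theorem Quat.card_R8 : Nat.card Q.R8 = 128 := by
  rw [← Nat.card_eq_of_bijective (fun v : W4 => (⟨Q.w v, Q.w_mem v⟩ : Q.R8))
    ⟨fun a b h => Q.w_inj (congrArg Subtype.val h), fun ⟨_, v, hv⟩ => ⟨v, Subtype.ext hv⟩⟩]
  simp

/-- the isometries normalising the group -/
def Quat.N8 : Subgroup (Hm 4 F)ˣ := Subgroup.normalizer (Q.R8 : Set (Hm 4 F)ˣ) ⊓ Iso 4 F

theorem Quat.w_N8 (v : W4) : Q.w v ∈ Q.N8 := ⟨Subgroup.le_normalizer (Q.w_mem v), Q.w_iso v⟩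

/-- the scale of a generator -/
def gs (F : Type*) [Field F] (g : Fin 9) : F := if gN g = 1 then 1 else 2⁻¹

theorem gs_sq (g : Fin 9) (h2 : (2 : F) ≠ 0) : gs F g * gs F g * (gN g : F) = 1 := by
  rcases gN_cases g with h | h <;> rw [gs, h]
  · simp
  · rw [if_neg (by norm_num)]; push_cast; field_simp; norm_num

theorem Quat.cast_scal (c : ℤ) : Q.cast 4 ((c : Qz) • (1 : Zm 4)) = (c : F) • (1 : Hm 4 F) := by
  refine Matrix.ext fun i j => ?_
  rw [Q.cast_apply, Matrix.smul_apply, Matrix.smul_apply, smul_eq_mul, map_mul, map_intCast, Matrix.one_apply,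
    Matrix.one_apply, apply_ite Q.ι, map_one, map_zero]
  split
  · rw [mul_one, ← Algebra.algebraMap_eq_smul_one, map_intCast]
  · simp

/-- a generator -/
def Quat.gen (g : Fin 9) : (Hm 4 F)ˣ where
  val := gs F g • Q.cast 4 (gz g)
  inv := gs F g • Q.cast 4 (zst (gz g))
  val_inv := by
    rw [smul_mul_smul_comm, ← map_mul, (gz_unit g).1, Q.cast_scal, smul_smul, gs_sq g Q.two, one_smul]
  inv_val := by
    rw [smul_mul_smul_comm, ← map_mul, (gz_unit g).2, Q.cast_scal, smul_smul, gs_sq g Q.two, one_smul]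

theorem Quat.gen_iso (g : Fin 9) : Q.gen g ∈ Iso 4 F := by
  show hst (gs F g • Q.cast 4 (gz g)) * (gs F g • Q.cast 4 (gz g)) = 1
  rw [hst_smul, ← Q.cast_zst]
  exact (Q.gen g).inv_mul

theorem Quat.gen_conj (g : Fin 9) (v : W4) : Q.gen g * Q.w v * (Q.gen g)⁻¹ = Q.w (act g v) := by
  have hp : ∀ i : Fin 16, Q.gen g * Q.w (piece i) = Q.w (gimg g i) * Q.gen g := fun i => by
    refine Units.ext ?_
    show (gs F g • Q.cast 4 (gz g)) * Q.mo (wm (piece i)) = Q.mo (wm (gimg g i)) * (gs F g • Q.cast 4 (gz g))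
    rw [smul_mul_assoc, mul_smul_comm, ← Q.cast_z, ← Q.cast_z, ← map_mul, ← map_mul, gimg_spec]
  rw [mul_inv_eq_iff_eq_mul]
  conv_lhs => rw [piece_mul v, Q.w_mul, Q.w_mul, ← mul_assoc, ← mul_assoc, hp, mul_assoc (Q.w _) (Q.gen g), hp,
    ← mul_assoc, mul_assoc _ (Q.gen g), hp, ← mul_assoc]
  rw [act, Q.w_mul, Q.w_mul]

theorem Quat.gen_N8 (g : Fin 9) : Q.gen g ∈ Q.N8 := by
  refine ⟨Subgroup.mem_normalizer_iff.2 fun x => ⟨?_, ?_⟩, Q.gen_iso g⟩
  · rintro ⟨v, rfl⟩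
    exact ⟨_, (Q.gen_conj g v).symm⟩
  · intro hx
    obtain ⟨v, hv⟩ := hx
    have hsurj : Function.Surjective (act g) := Finite.surjective_of_injective fun a b h => Q.w_inj
      (mul_left_cancel (mul_right_cancel ((Q.gen_conj g a).trans ((congrArg Q.w h).trans (Q.gen_conj g b).symm))))
    obtain ⟨u, rfl⟩ := hsurj v
    exact ⟨u, mul_left_cancel (mul_right_cancel ((Q.gen_conj g u).trans hv))⟩

/-- conjugation along a path -/
theorem Quat.exists_path (l : List (Fin 9)) : ∃ h ∈ Q.N8, ∀ v, h * Q.w v * h⁻¹ = Q.w (actL l v) := by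
  induction l using List.reverseRecOn with
  | nil => exact ⟨1, one_mem _, fun v => by simp [actL]⟩
  | append_singleton l g ih =>
    obtain ⟨h, hh, hv⟩ := ih
    refine ⟨Q.gen g * h, mul_mem (Q.gen_N8 g) hh, fun v => ?_⟩
    rw [show actL (l ++ [g]) v = act g (actL l v) by simp [actL, List.foldl_append], ← Q.gen_conj, ← hv]
    group

/-- transitivity on noncentral involutions -/
theorem Quat.exists_to_point {v : W4} (hv : sing v = true) :
    ∃ h ∈ Q.N8, h * Q.w (0, 0, 2) * h⁻¹ = Q.w v := by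
  obtain ⟨p, hp, rfl⟩ := List.mem_map.1 (pointPaths_spec.2 v hv)
  obtain ⟨h, hh, hc⟩ := Q.exists_path p.2
  exact ⟨h, hh, by rw [hc, pointPaths_spec.1 p hp]⟩

/-- transitivity on commuting pairs -/
theorem Quat.exists_to_pair {v : W4} (hv : sing v = true) (hc' : wcomm v (0, 0, 2) = true)
    (h1 : v ≠ (0, 0, 2)) (h2 : v ≠ (4, 0, 2)) :
    ∃ h ∈ Q.N8, h * Q.w (0, 0, 2) * h⁻¹ = Q.w (0, 0, 2) ∧ h * Q.w (0, 0, 1) * h⁻¹ = Q.w v := by
  obtain ⟨p, hp, rfl⟩ := List.mem_map.1 (pairPaths_all v (by simp [pairable, hv, hc', h1, h2]))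
  obtain ⟨h, hh, hc⟩ := Q.exists_path p.2
  exact ⟨h, hh, by rw [hc, (pairPaths_path p hp).1], by rw [hc, (pairPaths_path p hp).2]⟩

end CfsgLib.MaxSub.SpEightSymp
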